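/-
Type M(24): the partner group modulo its centre is of type M(23).
-/
import Cfsg.Agent.Lib.ThreeTrans.M23.Primitive
import Cfsg.Agent.Lib.ThreeTrans.M23.Invol

set_option autoImplicit false
set_option linter.unusedSectionVars false

namespace CfsgThreeTrans.M24

open Cfsg CfsgLib CfsgThreeTrans.M22
open CfsgThreeTrans.M23 (Hs Qt qt Et bar bar_eq)

universe u

variable {G : Type u} [Group G] [Finite G] {D : Set G}

/-- The data at one transposition. -/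
structure Base (D : Set G) where
  t : G
  ht : t ∈ D
  cls : IsThreeTranspositionClass (Et D t)
  prim : IsPrimitiveUnderConj (Et D t)
  ty : IsOfTypeM23 (Qt D t) (Et D t)
  core2 : pCore 2 ↥(Hs D t) ≤ Subgroup.center ↥(Hs D t)
  two : ∃ a ∈ {x : ↥(Hs D t) | (x : G) ∈ Ds D t}, ∃ b ∈ {x : ↥(Hs D t) | (x : G) ∈ Ds D t}, a ≠ b
  hcls : IsThreeTranspositionClass {x : ↥(Hs D t) | (x : G) ∈ Ds D t}
  inner : M23.Base (Et D t)


/-- Data exist in type M(24). -/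
theorem exists_base (hD : IsThreeTranspositionClass D) (hp : IsPrimitiveUnderConj D) (h24 : IsOfTypeM24 G D) :
    Nonempty (Base D) := by
  obtain ⟨-, t, ht, c, -, -, h23, -⟩ := h24
  change IsOfTypeM23 (Qt D t) (Et D t) at h23
  have hna : ∃ e ∈ Ds D t, ∃ f ∈ Ds D t, ¬ Commute e f := by
    obtain ⟨-, x, -, y, -, hxy, -⟩ := id h23
    exact noncommute_of_quot ⟨x, y, hxy⟩
  have hw : ∃ a ∈ D, ∃ b ∈ D, a ≠ b ∧ Commute a b := by
    obtain ⟨e, he, -⟩ := hna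
    exact ⟨t, ht, e, he.1, he.2.1.symm, he.2.2⟩
  obtain ⟨c2, c3⟩ := cores_of_prim hD hp hw
  have hcls := partner_class hD (Ds_transitive_of_cores hD c2 c3 ht) (by obtain ⟨e, he, -⟩ := hna; exact ⟨e, he⟩)
  have hbar := map_class hcls (qt D t) (QuotientGroup.mk'_surjective _) (image_ne_one hcls hna)
  have hcore : pCore 2 ↥(Hs D t) ≤ Subgroup.center ↥(Hs D t) := core_of_quot_bot (le_bot_iff.mp (by
    rw [← h23.1]; exact (M23.cores hbar h23).1))
  obtain ⟨B⟩ := M23.exists_base' hbar h23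
  refine ⟨⟨t, ht, hbar, M23.primitive hbar h23, h23, hcore, ?_, hcls, B⟩⟩
  obtain ⟨e, he, f, hf, hef⟩ := hna
  exact ⟨⟨e, Subgroup.subset_closure he⟩, he, ⟨f, Subgroup.subset_closure hf⟩, hf,
    fun h => hef (by rw [show e = f from congrArg Subtype.val h])⟩

section
variable (hD : IsThreeTranspositionClass D) (B : Base D)
include hD B

theorem bar_mem {x : G} (hx : x ∈ Ds D B.t) : bar D B.t x ∈ Et D B.t :=
  ⟨⟨x, Subgroup.subset_closure hx⟩, hx, (bar_eq (⟨x, Subgroup.subset_closure hx⟩ : ↥(Hs D B.t))).symm⟩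

theorem bar_mul {x y : G} (hx : x ∈ Hs D B.t) (hy : y ∈ Hs D B.t) :
    bar D B.t (x * y) = bar D B.t x * bar D B.t y := by
  rw [show x * y = ((⟨x, hx⟩ * ⟨y, hy⟩ : ↥(Hs D B.t)) : G) from rfl, bar_eq, map_mul, ← bar_eq, ← bar_eq]

theorem bar_commute {x y : G} (hx : x ∈ Ds D B.t) (hy : y ∈ Ds D B.t) :
    Commute (bar D B.t x) (bar D B.t y) ↔ Commute x y := by
  set X : ↥(Hs D B.t) := ⟨x, Subgroup.subset_closure hx⟩
  set Y : ↥(Hs D B.t) := ⟨y, Subgroup.subset_closure hy⟩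
  rw [show x = (X : G) from rfl, show y = (Y : G) from rfl, bar_eq, bar_eq]
  refine ⟨fun hc => ?_, fun hc => Commute.map (show Commute X Y from Subtype.ext hc.eq) _⟩
  by_contra hnc
  have hz : X * Y ∈ Subgroup.center ↥(Hs D B.t) := by
    rw [← QuotientGroup.eq_one_iff]
    show qt D B.t (X * Y) = 1
    have e3 : qt D B.t (X * Y) ^ 3 = 1 := by
      rw [← map_pow, show (X * Y) ^ 3 = 1 from Subtype.ext (pow_three hD.1 hx.1 hy.1 hnc), map_one]
    have e2 : qt D B.t (X * Y) ^ 2 = 1 := by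
      rw [map_mul, hc.mul_pow, ← map_pow, ← map_pow, show X ^ 2 = 1 from Subtype.ext (by
        rw [pow_two]; exact mul_self hD.1 hx.1), show Y ^ 2 = 1 from Subtype.ext (by
        rw [pow_two]; exact mul_self hD.1 hy.1), map_one, one_mul]
    rwa [pow_succ, e2, one_mul] at e3
  have h1 : Commute x (x * y) := congrArg Subtype.val (Subgroup.mem_center_iff.mp hz X)
  have := (Commute.refl x).inv_right.mul_right h1
  rw [inv_mul_cancel_left] at this
  exact hnc this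

theorem bar_inj : Set.InjOn (bar D B.t) (Ds D B.t) := by
  intro x hx y hy e
  have hc : Commute x y := (bar_commute hD B hx hy).mp (e ▸ Commute.refl _)
  set X : ↥(Hs D B.t) := ⟨x, Subgroup.subset_closure hx⟩
  set Y : ↥(Hs D B.t) := ⟨y, Subgroup.subset_closure hy⟩
  refine congrArg Subtype.val (eq_of_mul_central (x := X) (y := Y) B.hcls B.two B.core2 hx hy (Subtype.ext hc.eq) ?_)
  rw [← QuotientGroup.eq_one_iff]
  show qt D B.t (X * Y) = 1
  rw [map_mul, ← bar_eq, ← bar_eq, show bar D B.t (X : G) = bar D B.t (Y : G) from e, bar_eq, ← map_mul,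
    show Y * Y = 1 from Subtype.ext (mul_self hD.1 hy.1), map_one]

theorem bar_image : bar D B.t '' Ds D B.t = Et D B.t := by
  ext q
  constructor
  · rintro ⟨x, hx, rfl⟩; exact bar_mem hD B hx
  · rintro ⟨X, hX, rfl⟩; exact ⟨X, hX, bar_eq X⟩

theorem bar_Ds {a : G} (ha : a ∈ Ds D B.t) :
    bar D B.t '' (Ds D B.t ∩ Ds D a) = Ds (Et D B.t) (bar D B.t a) := by
  ext q
  constructor
  · rintro ⟨x, ⟨hx, hxa⟩, rfl⟩
    exact ⟨bar_mem hD B hx, fun e => hxa.2.1 (bar_inj hD B hx ha e), (bar_commute hD B ha hx).mpr hxa.2.2⟩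
  · rintro ⟨hq, hne, hc⟩
    obtain ⟨x, hx, rfl⟩ : q ∈ bar D B.t '' Ds D B.t := (bar_image hD B).symm ▸ hq
    exact ⟨x, ⟨hx, hx.1, fun e => hne (by rw [e]), (bar_commute hD B ha hx).mp hc⟩, rfl⟩

theorem ncard_partners : (Ds D B.t).ncard = 31671 := by
  rw [← (M23.params B.cls B.prim B.inner).1, ← bar_image hD B, (bar_inj hD B).ncard_image]

theorem ncard_perp {a : G} (ha : a ∈ Ds D B.t) : (Ds D B.t ∩ Ds D a).ncard = 3510 := by
  rw [← M23.ncard_Ds B.cls B.inner (bar_mem hD B ha), ← bar_Ds hD B ha,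
    ((bar_inj hD B).mono Set.inter_subset_left).ncard_image]

theorem ncard_two {a b : G} (ha : a ∈ Ds D B.t) (hb : b ∈ Ds D B.t) :
    (¬ Commute a b → (Ds D B.t ∩ Ds D a ∩ Ds D b).ncard = 351) ∧
      (a ≠ b → Commute a b → (Ds D B.t ∩ Ds D a ∩ Ds D b).ncard = 693) := by
  have e : bar D B.t '' (Ds D B.t ∩ Ds D a ∩ Ds D b) =
      Ds (Et D B.t) (bar D B.t a) ∩ Ds (Et D B.t) (bar D B.t b) := by
    rw [← bar_Ds hD B ha, ← bar_Ds hD B hb,
      ← (bar_inj hD B).image_inter Set.inter_subset_left Set.inter_subset_left]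
    congr 1
    ext x
    simp only [Set.mem_inter_iff]
    tauto
  have hn := ((bar_inj hD B).mono (Set.inter_subset_left.trans Set.inter_subset_left :
    Ds D B.t ∩ Ds D a ∩ Ds D b ⊆ Ds D B.t)).ncard_image
  refine ⟨fun hnc => ?_, fun hne hc => ?_⟩
  · rw [← hn, e]
    exact (M23.params B.cls B.prim B.inner).2 _ (bar_mem hD B ha) _ (bar_mem hD B hb)
      fun h => hnc ((bar_commute hD B ha hb).mp h)
  · rw [← hn, e]
    exact M23.ncard_near B.cls B.inner (bar_mem hD B ha) ⟨bar_mem hD B hb, fun h => hne (bar_inj hD B hb ha h).symm,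
      (bar_commute hD B ha hb).mpr hc⟩

theorem ncard_Ds {d : G} (hd : d ∈ D) : (Ds D d).ncard = 31671 := by
  obtain ⟨g, rfl⟩ := cls_exists_conj hD B.ht hd
  rw [← cj_Ds hD, Set.ncard_image_of_injective _ (cj_injective g), ncard_partners hD B]

theorem to_base {a : G} (ha : a ∈ D) :
    ∃ g : G, g * B.t * g⁻¹ = a ∧ ∀ {b : G}, b ∈ Ds D a → g⁻¹ * b * g⁻¹⁻¹ ∈ Ds D B.t := by
  obtain ⟨g, hg⟩ := cls_exists_conj hD B.ht ha
  refine ⟨g, hg, fun {b} hb => ?_⟩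
  have h : g⁻¹ * b * g⁻¹⁻¹ ∈ (fun z => g⁻¹ * z * g⁻¹⁻¹) '' Ds D a := ⟨b, hb, rfl⟩
  rwa [cj_Ds hD, ← hg, show g⁻¹ * (g * B.t * g⁻¹) * g⁻¹⁻¹ = B.t by group] at h

theorem ncard_near {a b : G} (ha : a ∈ D) (hb : b ∈ Ds D a) : (Ds D a ∩ Ds D b).ncard = 3510 := by
  obtain ⟨g, rfl, hin⟩ := to_base hD B ha
  rw [← cj_inv g b, ← cj_Ds hD, ← cj_Ds hD g (g⁻¹ * b * g⁻¹⁻¹), ← Set.image_inter (cj_injective g),
    Set.ncard_image_of_injective _ (cj_injective g), ncard_perp hD B (hin hb)]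

theorem ncard_three {a b c : G} (ha : a ∈ D) (hb : b ∈ Ds D a) (hc : c ∈ Ds D a) :
    (¬ Commute b c → (Ds D a ∩ Ds D b ∩ Ds D c).ncard = 351) ∧
      (b ≠ c → Commute b c → (Ds D a ∩ Ds D b ∩ Ds D c).ncard = 693) := by
  obtain ⟨g, rfl, hin⟩ := to_base hD B ha
  have e : Ds D (g * B.t * g⁻¹) ∩ Ds D b ∩ Ds D c = (fun z => g * z * g⁻¹) ''
      (Ds D B.t ∩ Ds D (g⁻¹ * b * g⁻¹⁻¹) ∩ Ds D (g⁻¹ * c * g⁻¹⁻¹)) := by
    rw [Set.image_inter (cj_injective g), Set.image_inter (cj_injective g), cj_Ds hD, cj_Ds hD, cj_Ds hD,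
      cj_inv, cj_inv]
  rw [e, Set.ncard_image_of_injective _ (cj_injective g)]
  exact ⟨fun hn => (ncard_two hD B (hin hb) (hin hc)).1 fun h => hn ((commute_cj_iff g⁻¹).mp h),
    fun hne h => (ncard_two hD B (hin hb) (hin hc)).2 (fun e' => hne (cj_injective g⁻¹ e'))
      ((commute_cj_iff g⁻¹).mpr h)⟩

theorem has_pair : ∃ a ∈ D, ∃ b ∈ D, a ≠ b ∧ Commute a b := by
  obtain ⟨X, hX, -⟩ := B.two
  exact ⟨B.t, B.ht, X, hX.1, hX.2.1.symm, hX.2.2⟩

end

end CfsgThreeTrans.M24
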