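/-
Parameters of the transposition graph in type M(24).
-/
import Cfsg.Agent.Lib.ThreeTrans.M24.Setup
import Cfsg.Agent.Lib.ThreeTrans.M23.Params

set_option autoImplicit false
set_option linter.unusedSectionVars false

namespace CfsgThreeTrans.M24

open Cfsg CfsgLib Matrix CfsgThreeTrans.M22
open CfsgThreeTrans.M23 (card_filter)

universe u

variable {G : Type u} [Group G] [Finite G] {D : Set G}

set_option synthInstance.maxSize 2000 in
set_option synthInstance.maxHeartbeats 200000 in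
theorem far_key : ∀ a < 81, ∀ b < 41, ∀ m : ℕ, m = 41 * a + b → 891855360 % m = 0 → 1 ≤ m → m ≤ 3240 →
      (2 * 31671 + (891855360 / m + 31671) * 3510 = (891855360 / m + 31671) * m ∨
        Nat.sqrt (m * m + 12446784 - 7024 * m) * Nat.sqrt (m * m + 12446784 - 7024 * m) = m * m + 12446784 - 7024 * m) →
      m = 3240 := by
  intro a ha b hb m hm
  subst hm
  revert b
  revert a
  decide +kernel

section
variable (hD : IsThreeTranspositionClass D) (hp : IsPrimitiveUnderConj D) (B : Base D)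
include hD hp B

/-- The transposition graph away from the far parameter. -/
theorem reg_of_far [Fintype D] [DecidableRel (Adj D)] {m : ℕ}
    (hfar : ∀ a ∈ D, ∀ b ∈ D, ¬ Commute a b → (Ds D a ∩ Ds D b).ncard = m) : Srg.IsReg (Adj D) 31671 3510 m := by
  classical
  refine ⟨fun x y h => ⟨x.2, fun e => h.2.1 e.symm, h.2.2.symm⟩, fun x h => h.2.1 rfl, fun x => ?_,
    fun x y h => ?_, fun x y hne h => ?_⟩
  · rw [← ncard_Ds hD B x.2]
    exact card_filter (Ds D x.1) (fun y h => h.1) _ fun _ => Iff.rfl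
  · rw [← M24.ncard_near hD B x.2 h]
    exact card_filter (Ds D x.1 ∩ Ds D y.1) (fun y h => h.1.1) _ fun _ => Iff.rfl
  · rw [← hfar x.1 x.2 y.1 y.2 fun hc => h ⟨y.2, fun e => hne (Subtype.ext e.symm), hc⟩]
    exact card_filter (Ds D x.1 ∩ Ds D y.1) (fun y h => h.1.1) _ fun _ => Iff.rfl

/-- The members seeing both of two noncommuting ones form a regular set inside a partner set. -/
theorem far_bounds {c : G} (hc : c ∈ D) (htc : ¬ Commute B.t c) (hne : (Ds D B.t ∩ Ds D c).Nonempty) :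
    (Ds D B.t ∩ Ds D c).ncard ≤ 3240 := by
  classical
  set W := Ds D B.t
  set S := W ∩ Ds D c
  haveI : Fintype W := Fintype.ofFinite W
  let R : W → W → Prop := fun x y => (y : G) ∈ Ds D (x : G)
  have hreg : Srg.IsReg R 3510 693 351 := by
    refine ⟨fun x y h => ⟨x.2.1, fun e => h.2.1 e.symm, h.2.2.symm⟩, fun x h => h.2.1 rfl, fun x => ?_,
      fun x y h => ?_, fun x y hne h => ?_⟩
    · rw [← ncard_perp hD B x.2]
      exact card_filter (W ∩ Ds D x.1) Set.inter_subset_left _ fun z => ⟨fun h => ⟨z.2, h⟩, fun h => h.2⟩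
    · rw [← (ncard_two hD B x.2 y.2).2 (fun e => h.2.1 e.symm) h.2.2]
      exact card_filter (W ∩ Ds D x.1 ∩ Ds D y.1) (fun y h => h.1.1) _
        fun z => ⟨fun h => ⟨⟨z.2, h.1⟩, h.2⟩, fun h => ⟨h.1.2, h.2⟩⟩
    · rw [← (ncard_two hD B x.2 y.2).1 fun hc => h ⟨y.2.1, fun e => hne (Subtype.ext e.symm), hc⟩]
      exact card_filter (W ∩ Ds D x.1 ∩ Ds D y.1) (fun y h => h.1.1) _
        fun z => ⟨fun h => ⟨⟨z.2, h.1⟩, h.2⟩, fun h => ⟨h.1.2, h.2⟩⟩
  have hv : Fintype.card W = 31671 := by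
    rw [← Nat.card_eq_fintype_card, Nat.card_coe_set_eq, ncard_partners hD B]
  let P : W → Prop := fun z => (z : G) ∈ S
  have hSn : (Finset.univ.filter P).card = S.ncard := card_filter S Set.inter_subset_left _ fun _ => Iff.rfl
  have hSd : ∀ z : W, P z → (Finset.univ.filter fun w => R z w ∧ P w).card = 351 := by
    intro z hz
    rw [← (M24.ncard_three hD B hz.1.1 (b := B.t) (c := c) ⟨B.ht, fun e => hz.1.2.1 e.symm, hz.1.2.2.symm⟩
      ⟨hc, fun e => hz.2.2.1 e.symm, hz.2.2.2.symm⟩).1 htc]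
    exact card_filter (Ds D z.1 ∩ W ∩ Ds D c) (fun y h => h.1.2) _
      fun w => ⟨fun h => ⟨⟨h.1, h.2.1⟩, h.2.2⟩, fun h => ⟨h.1.1, h.1.2, h.2⟩⟩
  have hval : ∀ a b g : ℤ, Srg.indic P ⬝ᵥ (Srg.comb3 R a b g *ᵥ Srg.indic P) =
      (S.ncard : ℤ) * (a * 351 + b + g * S.ncard) := by
    intro a b g
    rw [Srg.indic_dot, Finset.sum_congr rfl fun z hz => ?_, Finset.sum_const, nsmul_eq_mul, hSn]
    have hz' : P z := (Finset.mem_filter.mp hz).2
    rw [Srg.comb3_indic, hSd z hz', hSn, Srg.indic, if_pos hz']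
    push_cast
    ring
  have h2 := (Srg.comb3_nonneg hreg (a := 9) (b := 81) (g := -1) (c := 3240) (by norm_num) (by norm_num)
    (by rw [hv]; norm_num) (by norm_num) (Srg.indic P)).1
  rw [hval] at h2
  have hpos : (0 : ℤ) < (S.ncard : ℤ) := by exact_mod_cast (Set.ncard_pos).mpr hne
  have h2' := nonneg_of_mul_nonneg_right h2 hpos
  omega

/-- The parameters. -/
theorem params : D.ncard = 306936 ∧ ∀ a ∈ D, ∀ b ∈ D, ¬ Commute a b → (Ds D a ∩ Ds D b).ncard = 3240 := by
  classical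
  haveI : Fintype D := Fintype.ofFinite D
  haveI : Nonempty D := ⟨⟨B.t, B.ht⟩⟩
  have hw := M24.has_pair hD B
  obtain ⟨c, hc, htc⟩ := exists_noncommute hD hp.2.1 B.ht
  set m := (Ds D B.t ∩ Ds D c).ncard with hm
  have hfar : ∀ a ∈ D, ∀ b ∈ D, ¬ Commute a b → (Ds D a ∩ Ds D b).ncard = m := fun a ha b hb hab =>
    far_const hD hp hw B.ht hc htc ha hb hab
  have hreg := reg_of_far hD hp B hfar
  have hcount := Srg.count hreg
  set v := Fintype.card D
  have hv : D.ncard = v := by rw [← Nat.card_coe_set_eq, Nat.card_eq_fintype_card]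
  have heq : (m : ℤ) * ((v : ℤ) - 31672) = 891855360 := by push_cast at hcount; linarith
  have hne : (Ds D B.t ∩ Ds D c).Nonempty := by
    rw [← Set.ncard_pos]
    rcases Nat.eq_zero_or_pos m with h0 | h0
    · rw [h0] at heq; norm_num at heq
    · exact h0
  have hhi := far_bounds hD hp B hc htc hne
  change m ≤ 3240 at hhi
  have hlo : 1 ≤ m := (Set.ncard_pos (Set.toFinite _)).mpr hne
  have hv' : 31672 ≤ v := by
    by_contra hlt
    have : (m : ℤ) * ((v : ℤ) - 31672) ≤ 0 := mul_nonpos_of_nonneg_of_nonpos (by positivity) (by omega)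
    omega
  have heq' : m * (v - 31672) = 891855360 := by
    have : ((m * (v - 31672) : ℕ) : ℤ) = 891855360 := by push_cast [Nat.cast_sub hv']; exact heq
    exact_mod_cast this
  have key : ∀ m < 3241, 1 ≤ m → 891855360 % m = 0 →
      (2 * 31671 + (891855360 / m + 31671) * 3510 = (891855360 / m + 31671) * m ∨
        Nat.sqrt (m * m + 12446784 - 7024 * m) * Nat.sqrt (m * m + 12446784 - 7024 * m) = m * m + 12446784 - 7024 * m) →
      m = 3240 := fun m hm h1 hmod => far_key (m / 41) (by omega) (m % 41) (by omega) m (by omega) hmod h1 (by omega)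
  have hmod : 891855360 % m = 0 := Nat.mod_eq_zero_of_dvd ⟨v - 31672, heq'.symm⟩
  have hdiv : 891855360 / m = v - 31672 := by rw [← heq', Nat.mul_div_cancel_left _ (by omega)]
  have hm351 : m = 3240 := by
    refine key m (by omega) hlo hmod ?_
    by_cases hconf : (2 : ℤ) * (31671 : ℕ) + ((v : ℤ) - 1) * ((3510 : ℕ) - (m : ℤ)) = 0
    · left
      rw [hdiv]
      push_cast at hconf
      zify [hv']
      linear_combination hconf
    · right
      have hsq := Srg.discr_square' hreg (by omega) hconf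
      have hnn : 7024 * m ≤ m * m + 12446784 := by
        zify
        nlinarith [sq_nonneg ((m : ℤ) - 3512)]
      have hsq' : IsSquare (m * m + 12446784 - 7024 * m) := by
        rw [← Int.isSquare_natCast_iff]
        convert hsq using 1
        push_cast [Nat.cast_sub hnn]
        ring
      obtain ⟨r, hr⟩ := hsq'
      rw [hr, Nat.sqrt_eq]
  refine ⟨?_, fun a ha b hb hab => (hfar a ha b hb hab).trans hm351⟩
  rw [hm351] at heq'
  omega

/-- The common partners of a far pair seen by an outside member. -/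
theorem triple {t c x : G} (ht : t ∈ D) (hc : c ∈ D) (htc : ¬ Commute t c) (hx : x ∈ D)
    (hxS : x ∉ Ds D t ∩ Ds D c) (hxt : x ≠ t) (hxc : x ≠ c) (hxe : x ≠ t * c * t) :
    (Ds D t ∩ Ds D c ∩ Ds D x).ncard = 324 + 36 * seen t c x := by
  classical
  haveI : Fintype D := Fintype.ofFinite D
  obtain ⟨hv, hmu⟩ := params hD hp B
  have hreg := reg_of_far hD hp B hmu
  obtain ⟨he, hte, hce, het, hec, hall⟩ := third hD ht hc htc
  set S := Ds D t ∩ Ds D c with hS
  set e := t * c * t with hedef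
  let δ : G → D → Prop := fun p z => (z : G) = p
  let P : D → Prop := fun z => (z : G) ∈ S
  have hSn : (Finset.univ.filter P).card = 3240 := by
    rw [card_filter S (fun y h => h.1.1) P fun _ => Iff.rfl]
    exact hmu t ht c hc htc
  have hδn : ∀ p, p ∈ D → (Finset.univ.filter (δ p)).card = 1 := fun p hp' => by
    rw [card_filter ({p} : Set G) (Set.singleton_subset_iff.mpr hp') (δ p) fun _ => Iff.rfl, Set.ncard_singleton]
  have hδR : ∀ p (hp' : p ∈ D) (z : D), ((Finset.univ.filter fun w => Adj D z w ∧ δ p w).card : ℤ) =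
      if p ∈ Ds D z.1 then 1 else 0 := by
    intro p hp' z
    split_ifs with h
    · rw [show (Finset.univ.filter fun w => Adj D z w ∧ δ p w) = {⟨p, hp'⟩} from Finset.ext fun w => by
        simp only [Finset.mem_filter, Finset.mem_univ, true_and, Finset.mem_singleton, δ, Adj]
        exact ⟨fun k => Subtype.ext k.2, fun k => ⟨by rw [k]; exact h, by rw [k]⟩⟩]
      rfl
    · rw [Finset.filter_eq_empty_iff.mpr]
      · rfl
      · rintro w - ⟨k1, k2⟩
        exact h ((k2 : (w : G) = p) ▸ k1)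
  let y : D → ℤ := Srg.indic P - (36 : ℤ) • (Srg.indic (δ t) + Srg.indic (δ c) + Srg.indic (δ e))
  let Eg : D → ℤ := fun z => 29 * ((S ∩ Ds D z.1).ncard : ℤ) + 2349 * (if (z : G) ∈ S then 1 else 0) - 9720
  let Pg : G → D → ℤ := fun p z => 29 * (if p ∈ Ds D z.1 then 1 else 0) + 2349 * (if (z : G) = p then 1 else 0) - 3
  have hcomp : ∀ z : D, (Srg.comb3 (Adj D) 29 2349 (-3) *ᵥ y) z = Eg z - 36 * (Pg t z + Pg c z + Pg e z) := by
    intro z
    simp only [y, Matrix.mulVec_sub, Matrix.mulVec_smul, Matrix.mulVec_add, Pi.sub_apply, Pi.smul_apply,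
      Pi.add_apply, smul_eq_mul, Srg.comb3_indic, hSn, hδn t ht, hδn c hc, hδn e he, hδR t ht, hδR c hc, hδR e he]
    rw [card_filter (S ∩ Ds D z.1) (fun w h => h.2.1) (fun w => Adj D z w ∧ P w)
      fun w => ⟨fun h => ⟨h.2, h.1⟩, fun h => ⟨h.2, h.1⟩⟩]
    simp only [Srg.indic, δ, P, Eg, Pg]
    push_cast
    ring
  have hSd : ∀ a ∈ S, (S ∩ Ds D a).ncard = 351 := fun a ha => by
    have h45 := (M24.ncard_three hD B ha.1.1 (b := t) (c := c) ⟨ht, fun e' => ha.1.2.1 e'.symm, ha.1.2.2.symm⟩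
      ⟨hc, fun e' => ha.2.2.1 e'.symm, ha.2.2.2.symm⟩).1 htc
    rwa [show Ds D a ∩ Ds D t ∩ Ds D c = S ∩ Ds D a by rw [hS, Set.inter_comm S, Set.inter_assoc]] at h45
  have hsub : ∀ p, p = t ∨ p = c ∨ p = e → p ∉ S ∧ S ⊆ Ds D p := by
    rintro p (rfl | rfl | rfl)
    · exact ⟨fun h => h.1.2.1 rfl, fun a ha => ha.1⟩
    · exact ⟨fun h => h.2.2.1 rfl, fun a ha => ha.2⟩
    · refine ⟨fun h => hte h.1.2.2, fun a ha => ⟨ha.1.1, fun e' => hte (e' ▸ ha.1.2.2), ?_⟩⟩
      exact (hall a ha.1.2.2.symm ha.2.2.2.symm).symm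
  have hSfull : S.ncard = 3240 := hmu t ht c hc htc
  have hzero : ∀ z : D, y z ≠ 0 → (Srg.comb3 (Adj D) 29 2349 (-3) *ᵥ y) z = 0 := by
    intro z hz
    rw [hcomp]
    simp only [Eg, Pg]
    by_cases hzS : (z : G) ∈ S
    · have a1 : t ∈ Ds D z.1 := ⟨ht, fun e' => hzS.1.2.1 e'.symm, hzS.1.2.2.symm⟩
      have a2 : c ∈ Ds D z.1 := ⟨hc, fun e' => hzS.2.2.1 e'.symm, hzS.2.2.2.symm⟩
      have n3 : (z : G) ≠ e := fun e' => (hsub e (Or.inr (Or.inr rfl))).1 (e' ▸ hzS)
      have a3 : e ∈ Ds D z.1 := ⟨he, fun e' => n3 e'.symm, hall z hzS.1.2.2.symm hzS.2.2.2.symm⟩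
      simp only [hSd z hzS, if_pos hzS, if_pos a1, if_pos a2, if_pos a3, if_neg hzS.1.2.1, if_neg hzS.2.2.1,
        if_neg n3]
      norm_num
    · have hz3 : (z : G) = t ∨ (z : G) = c ∨ (z : G) = e := by
        by_contra h
        push Not at h
        exact hz (by simp [y, δ, P, Srg.indic, hzS, h.1, h.2.1, h.2.2])
      have hfull : (S ∩ Ds D z.1).ncard = 3240 := by
        rw [Set.inter_eq_left.mpr (hsub z hz3).2, hSfull]
      simp only [hfull, if_neg hzS]
      rcases hz3 with e' | e' | e' <;> rw [e']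
      · rw [if_neg (fun h : t ∈ Ds D t => h.2.1 rfl), if_neg (fun h : c ∈ Ds D t => htc h.2.2),
          if_neg (fun h : e ∈ Ds D t => hte h.2.2), if_pos rfl, if_neg (fun h : t = c => htc (by rw [h])),
          if_neg het.symm]
        norm_num
      · rw [if_neg (fun h : t ∈ Ds D c => htc h.2.2.symm), if_neg (fun h : c ∈ Ds D c => h.2.1 rfl),
          if_neg (fun h : e ∈ Ds D c => hce h.2.2), if_neg (fun h : c = t => htc (by rw [h])), if_pos rfl,
          if_neg hec.symm]
        norm_num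
      · rw [if_neg (fun h : t ∈ Ds D e => hte h.2.2.symm), if_neg (fun h : c ∈ Ds D e => hce h.2.2.symm),
          if_neg (fun h : e ∈ Ds D e => h.2.1 rfl), if_neg het, if_neg hec, if_pos rfl]
        norm_num
  have hdot : y ⬝ᵥ (Srg.comb3 (Adj D) 29 2349 (-3) *ᵥ y) = 0 := by
    refine Finset.sum_eq_zero fun z _ => ?_
    by_cases hz : y z = 0
    · rw [hz, zero_mul]
    · rw [hzero z hz, mul_zero]
  have hker := (Srg.comb3_nonneg hreg (a := 29) (b := 2349) (g := -3) (c := 12528) (by norm_num) (by norm_num)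
    (by rw [← Nat.card_eq_fintype_card, Nat.card_coe_set_eq, hv]; norm_num) (by norm_num) y).2 hdot
  have := congrFun hker ⟨x, hx⟩
  rw [hcomp] at this
  simp only [Eg, Pg, if_neg hxS, if_neg hxt, if_neg hxc, if_neg hxe, Pi.zero_apply] at this
  have k : ∀ p : G, p ∈ D → x ≠ p → (p ∈ Ds D x ↔ Commute x p) := fun p hp' hne =>
    ⟨fun h => h.2.2, fun h => ⟨hp', fun e' => hne e'.symm, h⟩⟩
  simp only [k t ht hxt, k c hc hxc, k e he hxe] at this
  have h9 : (29 : ℤ) * ((S ∩ Ds D x).ncard : ℤ) = 29 * ((324 + 36 * seen t c x : ℕ) : ℤ) := by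
    unfold seen
    simp only [hedef] at this
    push_cast
    linear_combination this
  exact_mod_cast mul_left_cancel₀ (by norm_num) h9

end

end CfsgThreeTrans.M24
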