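/-
The centraliser of a transposition in type M(24).
-/
import Cfsg.Agent.Lib.ThreeTrans.M24.Params
import Cfsg.Agent.Lib.ThreeTrans.M23.Centraliser
import Cfsg.Agent.Lib.ThreeTrans.Local

set_option autoImplicit false
set_option linter.unusedSectionVars false

namespace CfsgThreeTrans.M24

open Cfsg CfsgLib CfsgThreeTrans.M22
open CfsgThreeTrans.M23 (Hs Qt qt Et bar bar_eq)

universe u

variable {G : Type u} [Group G] [Finite G] {D : Set G}

section
variable (hD : IsThreeTranspositionClass D) (hp : IsPrimitiveUnderConj D) (hZ : Subgroup.center G = ⊥) (B : Base D)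
include hD hp hZ B

/-- The kernel of the action of a centraliser on the partners. -/
theorem kernel_eq {t z : G} (ht : t ∈ D) (hzt : Commute z t) (hzD : ∀ y ∈ Ds D t, Commute z y) :
    z = 1 ∨ z = t := by
  obtain ⟨c, hc, htc⟩ := exists_noncommute hD hp.2.1 ht
  have hw := M24.has_pair hD B
  have hcen : ∀ w, Commute w t → Commute w c → (∀ y ∈ Ds D t, Commute w y) → w = 1 :=
    fun w h1 h2 h3 => Subgroup.mem_bot.mp (hZ ▸ central_of_commute hD hp hw ht hc htc h1 h2 h3)
  obtain ⟨he, -, -, -, -, -⟩ := third hD ht hc htc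
  set u := z * c * z⁻¹ with hu
  have huD : u ∈ D := cls_conj hD z hc
  have htu : ¬ Commute t u := fun h => htc ((commute_cj_iff z).mp (by
    rw [show z * t * z⁻¹ = t by rw [hzt.eq, mul_inv_cancel_right]]; exact h))
  by_cases huc : u = c
  · exact Or.inl (hcen z hzt (mul_inv_eq_iff_eq_mul.mp huc) hzD)
  by_cases hue : u = t * c * t
  · right
    have h1 := hcen (t * z) ((Commute.refl t).mul_left hzt) ?_ fun y hy => hy.2.2.mul_left (hzD y hy)
    · rw [← inv_self hD.1 ht]
      exact (inv_eq_of_mul_eq_one_right h1).symm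
    · show t * z * c = c * (t * z)
      have e1 : z * c = u * z := by rw [hu]; group
      rw [mul_assoc, e1, hue, show t * (t * c * t * z) = (t * t) * c * (t * z) by simp only [mul_assoc],
        mul_self hD.1 ht, one_mul]
  exfalso
  have hsub : Ds D t ∩ Ds D c ⊆ Ds D u := fun y hy => by
    have hy' : z * y * z⁻¹ = y := by rw [(hzD y hy.1).eq, mul_inv_cancel_right]
    refine ⟨hy.1.1, fun e => hy.2.2.1 (cj_injective z (show z * y * z⁻¹ = z * c * z⁻¹ by rw [hy', e, hu])), ?_⟩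
    have := (commute_cj_iff z).mpr hy.2.2.2
    rwa [hy'] at this
  have := M24.triple hD hp B ht hc htc huD (fun h => htu h.1.2.2) (fun e => htu (by rw [e])) huc hue
  rw [Set.inter_eq_left.mpr hsub, (M24.params hD hp B).2 t ht c hc htc] at this
  have := seen_le t c u
  omega

/-- The kernel of the projection. -/
theorem ker_cases {z : G} (hz : z ∈ Hs D B.t) (h1 : bar D B.t z = 1) : z = 1 ∨ z = B.t := by
  rw [show z = ((⟨z, hz⟩ : ↥(Hs D B.t)) : G) from rfl, bar_eq] at h1
  have hc := (QuotientGroup.eq_one_iff _).mp h1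
  exact kernel_eq hD hp hZ B B.ht (closure_Ds_commute hz) fun y hy =>
    (congrArg Subtype.val (Subgroup.mem_center_iff.mp hc ⟨y, Subgroup.subset_closure hy⟩)).symm

theorem bar_eq_cases {x y : G} (hx : x ∈ Hs D B.t) (hy : y ∈ Hs D B.t) (h1 : bar D B.t x = bar D B.t y) :
    x = y ∨ x = y * B.t := by
  have hm := mul_mem (inv_mem hy) hx
  have hb : bar D B.t (y⁻¹ * x) = 1 := by
    apply mul_left_cancel (a := bar D B.t y)
    rw [← bar_mul hD B hy hm, mul_inv_cancel_left, mul_one, h1]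
  rcases ker_cases hD hp hZ B hm hb with k | k
  · exact Or.inl (inv_mul_eq_one.mp k).symm
  · exact Or.inr (by rw [← k, mul_inv_cancel_left])

theorem core_three : pCore 3 ↥(Hs D B.t) ≤ Subgroup.center ↥(Hs D B.t) := by
  haveI : Fact (Nat.Prime 3) := ⟨Nat.prime_three⟩
  set q := qt D B.t
  haveI : ((pCore 3 ↥(Hs D B.t)).map q).Normal :=
    Subgroup.Normal.map inferInstance q (QuotientGroup.mk'_surjective _)
  intro x hx
  have h1 : q x ∈ Subgroup.center (Qt D B.t) :=
    (cores_of_prim B.cls B.prim (M23.has_pair B.cls B.inner)).2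
      (le_pCore ((isPGroup_pCore 3).map q) (Subgroup.mem_map_of_mem q hx))
  rw [B.ty.1, Subgroup.mem_bot] at h1
  exact (QuotientGroup.eq_one_iff x).mp h1

theorem self_mem {t : G} (ht : t ∈ D) : t ∈ Hs D t := by
  classical
  obtain ⟨A, B', C, P, Q, R, U, -, hm, hc, hprod⟩ :=
    M23.six_line B.cls B.prim B.ty.1 B.inner (cls_group B.cls) B.ty
  set s := B.inner.t
  set f := bar D B.t
  have lift : ∀ q ∈ Et D B.t, ∃ x ∈ Ds D B.t, f x = q := fun q hq => by rw [← bar_image hD B] at hq; exact hq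
  obtain ⟨v, hv, ev⟩ := lift s B.inner.ht
  obtain ⟨a, ha, ea⟩ := lift A (hm A (by simp)).1.1
  obtain ⟨b, hb, eb⟩ := lift B' (hm B' (by simp)).1.1
  obtain ⟨c, hc', ec⟩ := lift C (hm C (by simp)).1.1
  obtain ⟨p, hp', ep⟩ := lift P (hm P (by simp)).1.1
  obtain ⟨q, hq, eq'⟩ := lift Q (hm Q (by simp)).1.1
  obtain ⟨r, hr, er⟩ := lift R (hm R (by simp)).1.1
  have mH : ∀ {x : G}, x ∈ Ds D B.t → x ∈ Hs D B.t := fun hx => Subgroup.subset_closure hx
  set w := a * b * c * p * q * r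
  have hwH : w ∈ Hs D B.t :=
    mul_mem (mul_mem (mul_mem (mul_mem (mul_mem (mH ha) (mH hb)) (mH hc')) (mH hp')) (mH hq)) (mH hr)
  have hwb : f w = f v := by
    simp only [w, f]
    rw [bar_mul hD B (mul_mem (mul_mem (mul_mem (mul_mem (mH ha) (mH hb)) (mH hc')) (mH hp')) (mH hq)) (mH hr),
      bar_mul hD B (mul_mem (mul_mem (mul_mem (mH ha) (mH hb)) (mH hc')) (mH hp')) (mH hq),
      bar_mul hD B (mul_mem (mul_mem (mH ha) (mH hb)) (mH hc')) (mH hp'),
      bar_mul hD B (mul_mem (mH ha) (mH hb)) (mH hc'), bar_mul hD B (mH ha) (mH hb)]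
    simp only [f] at ea eb ec ep eq' er ev
    rw [ea, eb, ec, ep, eq', er, ev, hprod]
  obtain ⟨u, huD, hu⟩ : ∃ u ∈ D, u ∈ Hs D u := by
    rcases bar_eq_cases hD hp hZ B hwH (mH hv) hwb with k | k
    · refine ⟨v, hv.1, ?_⟩
      suffices hvw : w ∈ Hs D v by rw [k] at hvw; exact hvw
      have hx : ∀ {x : G} {X : Qt D B.t}, x ∈ Ds D B.t → f x = X → X ∈ [A, B', C, P, Q, R] → x ∈ Hs D v := by
        intro x X hx ex hX
        refine Subgroup.subset_closure ⟨hx.1, fun e => (hm X hX).1.2.1 (by rw [← ex, e, ev]), ?_⟩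
        refine (bar_commute hD B hv hx).mp ?_
        show Commute (f v) (f x)
        rw [ev, ex]
        exact (hm X hX).1.2.2
      exact mul_mem (mul_mem (mul_mem (mul_mem (mul_mem (hx ha ea (by simp)) (hx hb eb (by simp)))
        (hx hc' ec (by simp))) (hx hp' ep (by simp))) (hx hq eq' (by simp))) (hx hr er (by simp))
    · refine ⟨B.t, B.ht, ?_⟩
      have h := mul_mem (inv_mem (mH hv)) hwH
      rwa [k, inv_mul_cancel_left] at h
  obtain ⟨g, rfl⟩ := cls_exists_conj hD huD ht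
  have := Subgroup.mem_map_of_mem (MulAut.conj g).toMonoidHom hu
  rw [MonoidHom.map_closure] at this
  show _ ∈ Subgroup.closure _
  rw [← cj_Ds hD g u]
  exact this

/-- The centraliser of a partner in the base partner group. -/
theorem base_at {u g : G} (hu : u ∈ Ds D B.t) (hg : g ∈ Hs D B.t) (hgu : Commute g u) :
    g ∈ Subgroup.closure ((Ds D B.t ∩ Ds D u) ∪ {B.t, u}) := by
  set T := Subgroup.closure ((Ds D B.t ∩ Ds D u) ∪ {B.t, u})
  have hTH : Subgroup.closure (Ds D B.t ∩ Ds D u) ≤ Hs D B.t := Subgroup.closure_mono Set.inter_subset_left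
  set U : ↥(Hs D B.t) := ⟨u, Subgroup.subset_closure hu⟩
  set g' : ↥(Hs D B.t) := ⟨g, hg⟩
  have h1 : bar D B.t g ∈ Subgroup.closure (Ds (Et D B.t) (bar D B.t u)) := by
    show bar D B.t g ∈ Hs (Et D B.t) (bar D B.t u)
    rw [← M23.centralizer_eq B.cls B.prim B.ty.1 B.inner (cls_group B.cls) B.ty (bar_mem hD B hu)]
    refine Subgroup.mem_centralizer_singleton_iff.mpr ?_
    rw [show g = (g' : G) from rfl, show u = (U : G) from rfl, bar_eq, bar_eq]
    rw [← map_mul, ← map_mul, show g' * U = U * g' from Subtype.ext hgu.eq]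
  have hle : Subgroup.closure (Ds (Et D B.t) (bar D B.t u)) ≤
      ((Subgroup.closure (Ds D B.t ∩ Ds D u)).subgroupOf (Hs D B.t)).map (qt D B.t) := by
    rw [← bar_Ds hD B hu, Subgroup.closure_le]
    rintro _ ⟨x, hx, rfl⟩
    exact ⟨⟨x, Subgroup.subset_closure hx.1⟩, Subgroup.subset_closure (k := Ds D B.t ∩ Ds D u) hx,
      (bar_eq (⟨x, Subgroup.subset_closure hx.1⟩ : ↥(Hs D B.t))).symm⟩
  obtain ⟨k, hk, hkg⟩ := hle h1
  have hkT : (k : G) ∈ T := Subgroup.closure_mono Set.subset_union_left hk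
  rcases bar_eq_cases hD hp hZ B hg k.2 (by rw [bar_eq k, hkg]) with e | e <;> rw [e]
  · exact hkT
  · exact mul_mem hkT (Subgroup.subset_closure (Or.inr (Or.inl rfl)))

theorem localHyp : LocalHyp D := by
  obtain ⟨-, hmu⟩ := M24.params hD hp B
  refine ⟨fun t ht => self_mem hD hp hZ B ht, ?_, ?_, ?_⟩
  · intro t ht u hu g hg hgu
    obtain ⟨m, rfl, hin⟩ := M24.to_base hD B ht
    have hg' : m⁻¹ * g * m⁻¹⁻¹ ∈ Hs D B.t := by
      have h := Subgroup.mem_map_of_mem (MulAut.conj m⁻¹).toMonoidHom hg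
      rw [MonoidHom.map_closure] at h
      have e : (MulAut.conj m⁻¹).toMonoidHom '' Ds D (m * B.t * m⁻¹) = Ds D B.t := by
        show (fun z => m⁻¹ * z * m⁻¹⁻¹) '' Ds D (m * B.t * m⁻¹) = _
        rw [cj_Ds hD]
        congr 1
        group
      rwa [e] at h
    have h := Subgroup.mem_map_of_mem (MulAut.conj m).toMonoidHom
      (base_at hD hp hZ B (hin hu) hg' ((commute_cj_iff m⁻¹).mpr hgu))
    rw [MonoidHom.map_closure, show (MulAut.conj m).toMonoidHom (m⁻¹ * g * m⁻¹⁻¹) = g from cj_inv m g] at h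
    refine (Subgroup.closure_mono ?_) h
    rintro _ ⟨z, hz | rfl | rfl, rfl⟩
    · left
      have h1 : m * z * m⁻¹ ∈ (fun z => m * z * m⁻¹) '' (Ds D B.t ∩ Ds D (m⁻¹ * u * m⁻¹⁻¹)) := ⟨z, hz, rfl⟩
      rw [Set.image_inter (cj_injective m), cj_Ds hD, cj_Ds hD, cj_inv] at h1
      exact h1
    · exact Or.inr (Or.inl rfl)
    · exact Or.inr (Or.inr (cj_inv m u))
  · intro t ht y hy b hb b' hb' hne
    set U := Ds D b ∩ Ds D b'
    set T₁ := Ds D t ∩ Ds D b ∩ Ds D b'
    set T₂ := Ds D y ∩ Ds D b ∩ Ds D b'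
    have hcard : T₁.ncard + T₂.ncard + 2 < U.ncard := by
      by_cases hc : Commute b b'
      · rw [show T₁.ncard = 693 from (M24.ncard_three hD B ht hb.1 hb'.1).2 hne hc,
          show T₂.ncard = 693 from (M24.ncard_three hD B hy.1 hb.2 hb'.2).2 hne hc,
          show U.ncard = 3510 from M24.ncard_near hD B hb.1.1 ⟨hb'.1.1, hne.symm, hc⟩]
        norm_num
      · rw [show T₁.ncard = 351 from (M24.ncard_three hD B ht hb.1 hb'.1).1 hc,
          show T₂.ncard = 351 from (M24.ncard_three hD B hy.1 hb.2 hb'.2).1 hc,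
          show U.ncard = 3240 from hmu b hb.1.1 b' hb'.1.1 hc]
        norm_num
    obtain ⟨f, hfU, hfT⟩ : ∃ f ∈ U, f ∉ T₁ ∪ T₂ ∪ {t, y} := by
      refine Set.exists_mem_notMem_of_ncard_lt_ncard (lt_of_le_of_lt ?_ hcard) (Set.toFinite _)
      refine (Set.ncard_union_le _ _).trans (Nat.add_le_add (Set.ncard_union_le _ _) ?_)
      exact (Set.ncard_insert_le _ _).trans (by simp)
    refine ⟨f, hfU.1.1, hfU.1.2.2, hfU.2.2.2, fun h => hfT ?_, fun h => hfT ?_⟩
    · by_cases e : f = t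
      · exact Or.inr (Or.inl e)
      · exact Or.inl (Or.inl ⟨⟨⟨hfU.1.1, e, h⟩, hfU.1⟩, hfU.2⟩)
    · by_cases e : f = y
      · exact Or.inr (Or.inr e)
      · exact Or.inl (Or.inr ⟨⟨⟨hfU.1.1, e, h⟩, hfU.1⟩, hfU.2⟩)
  · intro t ht c hc htc y hy
    set S := Ds D t ∩ Ds D c
    obtain ⟨a₀, ha₀⟩ : S.Nonempty := by
      rw [← Set.ncard_pos, show S.ncard = 3240 from hmu t ht c hc htc]
      norm_num
    obtain ⟨-, hte, -, -, -, hall⟩ := third hD ht hc htc
    by_cases hyS : y ∈ S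
    · obtain ⟨a, ha⟩ : (Ds D y ∩ Ds D t ∩ Ds D c).Nonempty := by
        rw [← Set.ncard_pos, (M24.ncard_three hD B hy ⟨ht, fun e => hyS.1.2.1 e.symm, hyS.1.2.2.symm⟩
          ⟨hc, fun e => hyS.2.2.1 e.symm, hyS.2.2.2.symm⟩).1 htc]
        norm_num
      exact ⟨a, ⟨ha.1.2, ha.2⟩, ha.1.1.2.1, ha.1.1.2.2.symm⟩
    by_cases h3 : y = t ∨ y = c ∨ y = t * c * t
    · refine ⟨a₀, ha₀, fun e => hyS (e ▸ ha₀), ?_⟩
      rcases h3 with rfl | rfl | rfl
      · exact ha₀.1.2.2.symm
      · exact ha₀.2.2.2.symm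
      · exact hall a₀ ha₀.1.2.2.symm ha₀.2.2.2.symm
    · push Not at h3
      obtain ⟨a, ha⟩ : (S ∩ Ds D y).Nonempty := by
        rw [← Set.ncard_pos, M24.triple hD hp B ht hc htc hy hyS h3.1 h3.2.1 h3.2.2]
        omega
      exact ⟨a, ha.1, ha.2.2.1, ha.2.2.2.symm⟩

/-- The centraliser of a transposition is generated by its partners. -/
theorem centralizer_eq {t : G} (ht : t ∈ D) :
    Subgroup.centralizer ({t} : Set G) = Hs D t := by
  refine le_antisymm (fun g hg => centralizer_eq_closure hD hp (M24.has_pair hD B) (localHyp hD hp hZ B) ht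
    (Subgroup.mem_centralizer_singleton_iff.mp hg)) ?_
  exact (Subgroup.closure_le _).mpr fun y hy => Subgroup.mem_centralizer_singleton_iff.mpr hy.2.2.eq.symm

/-- The centre of the partner group. -/
theorem center_closure {t : G} (ht : t ∈ D) :
    Subgroup.center ↥(Hs D t) = (Subgroup.zpowers t).subgroupOf (Hs D t) := by
  refine le_antisymm (fun z hz => ?_) fun z hz => ?_
  · rcases kernel_eq hD hp hZ B ht (closure_Ds_commute z.2) fun y hy =>
      (congrArg Subtype.val (Subgroup.mem_center_iff.mp hz ⟨y, Subgroup.subset_closure hy⟩)).symm with e | e <;>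
      rw [Subgroup.mem_subgroupOf, e]
    · exact one_mem _
    · exact Subgroup.mem_zpowers t
  · obtain ⟨n, hn⟩ := Subgroup.mem_zpowers_iff.mp hz
    refine Subgroup.mem_center_iff.mpr fun w => Subtype.ext ?_
    show (w : G) * z = z * w
    rw [show (z : G) = t ^ n from hn.symm]
    exact ((closure_Ds_commute w.2).zpow_right n).eq

end

end CfsgThreeTrans.M24
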