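/-
The centraliser of three commuting transpositions in type M(24) as the unitary geometry.
-/
import Cfsg.Agent.Lib.ThreeTrans.M24.Centraliser
import Cfsg.Agent.Lib.ThreeTrans.M22.Centraliser
import Cfsg.Agent.Lib.ThreeTrans.M22.Geom

set_option autoImplicit false
set_option linter.unusedSectionVars false

namespace CfsgThreeTrans.M24

open Cfsg CfsgLib CfsgLib.UnitaryTransvection CfsgLib.UnitarySimple CfsgThreeTrans.M22
open CfsgThreeTrans.M23 (Hs Qt qt Et bar bar_eq)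

universe u

variable {G : Type u} [Group G] [Finite G]

/-- Three commuting members and the geometry on their common partners. -/
structure Chart (D : Set G) where
  F : Type
  [fF : Field F]
  [ftF : Fintype F]
  [deF : DecidableEq F]
  hF : Fintype.card F = 2 ^ 2
  t : G
  u : G
  v : G
  ht : t ∈ D
  hu : u ∈ Ds D t
  hv : v ∈ Ds D t ∩ Ds D u
  pts : Iso F → G
  mem : ∀ x, pts x ∈ Ds D t ∩ Ds D u ∩ Ds D v
  surj : ∀ y ∈ Ds D t ∩ Ds D u ∩ Ds D v, ∃ x, pts x = y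
  eq_iff : ∀ x y : Iso F, pts x = pts y ↔ ∃ a : F, a ≠ 0 ∧ x.1 = a • y.1
  comm_iff : ∀ x y : Iso F, Commute (pts x) (pts y) ↔ Cfsg.hermForm 6 F 2 x.1 y.1 = 0
  Φ : ↥(Subgroup.centralizer ({t, u, v} : Set G)) →* Cfsg.PSU 6 F 2
  ker_le : Nat.card Φ.ker ≤ 8
  anchor : ∀ z : ↥(Subgroup.centralizer ({t, u, v} : Set G)), ((z : G) = t ∨ (z : G) = u ∨ (z : G) = v) → Φ z = 1
  img : ∀ (x : Iso F) (hx : pts x ∈ Subgroup.centralizer ({t, u, v} : Set G)),
    Φ ⟨pts x, hx⟩ = QuotientGroup.mk (tu hF x.1)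

attribute [instance] Chart.fF Chart.ftF Chart.deF

variable {D : Set G}

set_option maxHeartbeats 1000000 in
/-- Charts exist. -/
theorem exists_chart (hD : IsThreeTranspositionClass D) (hp : IsPrimitiveUnderConj D) (hZ : Subgroup.center G = ⊥)
    (B : Base D) : Nonempty (Chart D) := by
  classical
  -- first step
  have hC1 : Subgroup.centralizer ({B.t} : Set G) = Hs D B.t := M24.centralizer_eq hD hp hZ B B.ht
  obtain ⟨u, hu, hubar⟩ : ∃ u ∈ Ds D B.t, bar D B.t u = B.inner.t := by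
    exact (Set.ext_iff.mp (bar_image hD B) _).mpr B.inner.ht
  -- second step
  have hG2 : IsThreeTranspositionGroup (Et D B.t) := cls_group B.cls
  have hC2 : Subgroup.centralizer ({B.inner.t} : Set (Qt D B.t)) = Hs (Et D B.t) B.inner.t :=
    M23.centralizer_eq B.cls B.prim B.ty.1 B.inner hG2 B.ty B.inner.ht
  obtain ⟨v', hv', hv'bar⟩ : ∃ v' ∈ Ds (Et D B.t) B.inner.t, bar (Et D B.t) B.inner.t v' = B.inner.A.t := by
    exact (Set.ext_iff.mp (M23.bar_image B.cls B.inner) _).mpr B.inner.A.ht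
  have hlift2 : ∀ y' ∈ Ds (Et D B.t) B.inner.t, ∃ y ∈ Ds D B.t ∩ Ds D u, bar D B.t y = y' := by
    intro y' hy'
    rw [← hubar, ← bar_Ds hD B hu] at hy'
    exact hy'
  obtain ⟨v, hv, hvbar⟩ := hlift2 v' hv'
  -- third step
  have hC3 : Subgroup.centralizer ({B.inner.A.t} : Set (Qt (Et D B.t) B.inner.t)) = Subgroup.closure (Ds (Et (Et D B.t) B.inner.t) B.inner.A.t) :=
    M22.centralizer_eq B.inner.cls B.inner.prim (local_of_M22 B.inner.ty) B.inner.ty.1 B.inner.A B.inner.A.ht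
  have hmem3 : ∀ y ∈ Ds D B.t ∩ Ds D u ∩ Ds D v, bar D B.t y ∈ Ds (Et D B.t) B.inner.t ∧
      bar (Et D B.t) B.inner.t (bar D B.t y) ∈ Ds (Et (Et D B.t) B.inner.t) B.inner.A.t := by
    rintro y ⟨⟨h1, h2⟩, h3⟩
    have k1 : bar D B.t y ∈ Ds (Et D B.t) B.inner.t := by
      rw [← hubar, ← bar_Ds hD B hu]; exact ⟨y, ⟨h1, h2⟩, rfl⟩
    refine ⟨k1, ?_⟩
    rw [← hv'bar, ← M23.bar_Ds B.cls B.inner hv']
    refine ⟨_, ⟨k1, ?_⟩, rfl⟩
    rw [← hvbar, ← bar_Ds hD B hv.1]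
    exact ⟨y, ⟨h1, h3⟩, rfl⟩
  have hsurj3 : ∀ q ∈ Ds (Et (Et D B.t) B.inner.t) B.inner.A.t, ∃ y ∈ Ds D B.t ∩ Ds D u ∩ Ds D v,
      bar (Et D B.t) B.inner.t (bar D B.t y) = q := by
    intro q hq
    rw [← hv'bar, ← M23.bar_Ds B.cls B.inner hv'] at hq
    obtain ⟨y', ⟨k1, k2⟩, rfl⟩ := hq
    obtain ⟨y, hy, rfl⟩ := hlift2 y' k1
    rw [← hvbar, ← bar_Ds hD B hv.1] at k2
    obtain ⟨z, hz, e⟩ := k2
    obtain rfl := bar_inj hD B hz.1 hy.1 e
    exact ⟨z, ⟨hy, hz.2⟩, rfl⟩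
  choose pts hpts1 hpts2 using fun x : Iso B.inner.F => hsurj3 (point B.inner.A x) (point_mem B.inner.A x)
  have hinj3 : ∀ y ∈ Ds D B.t ∩ Ds D u ∩ Ds D v, ∀ z ∈ Ds D B.t ∩ Ds D u ∩ Ds D v,
      bar (Et D B.t) B.inner.t (bar D B.t y) = bar (Et D B.t) B.inner.t (bar D B.t z) → y = z := fun y hy z hz e =>
    bar_inj hD B hy.1.1 hz.1.1 (M23.bar_inj B.cls B.inner (hmem3 y hy).1 (hmem3 z hz).1 e)
  -- the homomorphism
  set C := Subgroup.centralizer ({B.t, u, v} : Set G)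
  have hle1 : C ≤ Hs D B.t := hC1 ▸ Subgroup.centralizer_le (by simp)
  let f1 : C →* Qt D B.t := (qt D B.t).comp (Subgroup.inclusion hle1)
  have hf1 : ∀ z : C, f1 z = bar D B.t z := fun z => (bar_eq (Subgroup.inclusion hle1 z)).symm
  have hcomm1 : ∀ (z : C), ∀ y ∈ ({B.t, u, v} : Set G), y ∈ Hs D B.t → Commute (f1 z) (bar D B.t y) := by
    intro z y hy hyH
    rw [show f1 z = qt D B.t (Subgroup.inclusion hle1 z) from rfl, show y = ((⟨y, hyH⟩ : ↥(Hs D B.t)) : G) from rfl,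
      bar_eq]
    exact (show Commute (Subgroup.inclusion hle1 z) ⟨y, hyH⟩ from
      Subtype.ext (Subgroup.mem_centralizer_iff.mp z.2 y hy).symm).map _
  have hr1 : ∀ z : C, f1 z ∈ Hs (Et D B.t) B.inner.t := fun z => by
    rw [← hC2, Subgroup.mem_centralizer_singleton_iff, show B.inner.t = bar D B.t u from hubar.symm]
    exact (hcomm1 z u (by simp) (Subgroup.subset_closure hu)).eq
  let f2 : C →* Qt (Et D B.t) B.inner.t := (qt (Et D B.t) B.inner.t).comp (f1.codRestrict _ hr1)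
  have hf2 : ∀ z : C, f2 z = bar (Et D B.t) B.inner.t (bar D B.t z) := fun z => by
    rw [← hf1]; exact (bar_eq (⟨f1 z, hr1 z⟩ : ↥(Hs (Et D B.t) B.inner.t))).symm
  have hr2 : ∀ z : C, f2 z ∈ Subgroup.closure (Ds (Et (Et D B.t) B.inner.t) B.inner.A.t) := fun z => by
    rw [← hC3, Subgroup.mem_centralizer_singleton_iff, show B.inner.A.t = bar (Et D B.t) B.inner.t v' from hv'bar.symm]
    show f2 z * _ = _ * f2 z
    rw [show f2 z = qt (Et D B.t) B.inner.t ⟨f1 z, hr1 z⟩ from rfl,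
      show v' = ((⟨v', Subgroup.subset_closure hv'⟩ : ↥(Hs (Et D B.t) B.inner.t)) : Qt D B.t) from rfl, bar_eq]
    have hc' : f1 z * v' = v' * f1 z := by
      have := hcomm1 z v (by simp) (Subgroup.subset_closure hv.1)
      rw [hvbar] at this
      exact this.eq
    exact ((show Commute (⟨f1 z, hr1 z⟩ : ↥(Hs (Et D B.t) B.inner.t)) ⟨v', Subgroup.subset_closure hv'⟩ from
      Subtype.ext hc').map _).eq
  let Φ : C →* Cfsg.PSU 6 B.inner.F 2 := B.inner.A.φ.comp (f2.codRestrict _ hr2)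
  have htH : B.t ∈ Hs D B.t := self_mem hD hp hZ B B.ht
  have bt : bar D B.t B.t = 1 := by
    rw [show B.t = ((⟨B.t, htH⟩ : ↥(Hs D B.t)) : G) from rfl, bar_eq]
    refine (QuotientGroup.eq_one_iff _).mpr ?_
    rw [M24.center_closure hD hp hZ B B.ht]
    exact Subgroup.mem_zpowers _
  have ht2H : B.inner.t ∈ Hs (Et D B.t) B.inner.t := M23.self_mem B.cls B.prim B.ty.1 B.inner hG2 B.ty B.inner.ht
  have bt2 : bar (Et D B.t) B.inner.t B.inner.t = 1 := by
    rw [show B.inner.t = ((⟨B.inner.t, ht2H⟩ : ↥(Hs (Et D B.t) B.inner.t)) : Qt D B.t) from rfl, bar_eq]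
    refine (QuotientGroup.eq_one_iff _).mpr ?_
    rw [M23.center_closure B.cls B.prim B.ty.1 B.inner hG2 B.ty B.inner.ht]
    exact Subgroup.mem_zpowers _
  have bone : bar (Et D B.t) B.inner.t 1 = 1 := by
    rw [show (1 : Qt D B.t) = ((1 : ↥(Hs (Et D B.t) B.inner.t)) : Qt D B.t) from rfl, bar_eq, map_one]
  have hker3 : ∀ q, (hq : q ∈ Subgroup.closure (Ds (Et (Et D B.t) B.inner.t) B.inner.A.t)) → B.inner.A.φ ⟨q, hq⟩ = 1 → q = 1 ∨ q = B.inner.A.t := by
    intro q hq e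
    rw [← MonoidHom.mem_ker, B.inner.A.ker_φ, M22.center_closure B.inner.cls B.inner.prim (local_of_M22 B.inner.ty)
      B.inner.ty.1 B.inner.A B.inner.A.ht, Subgroup.mem_subgroupOf] at e
    obtain ⟨j, hj⟩ := Subgroup.mem_zpowers_iff.mp e
    have htt := mul_self B.inner.cls.1 B.inner.A.ht
    have hj' : B.inner.A.t ^ j = q := hj
    rcases Int.even_or_odd' j with ⟨i, rfl | rfl⟩
    · left; rw [← hj', zpow_mul, zpow_ofNat, pow_two, htt, one_zpow]
    · right; rw [← hj', zpow_add, zpow_mul, zpow_ofNat, pow_two, htt, one_zpow, one_mul, zpow_one]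
  have hAt : B.inner.A.t ∈ Subgroup.closure (Ds (Et (Et D B.t) B.inner.t) B.inner.A.t) :=
    M22.self_mem B.inner.cls B.inner.prim (local_of_M22 B.inner.ty) B.inner.ty.1 B.inner.A B.inner.A.ht
  have φAt : B.inner.A.φ ⟨B.inner.A.t, hAt⟩ = 1 := by
    rw [← MonoidHom.mem_ker, B.inner.A.ker_φ, M22.center_closure B.inner.cls B.inner.prim (local_of_M22 B.inner.ty)
      B.inner.ty.1 B.inner.A B.inner.A.ht, Subgroup.mem_subgroupOf]
    exact Subgroup.mem_zpowers _
  have hanchor : ∀ z : C, ((z : G) = B.t ∨ (z : G) = u ∨ (z : G) = v) → Φ z = 1 := by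
    intro z hz
    have e : f2 z = 1 ∨ f2 z = B.inner.A.t := by
      rw [hf2]
      rcases hz with e | e | e <;> rw [e]
      · exact Or.inl (by rw [bt, bone])
      · exact Or.inl (by rw [hubar, bt2])
      · exact Or.inr (by rw [hvbar, hv'bar])
    rcases e with e | e
    · exact (congrArg B.inner.A.φ (Subtype.ext e : f2.codRestrict _ hr2 z = 1)).trans (map_one _)
    · exact (congrArg B.inner.A.φ (Subtype.ext e : f2.codRestrict _ hr2 z = ⟨B.inner.A.t, hAt⟩)).trans φAt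
  refine ⟨⟨B.inner.F, B.inner.hF, B.t, u, v, B.ht, hu, hv, pts, hpts1, fun y hy => ?_, fun x y => ?_,
    fun x y => ?_, Φ, ?_, hanchor, fun x hx => ?_⟩⟩
  · obtain ⟨x, hx⟩ := point_surj B.inner.A (hmem3 y hy).2
    exact ⟨x, hinj3 _ (hpts1 x) _ hy ((hpts2 x).trans hx)⟩
  · rw [← point_eq_iff B.inner.A]
    refine ⟨fun e => by rw [← hpts2 x, ← hpts2 y, e], fun e => hinj3 _ (hpts1 x) _ (hpts1 y) ?_⟩
    rw [hpts2 x, hpts2 y, e]
  · rw [← point_commute_iff B.inner.A, ← hpts2 x, ← hpts2 y,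
      M23.bar_commute B.cls B.inner (hmem3 _ (hpts1 x)).1 (hmem3 _ (hpts1 y)).1,
      bar_commute hD B (hpts1 x).1.1 (hpts1 y).1.1]
  · have hsub : ∀ z : C, Φ z = 1 → ∃ i j k : Fin 2, (z : G) = B.t ^ i.val * u ^ j.val * v ^ k.val := by
      intro z hz
      have hm : f2 z = 1 ∨ f2 z = B.inner.A.t := hker3 _ (hr2 z) hz
      rw [hf2] at hm
      obtain ⟨k, hk⟩ : ∃ k : Fin 2, bar (Et D B.t) B.inner.t (bar D B.t z) = bar (Et D B.t) B.inner.t (v' ^ k.val) := by
        rcases hm with e | e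
        · exact ⟨0, by rw [e, show ((0 : Fin 2).val) = 0 from rfl, pow_zero, bone]⟩
        · exact ⟨1, by rw [e, show ((1 : Fin 2).val) = 1 from rfl, pow_one, hv'bar]⟩
      have hzH : bar D B.t z ∈ Hs (Et D B.t) B.inner.t := hf1 z ▸ hr1 z
      have hvH : v' ^ k.val ∈ Hs (Et D B.t) B.inner.t := pow_mem (Subgroup.subset_closure hv') _
      obtain ⟨j, hj⟩ : ∃ j : Fin 2, bar D B.t z = v' ^ k.val * B.inner.t ^ j.val := by
        rcases M23.bar_eq_cases B.cls B.prim B.ty.1 B.inner hzH hvH hk with e | e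
        · exact ⟨0, by rw [e, show ((0 : Fin 2).val) = 0 from rfl, pow_zero, mul_one]⟩
        · exact ⟨1, by rw [e, show ((1 : Fin 2).val) = 1 from rfl, pow_one]⟩
      have hvG : v ^ k.val ∈ Hs D B.t := pow_mem (Subgroup.subset_closure hv.1) _
      have huG : u ^ j.val ∈ Hs D B.t := pow_mem (Subgroup.subset_closure hu) _
      have hpow : ∀ {y : G}, y ∈ Hs D B.t → ∀ n : ℕ, bar D B.t (y ^ n) = bar D B.t y ^ n := by
        intro y hy n
        rw [show y ^ n = ((⟨y, hy⟩ ^ n : ↥(Hs D B.t)) : G) from rfl, bar_eq, map_pow, ← bar_eq]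
      have hj' : bar D B.t z = bar D B.t (u ^ j.val * v ^ k.val) := by
        rw [hj, bar_mul hD B huG hvG, hpow (Subgroup.subset_closure hu), hpow (Subgroup.subset_closure hv.1), hubar,
          hvbar]
        exact (((closure_Ds_commute (Subgroup.subset_closure hv')).pow_left _).pow_right _).eq
      rcases M24.bar_eq_cases hD hp hZ B (hle1 z.2) (mul_mem huG hvG) hj' with e | e
      · exact ⟨0, j, k, by rw [e, show ((0 : Fin 2).val) = 0 from rfl, pow_zero, one_mul]⟩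
      · refine ⟨1, j, k, ?_⟩
        rw [e, show ((1 : Fin 2).val) = 1 from rfl, pow_one, mul_assoc B.t]
        exact (closure_Ds_commute (mul_mem huG hvG)).eq
    choose i j k hijk using hsub
    refine le_trans (Nat.card_le_card_of_injective
      (fun z : Φ.ker => (i z.1 z.2, j z.1 z.2, k z.1 z.2)) fun z z' e => ?_) (by simp [Nat.card_eq_fintype_card])
    simp only [Prod.mk.injEq] at e
    refine Subtype.ext (Subtype.ext ?_)
    rw [hijk z.1 z.2, hijk z'.1 z'.2, e.1, e.2.1, e.2.2]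
  · show B.inner.A.φ _ = _
    refine (congrArg B.inner.A.φ (Subtype.ext ?_ : f2.codRestrict _ hr2 ⟨pts x, hx⟩ = ⟨point B.inner.A x, point_mem' B.inner.A x⟩)).trans
      (point_φ B.inner.A x)
    show f2 ⟨pts x, hx⟩ = point B.inner.A x
    rw [hf2]
    exact hpts2 x

end CfsgThreeTrans.M24
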