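/-
Subgroups of order eleven in a group of type M(24).
-/
import Cfsg.Agent.Lib.ThreeTrans.M23.Eleven
import Cfsg.Agent.Lib.ThreeTrans.M24.Centraliser

set_option autoImplicit false
set_option linter.unusedSectionVars false

namespace CfsgThreeTrans.M24

open Cfsg CfsgLib Eleven
open CfsgThreeTrans.M23 (Hs Qt qt Et bar bar_eq)

universe u

variable {G : Type u} [Group G] [Finite G] {D : Set G}

/-- Every subgroup of order eleven centralises exactly three transpositions. -/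
theorem eleven_level (hD : IsThreeTranspositionClass D) (hp : IsPrimitiveUnderConj D) (hZ : Subgroup.center G = ⊥)
    (B : Base D) :
    ¬ 121 ∣ Nat.card G ∧
      (∀ X Y : Subgroup G, Nat.card X = 11 → Nat.card Y = 11 → ∃ g : G, X.map (MulAut.conj g).toMonoidHom = Y) ∧
      ∀ X : Subgroup G, Nat.card X = 11 → GoodAt D X 3 := by
  have hCe : Subgroup.centralizer ({B.t} : Set G) = Hs D B.t := M24.centralizer_eq hD hp hZ B B.ht
  set C := Subgroup.centralizer ({B.t} : Set G) with hC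
  set q : C →* Qt D B.t := (qt D B.t).comp (MulEquiv.subgroupCongr hCe).toMonoidHom with hq
  have hqv : ∀ y : C, q y = bar D B.t y := fun y =>
    (bar_eq (MulEquiv.subgroupCongr hCe y)).symm
  have hin : ∀ y : C, (y : G) ∈ Hs D B.t := fun y => hCe ▸ y.2
  refine step hD hp (M24.has_pair hD B) B.ht hC q ?_ ?_ ?_ (E := Et D B.t) ?_ ?_ ?_
    (M24.params hD hp B).1 (M24.ncard_Ds hD B B.ht) (by norm_num) (by norm_num)
    (M23.card_group (cls_group B.cls) B.prim B.ty B.inner)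
    (by norm_num) (by norm_num) (M23.eleven_level (cls_group B.cls) B.prim B.ty B.inner).2.2
  · intro z
    obtain ⟨x, hx⟩ := QuotientGroup.mk'_surjective _ z
    exact ⟨⟨x, hCe.symm ▸ x.2⟩, hx⟩
  · intro z hz
    exact ker_cases hD hp hZ B (hin z) ((hqv z).symm.trans hz)
  · intro z hz
    rw [hqv]
    set T : ↥(Hs D B.t) := ⟨B.t, hz ▸ hin z⟩
    rw [hz, show B.t = (T : G) from rfl, bar_eq]
    refine (QuotientGroup.eq_one_iff T).mpr ?_
    rw [M24.center_closure hD hp hZ B B.ht]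
    exact Subgroup.mem_zpowers B.t
  · ext e
    constructor
    · rintro ⟨x, hx, rfl⟩
      exact ⟨⟨x, hCe.symm ▸ x.2⟩, hx, rfl⟩
    · rintro ⟨y, hy, rfl⟩
      rw [hqv]
      exact bar_mem hD B hy
  · intro y hy y' hy' e
    rw [hqv, hqv] at e
    exact Subtype.ext (bar_inj hD B hy hy' e)
  · intro y y' hy hy' e
    rw [hqv, hqv] at e
    exact (bar_commute hD B hy hy').mp e

/-- Transitivity on commuting triples. -/
theorem triple_map (hD : IsThreeTranspositionClass D) (hp : IsPrimitiveUnderConj D) (B : Base D)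
    {a b c a' b' c' : G} (ha : a ∈ D) (hb : b ∈ Ds D a) (hc : c ∈ Ds D a) (hne : b ≠ c) (hbc : Commute b c)
    (ha' : a' ∈ D) (hb' : b' ∈ Ds D a') (hc' : c' ∈ Ds D a') (hne' : b' ≠ c') (hbc' : Commute b' c') :
    ∃ g : G, g * a * g⁻¹ = a' ∧ g * b * g⁻¹ = b' ∧ g * c * g⁻¹ = c' := by
  obtain ⟨m, hm, hin⟩ := M24.to_base hD B ha
  obtain ⟨m', hm', hin'⟩ := M24.to_base hD B ha'
  set x := m⁻¹ * b * m⁻¹⁻¹
  set y := m⁻¹ * c * m⁻¹⁻¹
  set x' := m'⁻¹ * b' * m'⁻¹⁻¹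
  set y' := m'⁻¹ * c' * m'⁻¹⁻¹
  have hx : x ∈ Ds D B.t := hin hb
  have hy : y ∈ Ds D B.t := hin hc
  have hx' : x' ∈ Ds D B.t := hin' hb'
  have hy' : y' ∈ Ds D B.t := hin' hc'
  have pr : ∀ {z w : G}, z ∈ Ds D B.t → w ∈ Ds D B.t → z ≠ w → Commute z w →
      bar D B.t w ∈ Ds (Et D B.t) (bar D B.t z) := fun {z w} hz hw n k =>
    ⟨bar_mem hD B hw, fun e => n (bar_inj hD B hw hz e).symm, (bar_commute hD B hz hw).mpr k⟩
  obtain ⟨l, l1, l2⟩ := M23.pair_map (cls_group B.cls) B.prim B.inner (bar_mem hD B hx)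
    (pr hx hy (fun e => hne (cj_injective m⁻¹ e)) ((commute_cj_iff m⁻¹).mpr hbc)) (bar_mem hD B hx')
    (pr hx' hy' (fun e => hne' (cj_injective m'⁻¹ e)) ((commute_cj_iff m'⁻¹).mpr hbc'))
  obtain ⟨⟨k, hk⟩, hkl⟩ := QuotientGroup.mk'_surjective _ l
  have hbk : bar D B.t k = l := (bar_eq (⟨k, hk⟩ : ↥(Hs D B.t))).trans hkl
  have hkt : k * B.t * k⁻¹ = B.t := by rw [(closure_Ds_commute hk).eq, mul_inv_cancel_right]
  have move : ∀ {z z' : G}, z ∈ Ds D B.t → z' ∈ Ds D B.t → l * bar D B.t z * l⁻¹ = bar D B.t z' →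
      k * z * k⁻¹ = z' := by
    intro z z' hz hz' e
    have hkz : k * z * k⁻¹ ∈ Ds D B.t := by
      rw [← hkt, ← cj_Ds hD]; exact ⟨z, hz, rfl⟩
    refine bar_inj hD B hkz hz' ?_
    set K : ↥(Hs D B.t) := ⟨k, hk⟩
    set Z : ↥(Hs D B.t) := ⟨z, Subgroup.subset_closure hz⟩
    rw [show k * z * k⁻¹ = ((K * Z * K⁻¹ : ↥(Hs D B.t)) : G) from rfl, bar_eq, map_mul, map_mul, map_inv,
      ← bar_eq, ← bar_eq, hbk]
    exact e
  refine ⟨m' * k * m⁻¹, ?_, ?_, ?_⟩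
  · rw [← cj_cj, ← cj_cj, show m⁻¹ * a * m⁻¹⁻¹ = B.t by rw [← hm]; group, hkt, hm']
  · rw [← cj_cj, ← cj_cj, move hx hx' l1, cj_inv]
  · rw [← cj_cj, ← cj_cj, move hy hy' l2, cj_inv]

end CfsgThreeTrans.M24
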