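/-
Totally isotropic lines and planes of the six-dimensional hermitian space over four elements.
-/
import Cfsg.Agent.Lib.ThreeTrans.M22.Geom

set_option autoImplicit false
set_option linter.unusedSectionVars false

namespace CfsgThreeTrans.M24.PlaneVec

open Matrix Cfsg CfsgLib CfsgLib.UnitaryTransvection CfsgLib.UnitarySimple CfsgThreeTrans.M22

variable {F : Type} [Field F] [Fintype F] [DecidableEq F] (hF : Fintype.card F = 2 ^ 2)

local notation "V" => (Fin 6 → F)
local notation "h" => Cfsg.hermForm 6 F 2
local notation "σ" => frob hF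

/-- The pairing against a vector. -/
def pair (w : V) : Module.Dual F V where
  toFun x := h x w
  map_add' x y := h_add_left x y w
  map_smul' c x := h_smul_left c x w

/-- A vector of the standard plane. -/
def comb (c : Fin 3 → F) : V := fun i => c ⟨i.val / 2, by omega⟩

theorem comb_add (a b : Fin 3 → F) : comb (a + b) = comb a + comb b := rfl

theorem comb_smul (l : F) (a : Fin 3 → F) : comb (l • a) = l • comb a := rfl

theorem comb_injective : Function.Injective (comb (F := F)) := fun a b e => funext fun k => by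
  have := congrFun e ⟨2 * k.val, by omega⟩
  simpa [comb] using this

include hF

theorem pair_eq_zero {w : V} (e : pair w = 0) : w = 0 := by
  refine h_nondeg hF fun y => ?_
  have : h y w = 0 := LinearMap.congr_fun e y
  rw [← h_swap hF y w, this, map_zero]

theorem pair_comb {ι : Type} [Fintype ι] (w : ι → V) (c : ι → F) :
    ∑ i, c i • pair (w i) = pair (∑ i, σ (c i) • w i) := by
  refine LinearMap.ext fun x => ?_
  simp only [LinearMap.sum_apply, LinearMap.smul_apply, smul_eq_mul]
  show ∑ i, c i * h x (w i) = h x (∑ i, σ (c i) • w i)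
  classical
  induction (Finset.univ : Finset ι) using Finset.induction with
  | empty => simp [h_zero_right hF]
  | insert i s hi ih =>
    rw [Finset.sum_insert hi, Finset.sum_insert hi, h_add_right hF, ih, h_smul_right hF, frob_frob]

/-- A vector orthogonal to everything orthogonal to finitely many vectors is a combination of them. -/
theorem mem_span {ι : Type} [Fintype ι] (w : ι → V) {v : V}
    (hv : ∀ x, (∀ i, h x (w i) = 0) → h x v = 0) : v ∈ Submodule.span F (Set.range w) := by
  have hle : ⨅ i, LinearMap.ker (pair (w i)) ≤ LinearMap.ker (pair v) := fun x hx => by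
    simp only [Submodule.mem_iInf, LinearMap.mem_ker] at hx
    exact hv x hx
  obtain ⟨c, hc⟩ := (Submodule.mem_span_range_iff_exists_fun F).mp (mem_span_of_iInf_ker_le_ker hle)
  rw [pair_comb hF] at hc
  have e : v = ∑ i, σ (c i) • w i := by
    refine sub_eq_zero.mp (pair_eq_zero hF (LinearMap.ext fun x => ?_))
    show h x (v - _) = 0
    rw [h_sub_right hF, sub_eq_zero]
    exact (LinearMap.congr_fun hc x).symm
  rw [e]
  exact sum_mem fun i _ => Submodule.smul_mem _ _ (Submodule.subset_span ⟨i, rfl⟩)

/-- At most three independent vectors are pairwise orthogonal and isotropic. -/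
theorem iso_dim {k : ℕ} {w : Fin k → V} (hw : LinearIndependent F w) (hperp : ∀ i j, h (w i) (w j) = 0) :
    k ≤ 3 := by
  have hind : LinearIndependent F fun i => pair (w i) := by
    refine Fintype.linearIndependent_iff.mpr fun c hc i => ?_
    rw [pair_comb hF] at hc
    have := Fintype.linearIndependent_iff.mp hw (fun i => σ (c i)) (pair_eq_zero hF hc) i
    have := congrArg σ this
    rwa [frob_frob, map_zero] at this
  set W := Submodule.span F (Set.range w)
  have hle : Submodule.span F (Set.range fun i => pair (w i)) ≤ W.dualAnnihilator := by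
    rw [Submodule.span_le]
    rintro _ ⟨i, rfl⟩
    rw [SetLike.mem_coe, Submodule.mem_dualAnnihilator]
    intro x hx
    induction hx using Submodule.span_induction with
    | mem y hy => obtain ⟨j, rfl⟩ := hy; exact hperp j i
    | zero => exact map_zero _
    | add x y _ _ ex ey => rw [map_add, ex, ey, add_zero]
    | smul c x _ ex => rw [map_smul, ex, smul_zero]
  have h1 := Submodule.finrank_mono hle
  have h2 := Subspace.finrank_add_finrank_dualAnnihilator_eq W
  rw [finrank_span_eq_card hind, Fintype.card_fin] at h1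
  rw [finrank_span_eq_card hw, Fintype.card_fin, Module.finrank_pi, Fintype.card_fin] at h2
  omega

theorem perp_span {ι : Type} {w : ι → V} {x : V} (hx : ∀ i, h x (w i) = 0) :
    ∀ y ∈ Submodule.span F (Set.range w), h x y = 0 := by
  intro y hy
  induction hy using Submodule.span_induction with
  | mem y hy => obtain ⟨j, rfl⟩ := hy; exact hx j
  | zero => exact h_zero_right hF x
  | add a b _ _ ea eb => rw [h_add_right hF, ea, eb, add_zero]
  | smul c a _ ea => rw [h_smul_right hF, ea, mul_zero]

theorem comb_perp (a b : Fin 3 → F) : h (comb a) (comb b) = 0 := by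
  simp only [Cfsg.hermForm, Fin.sum_univ_six, comb]
  have := two_zero hF
  simp [Fin.ext_iff]
  linear_combination (a 0 * b 0 ^ 2 + a 1 * b 1 ^ 2 + a 2 * b 2 ^ 2) * this

/-- The standard plane is its own perpendicular. -/
theorem comb_of_perp {x : V} (hx : ∀ c, h x (comb c) = 0) : ∃ c, x = comb c := by
  refine ⟨![x 0, x 2, x 4], ?_⟩
  have key : ∀ k : Fin 3, x ⟨2 * k.val, by omega⟩ + x ⟨2 * k.val + 1, by omega⟩ = 0 := by
    intro k
    have := hx (Pi.single k 1)
    fin_cases k <;> simpa [Cfsg.hermForm, Fin.sum_univ_six, comb, Pi.single_apply, Fin.ext_iff] using this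
  have e : ∀ k : Fin 3, x ⟨2 * k.val + 1, by omega⟩ = x ⟨2 * k.val, by omega⟩ := fun k => by
    linear_combination key k - x ⟨2 * k.val, by omega⟩ * two_zero hF
  funext i
  fin_cases i
  exacts [rfl, e 0, rfl, e 1, rfl, e 2]

/-- Five points with vanishing sum of transvection terms lie on a line. -/
theorem line_of_rel (p : Fin 5 → V) (hnp : ∀ i j, i ≠ j → ∀ a : F, p i ≠ a • p j) (h0 : ∀ i, p i ≠ 0)
    (hrel : ∀ x, ∑ i, h x (p i) • p i = 0) : ∀ i, p i ∈ Submodule.span F (Set.range ![p 0, p 1]) := by
  have pairind : ∀ i j, i ≠ j → LinearIndependent F ![p i, p j] := fun i j hij => by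
    refine (LinearIndependent.pair_iff' (h0 i)).mpr fun a e => ?_
    exact hnp j i hij.symm a e.symm
  have key : ∀ k : Fin 5, 2 ≤ k.val → ∀ m n : Fin 5, 2 ≤ m.val → 2 ≤ n.val → k ≠ m → k ≠ n → m ≠ n →
      p k ∈ Submodule.span F (Set.range ![p 0, p 1]) := by
    intro k hk m n hm hn hkm hkn hmn
    by_contra hout
    have h3 : LinearIndependent F ![p k, p 0, p 1] := linearIndependent_finCons.mpr ⟨pairind 0 1 (by decide), hout⟩
    have hall : ∀ x, (∀ i : Fin 2, h x (![p m, p n] i) = 0) → ∀ j : Fin 3, h x (![p k, p 0, p 1] j) = 0 := by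
      intro x hx
      have hz := hrel x
      have hx1 : h x (p m) = 0 := hx 0
      have hx2 : h x (p n) = 0 := hx 1
      have e : ∑ j : Fin 3, h x (![p k, p 0, p 1] j) • (![p k, p 0, p 1] j) = 0 := by
        rw [← hz, Fin.sum_univ_three, Fin.sum_univ_five]
        have hk' : k = 2 ∨ k = 3 ∨ k = 4 := by fin_cases k <;> simp at hk ⊢
        have hm' : m = 2 ∨ m = 3 ∨ m = 4 := by fin_cases m <;> simp at hm ⊢
        have hn' : n = 2 ∨ n = 3 ∨ n = 4 := by fin_cases n <;> simp at hn ⊢
        rcases hk' with rfl | rfl | rfl <;> rcases hm' with rfl | rfl | rfl <;> rcases hn' with rfl | rfl | rfl <;>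
          first | exact absurd rfl hkm | exact absurd rfl hkn | exact absurd rfl hmn |
            (simp [hx1, hx2]; abel)
      exact Fintype.linearIndependent_iff.mp h3 _ e
    have hmem : ∀ j : Fin 3, ![p k, p 0, p 1] j ∈ Submodule.span F (Set.range ![p m, p n]) :=
      fun j => mem_span hF _ fun x hx => hall x hx j
    have h1 := Submodule.finrank_mono (Submodule.span_le.mpr (by rintro _ ⟨j, rfl⟩; exact hmem j) :
      Submodule.span F (Set.range ![p k, p 0, p 1]) ≤ Submodule.span F (Set.range ![p m, p n]))
    have h2 := finrank_range_le_card (R := F) ![p m, p n]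
    rw [finrank_span_eq_card h3, Fintype.card_fin] at h1
    rw [Set.finrank, Fintype.card_fin] at h2
    omega
  intro i
  fin_cases i
  · exact Submodule.subset_span ⟨0, rfl⟩
  · exact Submodule.subset_span ⟨1, rfl⟩
  · exact key 2 (by decide) 3 4 (by decide) (by decide) (by decide) (by decide) (by decide)
  · exact key 3 (by decide) 2 4 (by decide) (by decide) (by decide) (by decide) (by decide)
  · exact key 4 (by decide) 2 3 (by decide) (by decide) (by decide) (by decide) (by decide)

/-- A line has five points. -/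
theorem line_points {a b : V} (s : Finset V) (hs : ∀ x ∈ s, x ∈ Submodule.span F (Set.range ![a, b]) ∧ x ≠ 0)
    (hne : ∀ x ∈ s, ∀ y ∈ s, x ≠ y → ∀ l : F, x ≠ l • y) : s.card ≤ 5 := by
  classical
  let f : Option F → V := fun o => o.elim a fun l => l • a + b
  have hrep : ∀ x : V, x ∈ s → ∃ o, ∃ l : F, l ≠ 0 ∧ x = l • f o := by
    intro x hx
    obtain ⟨c, hc⟩ := (Submodule.mem_span_range_iff_exists_fun F).mp (hs x hx).1
    simp only [Fin.sum_univ_two, Matrix.cons_val_zero, Matrix.cons_val_one] at hc
    by_cases h1 : c 1 = 0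
    · refine ⟨none, c 0, fun e => (hs x hx).2 ?_, ?_⟩
      · rw [← hc, e, h1, zero_smul, zero_smul, add_zero]
      · rw [← hc, h1, zero_smul, add_zero]; rfl
    · refine ⟨some (c 0 / c 1), c 1, h1, ?_⟩
      show x = c 1 • ((c 0 / c 1) • a + b)
      rw [smul_add, smul_smul, mul_div_cancel₀ _ h1, hc]
  choose o l hl hrep using hrep
  refine le_trans (Finset.card_le_card_of_injOn (s := s) (t := (Finset.univ : Finset (Option F)))
    (fun x => if hx : x ∈ s then o x hx else none) (fun _ _ => Finset.mem_univ _) fun x hx y hy e => ?_) ?_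
  · by_contra hxy
    have hx' : x ∈ s := hx
    have hy' : y ∈ s := hy
    simp only [dif_pos hx', dif_pos hy'] at e
    refine hne x hx' y hy' hxy (l x hx' / l y hy') ?_
    calc x = l x hx' • f (o x hx') := hrep x hx'
      _ = (l x hx' / l y hy') • (l y hy' • f (o y hy')) := by rw [smul_smul, div_mul_cancel₀ _ (hl y hy'), e]
      _ = _ := by rw [← hrep y hy']
  · rw [Finset.card_univ, Fintype.card_option, hF]; norm_num

/-- An isotropic vector over a line, off a given plane through it. -/
theorem exists_off {a b q : V} (hqa : h q a = 0) (hqb : h q b = 0) (hqq : h q q = 0)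
    (hq : q ∉ Submodule.span F (Set.range ![a, b])) :
    ∃ x : V, x ≠ 0 ∧ h x x = 0 ∧ h x a = 0 ∧ h x b = 0 ∧ h x q ≠ 0 := by
  obtain ⟨r, hra, hrb, hrq⟩ : ∃ r, h r a = 0 ∧ h r b = 0 ∧ h r q ≠ 0 := by
    by_contra hno
    push Not at hno
    exact hq (mem_span hF ![a, b] fun x hx => hno x (hx 0) (hx 1))
  obtain ⟨d, hd⟩ := exists_trace_one hF
  set k := h r q
  have hqr : h q r = σ k := (h_swap hF r q).symm
  rcases fixed hF (h_swap hF r r) with e | e
  · exact ⟨r, fun k' => hrq (show h r q = 0 by rw [k', h_zero_left hF]), e, hra, hrb, hrq⟩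
  · refine ⟨r + (d * k) • q, fun k' => hrq ?_, ?_, ?_, ?_, ?_⟩
    · have := congrArg (fun z => h z q) k'
      simpa [h_add_left, h_smul_left, hqq, h_zero_left hF] using this
    · simp only [h_add_left, h_add_right hF, h_smul_left, h_smul_right hF, map_mul, e, hqq, hqr]
      show 1 + d * k * σ k + σ d * σ k * (k + d * k * 0) = 0
      linear_combination (σ d + d) * CfsgThreeTrans.M22.norm_one hF hrq + hd + two_zero hF
    · rw [h_add_left, h_smul_left, hra, hqa, mul_zero, add_zero]
    · rw [h_add_left, h_smul_left, hrb, hqb, mul_zero, add_zero]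
    · rw [h_add_left, h_smul_left, hqq, mul_zero, add_zero]; exact hrq

/-- The pointwise stabiliser of the standard plane, up to scalars, is small. -/
theorem stab_bound {ι : Type} [Finite ι] (g : ι → Cfsg.SU 6 F 2) (l : ι → F)
    (hl : ∀ i, l i ≠ 0) (hfix : ∀ i c, mat (g i) *ᵥ comb c = l i • comb c)
    (hinj : ∀ i j, (∃ r : F, ∀ x, mat (g i) *ᵥ x = r • (mat (g j) *ᵥ x)) → i = j) : Nat.card ι ≤ 512 := by
  classical
  let L : ι → V → V := fun i x => (l i)⁻¹ • (mat (g i) *ᵥ x)
  have hLc : ∀ i c, L i (comb c) = comb c := fun i c => by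
    simp only [L]; rw [hfix, smul_smul, inv_mul_cancel₀ (hl i), one_smul]
  have hLh : ∀ i x y, h (L i x) (L i y) = h x y := fun i x y => by
    simp only [L]
    rw [h_smul_left, h_smul_right hF, su_h, ← mul_assoc, norm_one hF (inv_ne_zero (hl i)), one_mul]
  have hLa : ∀ i x y, L i (x + y) = L i x + L i y := fun i x y => by
    simp only [L]; rw [mulVec_add, smul_add]
  have hLs : ∀ i (c : F) x, L i (c • x) = c • L i x := fun i c x => by
    simp only [L]; rw [mulVec_smul, smul_comm]
  let e : Fin 3 → V := fun k => Pi.single ⟨2 * k.val, by omega⟩ 1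
  have hy : ∀ i k, ∃ c, L i (e k) = e k + comb c := by
    intro i k
    obtain ⟨c, hc⟩ := comb_of_perp hF (x := L i (e k) - e k) fun c => by
      rw [h_sub_left]
      nth_rewrite 1 [← hLc i c]
      rw [hLh, sub_self]
    exact ⟨c, by rw [← hc]; abel⟩
  choose c hc using hy
  have hev : ∀ i k j, h (comb (c i k)) (e j) = c i k j := fun i k j => by
    simp only [e]
    rw [UnitaryOrder.herm_single_right hF]
    simp [comb]
  have hrel : ∀ i k j, c i k j + σ (c i j k) = 0 := by
    intro i k j
    have := hLh i (e k) (e j)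
    rw [hc, hc, h_add_left, h_add_right hF, h_add_right hF, hev, comb_perp hF, add_zero,
      show h (e k) (comb (c i j)) = σ (c i j k) by rw [← h_swap hF, hev]] at this
    linear_combination this
  have hswap : ∀ i k j, c i j k = σ (c i k j) := fun i k j => by
    linear_combination hrel i j k - σ (c i k j) * two_zero hF
  let data : ι → (Fin 3 → Bool) × (F × F × F) :=
    fun i => (fun k => decide (c i k k = 0), c i 0 1, c i 0 2, c i 1 2)
  refine le_trans (Nat.card_le_card_of_injective data fun i j e' => hinj i j ⟨l i * (l j)⁻¹, ?_⟩) ?_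
  · simp only [data, Prod.mk.injEq] at e'
    obtain ⟨d0, d1, d2, d3⟩ := e'
    have hdiag : ∀ k, c i k k = c j k k := fun k => by
      have hk : decide (c i k k = 0) = decide (c j k k = 0) := congrFun d0 k
      rcases fixed hF (hswap i k k).symm with e1 | e1 <;> rcases fixed hF (hswap j k k).symm with e2 | e2 <;>
        rw [e1, e2] <;> simp [e1, e2] at hk
    have hcc : c i = c j := by
      funext k m
      fin_cases k <;> fin_cases m
      exacts [hdiag 0, d1, d2, (show c i 1 0 = c j 1 0 by rw [hswap i 0 1, hswap j 0 1, d1]), hdiag 1, d3,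
        (show c i 2 0 = c j 2 0 by rw [hswap i 0 2, hswap j 0 2, d2]),
        (show c i 2 1 = c j 2 1 by rw [hswap i 1 2, hswap j 1 2, d3]), hdiag 2]
    have hL : ∀ x, L i x = L j x := by
      intro x
      have hx : x = comb ![x 1, x 3, x 5] + ((x 0 - x 1) • e 0 + ((x 2 - x 3) • e 1 + (x 4 - x 5) • e 2)) := by
        funext k
        fin_cases k <;> simp [comb, e, Fin.ext_iff, Pi.single_apply]
      rw [hx]
      simp only [hLa, hLs, hLc, hc, hcc]
    intro x
    have := congrArg (fun z => l i • z) (hL x)
    simp only [L, smul_smul, mul_inv_cancel₀ (hl i), one_smul] at this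
    exact this
  · simp [Nat.card_eq_fintype_card, hF]

end CfsgThreeTrans.M24.PlaneVec
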