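/-
A maximal set of commuting transpositions in type M(24) and the geometry at its relations of length eight.
-/
import Cfsg.Agent.Lib.ThreeTrans.M24.Chart
import Cfsg.Agent.Lib.ThreeTrans.M24.PlaneVec
import Cfsg.Agent.Lib.ThreeTrans.M24.Eleven

set_option autoImplicit false
set_option linter.unusedSectionVars false

namespace CfsgThreeTrans.M24

open Matrix Cfsg CfsgLib CfsgLib.UnitaryTransvection CfsgLib.UnitarySimple CfsgThreeTrans.M22
open CfsgThreeTrans.M24.PlaneVec

universe u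

variable {G : Type u} [Group G] [Finite G] {D : Set G}

/-- The anchors and the points of the standard plane. -/
def plane (K : Chart D) : Set G :=
  {K.t, K.u, K.v} ∪ {y | ∃ x : Iso K.F, (∃ c, x.1 = comb c) ∧ K.pts x = y}

section
variable (K : Chart D)

theorem pts_mem_cent (x : Iso K.F) : K.pts x ∈ Subgroup.centralizer ({K.t, K.u, K.v} : Set G) := by
  refine Subgroup.mem_centralizer_iff.mpr fun y hy => ?_
  obtain ⟨⟨h1, h2⟩, h3⟩ := K.mem x
  rcases hy with rfl | rfl | rfl
  exacts [h1.2.2.eq, h2.2.2.eq, h3.2.2.eq]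

theorem anchor_mem {y : G} (hy : y = K.t ∨ y = K.u ∨ y = K.v) :
    y ∈ Subgroup.centralizer ({K.t, K.u, K.v} : Set G) := by
  refine Subgroup.mem_centralizer_iff.mpr fun z hz => ?_
  have c1 : Commute K.t K.u := K.hu.2.2
  have c2 : Commute K.t K.v := K.hv.1.2.2
  have c3 : Commute K.u K.v := K.hv.2.2.2
  rcases hz with rfl | rfl | rfl <;> rcases hy with rfl | rfl | rfl
  exacts [rfl, c1.eq, c2.eq, c1.eq.symm, rfl, c3.eq, c2.eq.symm, c3.eq.symm, rfl]

theorem plane_D {y : G} (hy : y ∈ plane K) : y ∈ D := by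
  rcases hy with (rfl | rfl | rfl) | ⟨x, -, rfl⟩
  exacts [K.ht, K.hu.1, K.hv.1.1, (K.mem x).1.1.1]

theorem plane_comm {y z : G} (hy : y ∈ plane K) (hz : z ∈ plane K) : Commute y z := by
  have hca : ∀ {a b : G}, (a = K.t ∨ a = K.u ∨ a = K.v) → b ∈ plane K → Commute a b := by
    intro a b ha hb
    have hbC : b ∈ Subgroup.centralizer ({K.t, K.u, K.v} : Set G) := by
      rcases hb with hb | ⟨x, -, rfl⟩
      · exact anchor_mem K hb
      · exact pts_mem_cent K x
    exact Subgroup.mem_centralizer_iff.mp hbC a ha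
  rcases hy with hy | ⟨x, hx, rfl⟩
  · exact hca hy hz
  rcases hz with hz | ⟨x', hx', rfl⟩
  · exact (hca hz (Or.inr ⟨x, hx, rfl⟩)).symm
  obtain ⟨c, hc⟩ := hx
  obtain ⟨c', hc'⟩ := hx'
  rw [K.comm_iff, hc, hc', comb_perp K.hF]

theorem plane_max {d : G} (hd : d ∈ D) (h : ∀ y ∈ plane K, Commute y d) : d ∈ plane K := by
  by_cases h1 : d = K.t
  · exact Or.inl (Or.inl h1)
  by_cases h2 : d = K.u
  · exact Or.inl (Or.inr (Or.inl h2))
  by_cases h3 : d = K.v
  · exact Or.inl (Or.inr (Or.inr h3))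
  obtain ⟨x, rfl⟩ := K.surj d ⟨⟨⟨hd, h1, h K.t (Or.inl (Or.inl rfl))⟩,
    ⟨hd, h2, h K.u (Or.inl (Or.inr (Or.inl rfl)))⟩⟩, ⟨hd, h3, h K.v (Or.inl (Or.inr (Or.inr rfl)))⟩⟩
  refine Or.inr ⟨x, comb_of_perp K.hF fun c => ?_, rfl⟩
  by_cases hc : c = 0
  · rw [hc, show comb (0 : Fin 3 → K.F) = 0 from rfl]; exact h_zero_right K.hF _
  · refine (K.comm_iff x ⟨comb c, fun e => hc (comb_injective (e.trans rfl)), comb_perp K.hF c c⟩).mp ?_
    exact (h _ (Or.inr ⟨_, ⟨c, rfl⟩, rfl⟩)).symm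

theorem plane_card : (plane K).ncard = 24 := by
  classical
  let W := {c : Fin 3 → K.F // c ≠ 0}
  let f : W → G := fun c => K.pts ⟨comb c.1, fun e => c.2 (comb_injective (e.trans rfl)), comb_perp K.hF c.1 c.1⟩
  have hset : {y | ∃ x : Iso K.F, (∃ c, x.1 = comb c) ∧ K.pts x = y} = Set.range f := by
    ext y
    constructor
    · rintro ⟨x, ⟨c, hc⟩, rfl⟩
      have hc0 : c ≠ 0 := fun e => x.2.1 (by rw [hc, e]; rfl)
      exact ⟨⟨c, hc0⟩, congrArg K.pts (Subtype.ext hc.symm)⟩
    · rintro ⟨c, rfl⟩; exact ⟨_, ⟨c.1, rfl⟩, rfl⟩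
  let R : (K.F × K.F) ⊕ (K.F ⊕ Unit) → W := fun s => match s with
    | Sum.inl (a, b) => ⟨![1, a, b], fun e => by simpa using congrFun e 0⟩
    | Sum.inr (Sum.inl a) => ⟨![0, 1, a], fun e => by simpa using congrFun e 1⟩
    | Sum.inr (Sum.inr _) => ⟨![0, 0, 1], fun e => by simpa using congrFun e 2⟩
  have hR : Function.Injective (f ∘ R) := by
    intro s s' e
    obtain ⟨a, ha, e'⟩ := (K.eq_iff _ _).mp e
    have e'' : (R s).1 = a • (R s').1 := comb_injective (e'.trans (comb_smul a _).symm)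
    have g0 := congrFun e'' 0
    have g1 := congrFun e'' 1
    have g2 := congrFun e'' 2
    rcases s with ⟨x, y⟩ | x | x <;> rcases s' with ⟨x', y'⟩ | x' | x' <;> simp [R] at g0 g1 g2 <;>
      first
        | rfl
        | exact absurd g0.symm ha
        | exact absurd g1.symm ha
        | (subst g0; rw [g1, g2, one_mul, one_mul])
        | (subst g1; rw [g2, one_mul])
  have hrange : Set.range f = Set.range (f ∘ R) := by
    refine Set.Subset.antisymm ?_ (Set.range_comp_subset_range R f)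
    rintro _ ⟨⟨c, hc⟩, rfl⟩
    have hmk : ∀ s, ∀ a : K.F, a ≠ 0 → c = a • (R s).1 → f ⟨c, hc⟩ ∈ Set.range (f ∘ R) := fun s a ha e =>
      ⟨s, ((K.eq_iff _ _).mpr ⟨a, ha, (congrArg comb e).trans (comb_smul a _)⟩).symm⟩
    by_cases k0 : c 0 = 0
    swap
    · exact hmk (Sum.inl (c 1 / c 0, c 2 / c 0)) (c 0) k0 (funext fun i => by fin_cases i <;> simp [R, mul_div_cancel₀ _ k0])
    by_cases k1 : c 1 = 0
    swap
    · exact hmk (Sum.inr (Sum.inl (c 2 / c 1))) (c 1) k1 (funext fun i => by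
        fin_cases i <;> simp [R, k0, mul_div_cancel₀ _ k1])
    have k2 : c 2 ≠ 0 := fun k2 => hc (funext fun i => by fin_cases i <;> assumption)
    exact hmk (Sum.inr (Sum.inr ())) (c 2) k2 (funext fun i => by fin_cases i <;> simp [R, k0, k1])
  have hf : (Set.range f).ncard = 21 := by
    rw [hrange, ← Nat.card_coe_set_eq, Nat.card_range_of_injective hR, Nat.card_eq_fintype_card]
    simp [K.hF]
  have hdis : Disjoint ({K.t, K.u, K.v} : Set G) (Set.range f) := by
    rw [Set.disjoint_right]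
    rintro _ ⟨c, rfl⟩ (e | e | e)
    exacts [(K.mem _).1.1.2.1 e, (K.mem _).1.2.2.1 e, (K.mem _).2.2.1 e]
  have h3 : ({K.t, K.u, K.v} : Set G).ncard = 3 := by
    rw [Set.ncard_eq_three]
    exact ⟨K.t, K.u, K.v, K.hu.2.1.symm, K.hv.1.2.1.symm, K.hv.2.2.1.symm, rfl⟩
  rw [plane, hset, Set.ncard_union_eq hdis, h3, hf]

set_option maxHeartbeats 1000000 in
theorem cent_plane_le : Nat.card ↥(Subgroup.centralizer (plane K)) ≤ 4096 := by
  classical
  set C := Subgroup.centralizer ({K.t, K.u, K.v} : Set G)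
  have hle : Subgroup.centralizer (plane K) ≤ C := Subgroup.centralizer_le Set.subset_union_left
  let f := K.Φ.comp (Subgroup.inclusion hle)
  have hk : Nat.card f.ker ≤ 8 := le_trans (Nat.card_le_card_of_injective
    (fun z : f.ker => (⟨Subgroup.inclusion hle z.1, z.2⟩ : K.Φ.ker)) fun z z' e =>
      Subtype.ext (Subgroup.inclusion_injective hle (congrArg Subtype.val e))) K.ker_le
  have hr : Nat.card f.range ≤ 512 := by
    choose g hg using fun e : f.range => QuotientGroup.mk'_surjective (Subgroup.center (Cfsg.SU 6 K.F 2)) e.1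
    have hcj : ∀ (e : f.range) (c : Fin 3 → K.F), ∃ a : K.F, a ≠ 0 ∧ mat (g e) *ᵥ comb c = a • comb c := by
      intro e c
      by_cases hc : c = 0
      · exact ⟨1, one_ne_zero, by rw [hc, show comb (0 : Fin 3 → K.F) = 0 from rfl, mulVec_zero, smul_zero]⟩
      obtain ⟨z, hz⟩ := e.2
      set x : Iso K.F := ⟨comb c, fun k => hc (comb_injective (k.trans rfl)), comb_perp K.hF c c⟩
      have hzc : Commute (Subgroup.inclusion hle z) ⟨K.pts x, pts_mem_cent K x⟩ := Subtype.ext
        (Subgroup.mem_centralizer_iff.mp z.2 _ (Or.inr ⟨x, ⟨c, rfl⟩, rfl⟩)).symm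
      have h1 := hzc.map K.Φ
      rw [K.img, show K.Φ (Subgroup.inclusion hle z) = (QuotientGroup.mk' _ (g e)) by
        rw [hg]; exact hz] at h1
      have h2 : QuotientGroup.mk' (Subgroup.center (Cfsg.SU 6 K.F 2)) (g e * tu K.hF x.1 * (g e)⁻¹) =
          QuotientGroup.mk' _ (tu K.hF x.1) := by
        rw [map_mul, map_mul, map_inv]
        exact mul_inv_eq_iff_eq_mul.mpr h1.eq
      have hy : Cfsg.hermForm 6 K.F 2 (mat (g e) *ᵥ x.1) (mat (g e) *ᵥ x.1) = 0 := by rw [su_h]; exact x.2.2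
      rw [tu_conj K.hF _ x.2.2] at h2
      have h3 := mk_inj K.hF (tu_sq K.hF hy) (tu_sq K.hF x.2.2) h2
      obtain ⟨a, ha⟩ := tu_point K.hF x.2.2 x.2.1 hy h3.symm
      have ha0 : a ≠ 0 := fun k => x.2.1 (by rw [ha, k, zero_smul])
      exact ⟨a⁻¹, inv_ne_zero ha0, by
        show mat (g e) *ᵥ x.1 = a⁻¹ • x.1
        conv_rhs => rw [ha]
        rw [smul_smul, inv_mul_cancel₀ ha0, one_smul]⟩
    choose a ha0 hac using hcj
    have hlin : ∀ e c, mat (g e) *ᵥ comb c = a e (Pi.single 0 1) • comb c := by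
      intro e c
      let b : Fin 3 → K.F := fun k => a e (Pi.single k 1)
      have hb : ∀ k, k ≠ 0 → b k = b 0 := by
        intro k hk
        have h1 := hac e (Pi.single 0 1 + Pi.single k 1)
        rw [comb_add, mulVec_add, hac, hac, ← comb_smul, ← comb_smul, ← comb_add, ← comb_add, ← comb_smul] at h1
        have h2 := comb_injective h1
        have e0 := congrFun h2 0
        have ek := congrFun h2 k
        simp [hk, Ne.symm hk] at e0 ek
        show a e (Pi.single k 1) = a e (Pi.single 0 1)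
        rw [e0, ek]
      have hb' : ∀ k, a e (Pi.single k 1) = a e (Pi.single 0 1) := fun k => by
        by_cases hk : k = 0
        · rw [hk]
        · exact hb k hk
      have hc : c = c 0 • Pi.single 0 1 + (c 1 • Pi.single 1 1 + c 2 • Pi.single 2 1) := by
        funext i; fin_cases i <;> simp
      rw [hc, comb_add, comb_add, comb_smul, comb_smul, comb_smul, mulVec_add, mulVec_add, mulVec_smul, mulVec_smul,
        mulVec_smul, hac, hac, hac, hb' 1, hb' 2, smul_add, smul_add, smul_comm, smul_comm (c 1), smul_comm (c 2)]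
    refine stab_bound K.hF g (fun e => a e (Pi.single 0 1)) (fun e => ha0 e _) hlin fun e e' ⟨r, hr⟩ => ?_
    refine Subtype.ext ?_
    rw [← hg, ← hg]
    refine (QuotientGroup.eq.mpr ?_).symm
    rw [← QuotientGroup.eq_one_iff]
    refine (SpectrumPowers.mk_eq_one_iff_SU K.hF (by norm_num) _).mpr ⟨r, ?_⟩
    show mat ((g e')⁻¹ * g e) = _
    refine Matrix.ext_of_mulVec_single fun i => ?_
    rw [mat_mul, ← mulVec_mulVec, hr, mulVec_smul, mat_inv_mulVec']
    funext j
    simp [Matrix.scalar_apply, Matrix.mulVec_single, Matrix.diagonal_apply, Pi.single_apply]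
  have h := f.ker.card_mul_index
  rw [Subgroup.index_ker] at h
  calc Nat.card ↥(Subgroup.centralizer (plane K)) = _ := h.symm
    _ ≤ 8 * 512 := Nat.mul_le_mul hk hr

end

set_option maxHeartbeats 2000000 in
/-- The geometry at eight commuting members with product one. -/
theorem octad_geo (hD : IsThreeTranspositionClass D) (hp : IsPrimitiveUnderConj D) (B : Base D) (K : Chart D)
    {l : List G} (hnd : l.Nodup) (hlen : l.length = 8) (hm : ∀ y ∈ l, y ∈ D)
    (hc : ∀ y ∈ l, ∀ z ∈ l, Commute y z) (hprod : l.prod = 1) {a : G} (ha : a ∈ D) (hal : a ∉ l)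
    (hac : ∀ y ∈ l, Commute y a) :
    (∀ x ∈ D, ∀ y ∈ D, (∀ z ∈ l, Commute z x) → (∀ z ∈ l, Commute z y) → Commute a x → Commute a y → Commute x y) ∧
      ∃ c ∈ D, (∀ z ∈ l, Commute z c) ∧ ¬ Commute a c := by
  classical
  have hD' := hD
  match l, hlen, hnd, hm, hc, hprod, hal, hac with
  | [o1, o2, o3, q0, q1, q2, q3, q4], _, hnd, hm, hc, hprod, hal, hac =>
  simp only [List.nodup_cons, List.mem_cons, List.not_mem_nil, or_false, not_or, List.nodup_nil, and_true,
    not_false_iff] at hnd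
  have m1 : o2 ∈ Ds D o1 := ⟨hm o2 (by simp), Ne.symm hnd.1.1, hc o1 (by simp) o2 (by simp)⟩
  have m2 : o3 ∈ Ds D o1 := ⟨hm o3 (by simp), Ne.symm hnd.1.2.1, hc o1 (by simp) o3 (by simp)⟩
  obtain ⟨g, g1, g2, g3⟩ := M24.triple_map hD hp B (hm o1 (by simp)) m1 m2 hnd.2.1.1 (hc o2 (by simp) o3 (by simp))
    K.ht K.hu K.hv.1 K.hv.2.2.1.symm K.hv.2.2.2
  let cj : G → G := fun z => g * z * g⁻¹
  have hcj : ∀ {y z : G}, Commute y z → Commute (cj y) (cj z) := fun h => (commute_cj_iff g).mpr h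
  have hne : ∀ {y z : G}, y ≠ z → cj y ≠ cj z := fun h e => h (cj_injective g e)
  have hP3 : ∀ y ∈ D, (∀ z ∈ [o1, o2, o3], y ≠ z) → (∀ z ∈ [o1, o2, o3], Commute z y) →
      ∃ x, K.pts x = cj y := by
    intro y hy n hh
    refine K.surj _ ⟨⟨⟨cls_conj hD g hy, ?_, ?_⟩, cls_conj hD g hy, ?_, ?_⟩, cls_conj hD g hy, ?_, ?_⟩
    · exact g1 ▸ hne (n o1 (by simp))
    · exact g1 ▸ hcj (hh o1 (by simp))
    · exact g2 ▸ hne (n o2 (by simp))
    · exact g2 ▸ hcj (hh o2 (by simp))
    · exact g3 ▸ hne (n o3 (by simp))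
    · exact g3 ▸ hcj (hh o3 (by simp))
  let q : Fin 5 → G := ![q0, q1, q2, q3, q4]
  have hq : ∀ i, q i ∈ [o1, o2, o3, q0, q1, q2, q3, q4] := by intro i; fin_cases i <;> simp [q]
  have hqinj : Function.Injective q := by
    obtain ⟨-, -, -, ⟨a1, a2, a3, a4⟩, ⟨b2, b3, b4⟩, ⟨c3, c4⟩, d4⟩ := hnd
    intro i j e
    fin_cases i <;> fin_cases j <;> simp_all [q]
  have hqo : ∀ i, ∀ z ∈ [o1, o2, o3], q i ≠ z := by
    intro i z hz e
    simp only [List.mem_cons, List.not_mem_nil, or_false] at hz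
    fin_cases i <;> simp [q] at e <;> rcases hz with rfl | rfl | rfl <;> simp_all
  choose p hp' using fun i => hP3 (q i) (hm _ (hq i)) (hqo i) fun z hz => hc z (by
    simp only [List.mem_cons, List.not_mem_nil, or_false] at hz ⊢; tauto) _ (hq i)
  obtain ⟨x0, hx0⟩ := hP3 a ha (fun z hz e => hal (e ▸ (by
    simp only [List.mem_cons, List.not_mem_nil, or_false] at hz ⊢; tauto))) fun z hz => hac z (by
    simp only [List.mem_cons, List.not_mem_nil, or_false] at hz ⊢; tauto)
  have hperp : ∀ i j, Cfsg.hermForm 6 K.F 2 (p i).1 (p j).1 = 0 := fun i j => by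
    rw [← K.comm_iff, hp', hp']; exact hcj (hc _ (hq i) _ (hq j))
  have hperp0 : ∀ i, Cfsg.hermForm 6 K.F 2 x0.1 (p i).1 = 0 := fun i => by
    rw [← K.comm_iff, hp', hx0]; exact hcj (hac _ (hq i)).symm
  -- the relation
  have hrel : ∀ x, ∑ i, Cfsg.hermForm 6 K.F 2 x (p i).1 • (p i).1 = 0 := by
    set T : Fin 5 → Cfsg.SU 6 K.F 2 := fun i => tu K.hF (p i).1
    have hT : ∀ i j, Commute (T i) (T j) := fun i j => tu_commute K.hF (p i).2.2 (p j).2.2 (hperp i j)
    have hTT : ∀ i, T i * T i = 1 := fun i => tu_sq K.hF (p i).2.2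
    set P := T 0 * T 1 * T 2 * T 3 * T 4
    have hPP : P * P = 1 := by
      have e2 : ∀ {x y : Cfsg.SU 6 K.F 2}, x * x = 1 → y * y = 1 → Commute x y → (x * y) * (x * y) = 1 :=
        fun {x y} hx hy hh => by rw [hh.symm.mul_mul_mul_comm, hx, hy, one_mul]
      have c1 := e2 (hTT 0) (hTT 1) (hT 0 1)
      have c2 := e2 c1 (hTT 2) ((hT 0 2).mul_left (hT 1 2))
      have c3 := e2 c2 (hTT 3) (((hT 0 3).mul_left (hT 1 3)).mul_left (hT 2 3))
      exact e2 c3 (hTT 4) ((((hT 0 4).mul_left (hT 1 4)).mul_left (hT 2 4)).mul_left (hT 3 4))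
    have hP1 : P = 1 := by
      refine mk_inj K.hF hPP (one_mul 1) ?_
      let Q : Fin 5 → ↥(Subgroup.centralizer ({K.t, K.u, K.v} : Set G)) := fun i => ⟨_, pts_mem_cent K (p i)⟩
      have e1 : K.Φ (⟨K.t, anchor_mem K (Or.inl rfl)⟩ * ⟨K.u, anchor_mem K (Or.inr (Or.inl rfl))⟩ *
          ⟨K.v, anchor_mem K (Or.inr (Or.inr rfl))⟩ * (Q 0 * Q 1 * Q 2 * Q 3 * Q 4)) =
          QuotientGroup.mk' _ P := by
        simp only [map_mul, Q, K.img, K.anchor ⟨K.t, anchor_mem K (Or.inl rfl)⟩ (Or.inl rfl),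
          K.anchor ⟨K.u, anchor_mem K (Or.inr (Or.inl rfl))⟩ (Or.inr (Or.inl rfl)),
          K.anchor ⟨K.v, anchor_mem K (Or.inr (Or.inr rfl))⟩ (Or.inr (Or.inr rfl)), one_mul, P, T]
        rfl
      rw [← e1, map_one, ← map_one K.Φ]
      congr 1
      refine Subtype.ext ?_
      simp only [Subgroup.coe_mul, Subgroup.coe_one, Q, hp', ← g1, ← g2, ← g3, cj, q]
      simp only [List.prod_cons, List.prod_nil, mul_one] at hprod
      calc _ = g * (o1 * (o2 * (o3 * (q0 * (q1 * (q2 * (q3 * q4))))))) * g⁻¹ := by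
            simp only [Matrix.cons_val]
            group
        _ = 1 := by rw [hprod, mul_one, mul_inv_cancel]
    intro x
    have e := congrArg (fun z => mat z *ᵥ x) hP1
    simp only [P, T, mat_mul, mat_one, one_mulVec, ← mulVec_mulVec, tu_mulVec K.hF (p 0).2.2,
      tu_mulVec K.hF (p 1).2.2, tu_mulVec K.hF (p 2).2.2, tu_mulVec K.hF (p 3).2.2, tu_mulVec K.hF (p 4).2.2,
      h_add_left, h_smul_left, hperp, mul_zero, add_zero] at e
    rw [Fin.sum_univ_five]
    refine eq_of_sub_eq_zero ?_ |>.trans (rfl : (0 : Fin 6 → K.F) = 0)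
    rw [sub_zero]
    rw [← sub_eq_zero] at e
    refine Eq.trans ?_ e
    abel
  have hnp : ∀ i j, i ≠ j → ∀ s : K.F, (p i).1 ≠ s • (p j).1 := fun i j hij s e => by
    have hs : s ≠ 0 := fun k => (p i).2.1 (by rw [e, k, zero_smul])
    have := (K.eq_iff (p i) (p j)).mpr ⟨s, hs, e⟩
    rw [hp', hp'] at this
    exact hij (hqinj (cj_injective g this))
  have hline := line_of_rel K.hF (fun i => (p i).1) hnp (fun i => (p i).2.1) hrel
  have hx0out : x0.1 ∉ Submodule.span K.F (Set.range ![(p 0).1, (p 1).1]) := by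
    intro hin
    have hnp0 : ∀ i, ∀ s : K.F, x0.1 ≠ s • (p i).1 := fun i s e => by
      have hs : s ≠ 0 := fun k => x0.2.1 (by rw [e, k, zero_smul])
      have := (K.eq_iff x0 (p i)).mpr ⟨s, hs, e⟩
      rw [hp', hx0] at this
      exact hal (cj_injective g this ▸ hq i)
    have hinj : Function.Injective fun i => (p i).1 := fun i j e => by
      by_contra hij
      exact hnp i j hij 1 (by rw [one_smul]; exact e)
    have h6 := line_points K.hF (a := (p 0).1) (b := (p 1).1) (insert x0.1 (Finset.univ.image fun i => (p i).1))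
      (fun x hx => by
        simp only [Finset.mem_insert, Finset.mem_image, Finset.mem_univ, true_and] at hx
        rcases hx with rfl | ⟨i, rfl⟩
        exacts [⟨hin, x0.2.1⟩, ⟨hline i, (p i).2.1⟩])
      (fun x hx y hy hxy s e => by
        simp only [Finset.mem_insert, Finset.mem_image, Finset.mem_univ, true_and] at hx hy
        rcases hx with rfl | ⟨i, rfl⟩ <;> rcases hy with rfl | ⟨j, rfl⟩
        · exact hxy rfl
        · exact hnp0 j s e
        · by_cases hs : s = 0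
          · exact (p i).2.1 (by rw [e, hs, zero_smul])
          · exact hnp0 i s⁻¹ (by rw [e, smul_smul, inv_mul_cancel₀ hs, one_smul])
        · exact hnp i j (fun k => hxy (by rw [k])) s e)
    rw [Finset.card_insert_of_notMem (by
      simp only [Finset.mem_image, Finset.mem_univ, true_and, not_exists]
      exact fun i e => hnp0 i 1 (by rw [one_smul]; exact e.symm)), Finset.card_image_of_injective _ hinj,
      Finset.card_univ, Fintype.card_fin] at h6
    omega
  have h3 : LinearIndependent K.F ![x0.1, (p 0).1, (p 1).1] := linearIndependent_finCons.mpr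
    ⟨(LinearIndependent.pair_iff' (p 0).2.1).mpr fun s e => hnp 1 0 (by decide) s e.symm, hx0out⟩
  -- a member commuting with everything lies in the plane
  have hin : ∀ y ∈ D, (∀ z ∈ [o1, o2, o3, q0, q1, q2, q3, q4], Commute z y) → Commute a y →
      y ∈ [o1, o2, o3] ∨ ∃ x, K.pts x = cj y ∧
        x.1 ∈ Submodule.span K.F (Set.range ![x0.1, (p 0).1, (p 1).1]) ∧
        ∀ i : Fin 3, Cfsg.hermForm 6 K.F 2 x.1 (![x0.1, (p 0).1, (p 1).1] i) = 0 := by
    intro y hy hh hay
    by_cases hyo : y ∈ [o1, o2, o3]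
    · exact Or.inl hyo
    obtain ⟨x, hx⟩ := hP3 y hy (fun z hz e => hyo (e ▸ hz)) fun z hz => hh z (by
      simp only [List.mem_cons, List.not_mem_nil, or_false] at hz ⊢; tauto)
    have hxp : ∀ i : Fin 3, Cfsg.hermForm 6 K.F 2 x.1 (![x0.1, (p 0).1, (p 1).1] i) = 0 := by
      intro i
      fin_cases i
      · show Cfsg.hermForm 6 K.F 2 x.1 x0.1 = 0
        rw [← K.comm_iff, hx, hx0]; exact hcj hay.symm
      · show Cfsg.hermForm 6 K.F 2 x.1 (p 0).1 = 0
        rw [← K.comm_iff, hx, hp']; exact hcj (hh _ (hq 0)).symm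
      · show Cfsg.hermForm 6 K.F 2 x.1 (p 1).1 = 0
        rw [← K.comm_iff, hx, hp']; exact hcj (hh _ (hq 1)).symm
    refine Or.inr ⟨x, hx, ?_, hxp⟩
    by_contra hout
    have h4 : LinearIndependent K.F ![x.1, x0.1, (p 0).1, (p 1).1] := linearIndependent_finCons.mpr ⟨h3, hout⟩
    have := iso_dim K.hF h4 (by
      intro i j
      fin_cases i <;> fin_cases j
      exacts [x.2.2, hxp 0, hxp 1, hxp 2,
        (by rw [← h_swap K.hF]; exact (congrArg _ (hxp 0)).trans (map_zero _)), x0.2.2, hperp0 0, hperp0 1,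
        (by rw [← h_swap K.hF]; exact (congrArg _ (hxp 1)).trans (map_zero _)),
        (by rw [← h_swap K.hF]; exact (congrArg _ (hperp0 0)).trans (map_zero _)), hperp 0 0, hperp 0 1,
        (by rw [← h_swap K.hF]; exact (congrArg _ (hxp 2)).trans (map_zero _)),
        (by rw [← h_swap K.hF]; exact (congrArg _ (hperp0 1)).trans (map_zero _)), hperp 1 0, hperp 1 1])
    omega
  refine ⟨fun x hx y hy hhx hhy hax hay => ?_, ?_⟩
  · rcases hin x hx hhx hax with hx' | ⟨X, hX, -, hXp⟩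
    · exact hhy x (by simp only [List.mem_cons, List.not_mem_nil, or_false] at hx' ⊢; tauto)
    rcases hin y hy hhy hay with hy' | ⟨Y, hY, hYs, -⟩
    · exact (hhx y (by simp only [List.mem_cons, List.not_mem_nil, or_false] at hy' ⊢; tauto)).symm
    refine (commute_cj_iff g).mp ?_
    show Commute (cj x) (cj y)
    rw [← hX, ← hY, K.comm_iff]
    exact perp_span K.hF hXp _ hYs
  · obtain ⟨x, hx, hxx, hxa, hxb, hxq⟩ := exists_off K.hF (hperp0 0) (hperp0 1) x0.2.2 hx0out
    set X : Iso K.F := ⟨x, hx, hxx⟩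
    have e : cj (g⁻¹ * K.pts X * g) = K.pts X := by simp only [cj]; group
    have hcD : g⁻¹ * K.pts X * g ∈ D := by
      have := cls_conj hD g⁻¹ (K.mem X).1.1.1
      rwa [inv_inv] at this
    refine ⟨g⁻¹ * K.pts X * g, hcD, fun z hz => (commute_cj_iff g).mp ?_, fun h => hxq ?_⟩
    · show Commute (cj z) (cj _)
      rw [e]
      simp only [List.mem_cons, List.not_mem_nil, or_false] at hz
      have hqc : ∀ i, Commute (cj (q i)) (K.pts X) := fun i => by
        rw [← hp' i, K.comm_iff]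
        have := perp_span K.hF (w := ![(p 0).1, (p 1).1]) (x := x) (fun j => by
          fin_cases j <;> assumption) _ (hline i)
        rw [← h_swap K.hF, show Cfsg.hermForm 6 K.F 2 X.1 (p i).1 = 0 from this, map_zero]
      rcases hz with rfl | rfl | rfl | rfl | rfl | rfl | rfl | rfl
      exacts [(show cj _ = K.t from g1) ▸ (K.mem X).1.1.2.2, (show cj _ = K.u from g2) ▸ (K.mem X).1.2.2.2,
        (show cj _ = K.v from g3) ▸ (K.mem X).2.2.2, hqc 0, hqc 1, hqc 2, hqc 3, hqc 4]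
    · have := hcj h
      rw [e, ← hx0, K.comm_iff] at this
      rw [← h_swap K.hF, show Cfsg.hermForm 6 K.F 2 x0.1 x = 0 from this, map_zero]

end CfsgThreeTrans.M24
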