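/-
The class of transpositions is the only class of 3-transpositions in type M(24).
-/
import Cfsg.Agent.Lib.ThreeTrans.M24.Centraliser

set_option autoImplicit false
set_option linter.unusedSectionVars false

namespace CfsgThreeTrans.M24

open Cfsg CfsgLib CfsgThreeTrans.M22
open CfsgThreeTrans.M23 (Hs Qt qt Et bar bar_eq)

universe u

variable {G : Type u} [Group G] [Finite G] {D : Set G}

/-- A member missing both of two commuting ones commutes with its image under their product. -/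
theorem square_commute (hD : IsThreeTranspositionClass D) {a b d : G} (ha : a ∈ D) (hb : b ∈ D) (hd : d ∈ D)
    (cab : Commute a b) (hda : ¬ Commute d a) (hdb : ¬ Commute d b) : Commute d (a * b * d * (a * b)⁻¹) := by
  rw [← commute_cj_iff (d * b)]
  have e1 : d * b * d * (d * b)⁻¹ = b := cj_pair hD.1 hd hb hdb
  have e2 : d * b * (a * b * d * (a * b)⁻¹) * (d * b)⁻¹ = a := by
    rw [mul_inv_rev, mul_inv_rev, inv_self hD.1 ha, inv_self hD.1 hb, inv_self hD.1 hd, cab.eq]
    calc d * b * (b * a * d * (b * a)) * (b * d) = d * b * (b * a * d * (a * b)) * (b * d) := by rw [cab.eq]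
      _ = d * (b * b) * a * d * a * (b * b) * d := by simp only [mul_assoc]
      _ = d * (a * d * a) * d := by rw [mul_self hD.1 hb]; simp only [mul_one, mul_assoc]
      _ = d * (d * a * d) * d := by rw [braid hD.1 ha hd fun h => hda h.symm]
      _ = a := by simp only [mul_assoc, mul_mul_cancel_self (mul_self hD.1 hd), mul_self hD.1 hd, mul_one]
  rw [e1, e2]
  exact cab.symm

/-- A member of a second class cannot move two far members to commuting ones in this pattern. -/
theorem no_square (hD : IsThreeTranspositionClass D) (h2 : pCore 2 G ≤ Subgroup.center G) {D' : Set G}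
    (hD' : IsThreeTranspositionClass D') {x d c : G} (hx : x ∈ D') (hd : d ∈ D) (hc : c ∈ D)
    (hdne : x * d * x⁻¹ ≠ d) (cd : Commute d (x * d * x⁻¹)) (hcd : ¬ Commute c d)
    (hcd' : ¬ Commute c (x * d * x⁻¹)) (hcne : x * c * x⁻¹ ≠ c) (cc : Commute c (x * c * x⁻¹))
    (hnc : ¬ Commute c (d * x * d⁻¹)) : False := by
  set d' := x * d * x⁻¹ with hd'
  set c' := x * c * x⁻¹ with hc'
  set u := d * d' with hu
  set w := c * c' with hw
  have hx2 : x * x = 1 := mul_self hD'.1 hx
  have hd'D : d' ∈ D := cls_conj hD x hd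
  have hc'D : c' ∈ D := cls_conj hD x hc
  have hxu : d * x * d⁻¹ = x * u := by
    rw [inv_self hD.1 hd, hu, cd.eq, hd', inv_self hD'.1 hx]
    calc d * x * d = (x * x) * d * x * d := by rw [hx2, one_mul]
      _ = x * (x * d * x * d) := by simp only [mul_assoc]
  have hu2 : u * u = 1 := by rw [hu, ← pow_two]; exact sq_of_commute hD.1 hd hd'D cd
  have hw2 : w * w = 1 := by rw [hw, ← pow_two]; exact sq_of_commute hD.1 hc hc'D cc
  have huinv : u⁻¹ = u := inv_eq_of_mul_eq_one_right hu2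
  have hwinv : w⁻¹ = w := inv_eq_of_mul_eq_one_right hw2
  have hcj : ∀ g : G, Commute (g * c * g⁻¹) (g * c' * g⁻¹) ∧ g * c * g⁻¹ ≠ g * c' * g⁻¹ := fun g =>
    ⟨(commute_cj_iff g).mpr cc, fun e => hcne (cj_injective g e).symm⟩
  have hdj : ∀ g : G, Commute (g * d * g⁻¹) (g * d' * g⁻¹) ∧ g * d * g⁻¹ ≠ g * d' * g⁻¹ := fun g =>
    ⟨(commute_cj_iff g).mpr cd, fun e => hdne (cj_injective g e).symm⟩
  have hf := square_commute hD hd hd'D hc cd hcd hcd'
  rw [← hu] at hf
  by_cases huw : Commute u w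
  · have e : (u * c * u⁻¹) * (u * c' * u⁻¹) = c * c' := by
      calc (u * c * u⁻¹) * (u * c' * u⁻¹) = u * (c * c') * u⁻¹ := by group
        _ = c * c' := by rw [← hw, huw.eq, mul_inv_cancel_right]
    rcases pair_unique hD h2 (cls_conj hD u hc) (cls_conj hD u hc'D) hc hc'D (hcj u).2 hcne.symm (hcj u).1 cc e
      with ⟨k, -⟩ | ⟨k, -⟩
    · exact hcd ((commute_mul_iff hD.1 hd hd'D hc hdne.symm cd).mp
        (mul_inv_eq_iff_eq_mul.mp k : u * c = c * u).symm).1
    · apply hnc
      rw [hxu]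
      refine (mul_inv_eq_iff_eq_mul.mp ?_ : x * u * c = c * (x * u)).symm
      rw [← cj_cj, k, hc', cj_cj, hx2]
      group
  · have hxw : c * x * c⁻¹ = x * w := by
      rw [inv_self hD.1 hc, hw, cc.eq, hc', inv_self hD'.1 hx]
      calc c * x * c = (x * x) * c * x * c := by rw [hx2, one_mul]
        _ = x * (x * c * x * c) := by simp only [mul_assoc]
    have hxuc : x * u = u * x := by
      have : x * u * x⁻¹ = u := by
        rw [hu]
        calc x * (d * d') * x⁻¹ = (x * d * x⁻¹) * (x * d' * x⁻¹) := by group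
          _ = d' * ((x * x) * d * (x * x)⁻¹) := by rw [← hd', hd', cj_cj]
          _ = d * d' := by rw [hx2, one_mul, inv_one, mul_one, cd.eq]
      exact mul_inv_eq_iff_eq_mul.mp this
    have hp : (d * x * d⁻¹) * (c * x * c⁻¹) = u * w := by
      rw [hxu, hxw, hxuc, mul_assoc, ← mul_assoc x x, hx2, one_mul]
    rcases hD'.1.2 _ (cls_conj hD' d hx) _ (cls_conj hD' c hx) with h | h <;> rw [hp] at h
    · apply huw
      rw [pow_two, mul_eq_one_iff_eq_inv, mul_inv_rev, huinv, hwinv] at h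
      exact h
    · have hb : u * w * u⁻¹ = w * u * w⁻¹ := by
        rw [huinv, hwinv]
        have h' : u * w * u * (w * u * w) = 1 := by
          rw [← h, pow_succ, pow_two]
          simp only [mul_assoc]
        rw [mul_eq_one_iff_eq_inv.mp h']
        refine inv_eq_of_mul_eq_one_right ?_
        simp only [mul_assoc, mul_mul_cancel_self hw2, mul_mul_cancel_self hu2, hw2]
      have e : (u * c * u⁻¹) * (u * c' * u⁻¹) = (w * d * w⁻¹) * (w * d' * w⁻¹) := by
        calc (u * c * u⁻¹) * (u * c' * u⁻¹) = u * (c * c') * u⁻¹ := by group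
          _ = w * (d * d') * w⁻¹ := by rw [← hw, ← hu, hb]
          _ = _ := by group
      have hno : ∀ z, Commute c (w * z * w⁻¹) → Commute c z := fun z hz => by
        have hcw : Commute c w := (Commute.refl c).mul_right cc
        rw [← commute_cj_iff w, ← hcw.eq, mul_inv_cancel_right]
        exact hz
      rcases pair_unique hD h2 (cls_conj hD u hc) (cls_conj hD u hc'D) (cls_conj hD w hd) (cls_conj hD w hd'D)
        (hcj u).2 (hdj w).2 (hcj u).1 (hdj w).1 e with ⟨k, -⟩ | ⟨k, -⟩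
      · exact hcd (hno d (k ▸ hf))
      · exact hcd' (hno d' (k ▸ hf))

/-- A product of two commuting members and a further element is in no second class. -/
theorem no_long (hD : IsThreeTranspositionClass D) (h2 : pCore 2 G ≤ Subgroup.center G) {D' : Set G}
    (hD' : IsThreeTranspositionClass D') {W : Set G} (hW : W ⊆ D) (hinv : ∀ y ∈ W, ∀ z ∈ W, y * z * y⁻¹ ∈ W)
    {N K : ℕ} (hN : W.ncard = N) (hK : ∀ y ∈ W, (W ∩ Ds D y).ncard ≤ K) (hNK : 5 * K + 5 < N)
    {a b r : G} (ha : a ∈ W) (hb : b ∈ W) (hab : a ≠ b) (cab : Commute a b) (hr : ∀ y ∈ W, Commute y r)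
    (hx : a * b * r ∈ D') : False := by
  classical
  set x := a * b * r with hxdef
  have hxy : ∀ y ∈ W, x * y * x⁻¹ = a * b * y * (a * b)⁻¹ := fun y hy => by
    rw [hxdef, ← cj_cj (a * b) r, ← (hr y hy).eq, mul_inv_cancel_right]
  have avoid : ∀ l : List G, l.length ≤ 5 → (∀ y ∈ l, y ∈ W) → ∃ c ∈ W, ∀ y ∈ l, ¬ Commute c y := by
    intro l hl hlW
    suffices h : ∀ m : List G, (∀ y ∈ m, y ∈ W) → (W ∩ {c | ∃ y ∈ m, Commute c y}).ncard ≤ m.length * (K + 1) by
      by_contra hcon
      push Not at hcon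
      have := h l hlW
      rw [Set.inter_eq_left.mpr (show W ⊆ {c | ∃ y ∈ l, Commute c y} from fun c hc => hcon c hc), hN] at this
      have : l.length * (K + 1) ≤ 5 * (K + 1) := Nat.mul_le_mul_right _ hl
      omega
    intro m
    induction m with
    | nil => intro _; simp
    | cons y m ih =>
      intro hm
      have hy := hm y (List.mem_cons_self ..)
      have hsub : W ∩ {c | ∃ z ∈ y :: m, Commute c z} ⊆ insert y (W ∩ Ds D y) ∪ (W ∩ {c | ∃ z ∈ m, Commute c z}) := by
        rintro c ⟨hc, z, hz, hcz⟩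
        rcases List.mem_cons.mp hz with rfl | hz
        · by_cases e : c = z
          · exact Or.inl (Or.inl e)
          · exact Or.inl (Or.inr ⟨hc, hW hc, e, hcz.symm⟩)
        · exact Or.inr ⟨hc, z, hz, hcz⟩
      refine (Set.ncard_le_ncard hsub).trans ((Set.ncard_union_le _ _).trans ?_)
      rw [List.length_cons, Nat.succ_mul, add_comm]
      exact Nat.add_le_add (ih fun z hz => hm z (List.mem_cons_of_mem _ hz))
        ((Set.ncard_insert_le _ _).trans (Nat.add_le_add_right (hK y hy) 1))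
  have swap : ∀ y ∈ W, ¬ Commute y a → ¬ Commute y b →
      x * y * x⁻¹ ∈ W ∧ x * y * x⁻¹ ≠ y ∧ Commute y (x * y * x⁻¹) := by
    intro y hy hya hyb
    rw [hxy y hy]
    refine ⟨?_, fun e => hya ((commute_mul_iff hD.1 (hW ha) (hW hb) (hW hy) hab cab).mp
      (mul_inv_eq_iff_eq_mul.mp e : a * b * y = y * (a * b)).symm).1,
      square_commute hD (hW ha) (hW hb) (hW hy) cab hya hyb⟩
    rw [← cj_cj]
    exact hinv a ha _ (hinv b hb y hy)
  obtain ⟨d, hdW, hd⟩ := avoid [a, b] (by simp) (by simp [ha, hb])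
  obtain ⟨hd'W, hdne, cd⟩ := swap d hdW (hd a (by simp)) (hd b (by simp))
  obtain ⟨c, hcW, hc⟩ := avoid [a, b, d, x * d * x⁻¹, d * a * d⁻¹] (by simp)
    (by simp [ha, hb, hdW, hd'W, hinv d hdW a ha])
  obtain ⟨-, hcne, cc⟩ := swap c hcW (hc a (by simp)) (hc b (by simp))
  refine no_square hD h2 hD' hx (hW hdW) (hW hcW) hdne cd (hc d (by simp)) (hc _ (by simp)) hcne cc fun h => ?_
  have e : d * x * d⁻¹ = (d * a * d⁻¹) * (d * b * d⁻¹) * r := by
    calc d * x * d⁻¹ = (d * a * d⁻¹) * (d * b * d⁻¹) * (d * r * d⁻¹) := by rw [hxdef]; group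
      _ = _ := by rw [(hr d hdW).eq, mul_inv_cancel_right]
  rw [e] at h
  have h' : Commute c ((d * a * d⁻¹) * (d * b * d⁻¹)) := by
    have := h.mul_right (hr c hcW).inv_right
    rwa [mul_inv_cancel_right] at this
  exact hc _ (by simp) ((commute_mul_iff hD.1 (hW (hinv d hdW a ha)) (hW (hinv d hdW b hb)) (hW hcW)
    (fun e' => hab (cj_injective d e')) ((commute_cj_iff d).mpr cab)).mp h').1

section
variable (hD : IsThreeTranspositionClass D) (hp : IsPrimitiveUnderConj D) (hZ : Subgroup.center G = ⊥) (B : Base D)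
include hD hp hZ B

/-- An involution centralising a transposition is a product of at most four commuting ones. -/
theorem short_fixing {x t : G} (hx : x * x = 1) (ht : t ∈ D) (hxt : Commute x t) :
    ∃ l : List G, l.length ≤ 4 ∧ l.Nodup ∧ (∀ a ∈ l, a ∈ D) ∧ (∀ a ∈ l, ∀ b ∈ l, Commute a b) ∧ l.prod = x := by
  classical
  obtain ⟨g, rfl⟩ := cls_exists_conj hD B.ht ht
  set y := g⁻¹ * x * g⁻¹⁻¹ with hy
  have hy2 : y * y = 1 := by
    rw [hy, show g⁻¹ * x * g⁻¹⁻¹ * (g⁻¹ * x * g⁻¹⁻¹) = g⁻¹ * (x * x) * g⁻¹⁻¹ by group, hx]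
    group
  have hyt : Commute y B.t := by
    have := (commute_cj_iff g⁻¹).mpr hxt
    rwa [show g⁻¹ * (g * B.t * g⁻¹) * g⁻¹⁻¹ = B.t by group] at this
  suffices h : ∃ l : List G, l.length ≤ 4 ∧ l.Nodup ∧ (∀ a ∈ l, a ∈ D) ∧ (∀ a ∈ l, ∀ b ∈ l, Commute a b) ∧
      l.prod = y by
    obtain ⟨l, h1, h2, h3, h4, h5⟩ := h
    refine ⟨l.map fun a => g * a * g⁻¹, by simpa using h1, h2.map (cj_injective g), fun p hp' => ?_,
      fun p hp' q hq => ?_, ?_⟩
    · obtain ⟨a, ha, rfl⟩ := List.mem_map.mp hp'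
      exact cls_conj hD g (h3 a ha)
    · obtain ⟨a, ha, rfl⟩ := List.mem_map.mp hp'
      obtain ⟨b, hb, rfl⟩ := List.mem_map.mp hq
      exact (commute_cj_iff g).mpr (h4 a ha b hb)
    · rw [show x = g * y * g⁻¹ from (cj_inv g x).symm, ← h5]
      exact (map_list_prod (MulAut.conj g).toMonoidHom l).symm
  have hyH : y ∈ Hs D B.t :=
    M24.centralizer_eq hD hp hZ B B.ht ▸ Subgroup.mem_centralizer_singleton_iff.mpr hyt
  have bar_one : bar D B.t 1 = 1 := by
    rw [show (1 : G) = ((1 : ↥(Hs D B.t)) : G) from rfl, bar_eq, map_one]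
  obtain ⟨l, hlen, hnd, hm, hc, hprod⟩ := M23.short_invol (cls_group B.cls) B.prim B.ty B.inner (x := bar D B.t y)
    (by rw [← bar_mul hD B hyH hyH, hy2, bar_one])
  obtain ⟨L, hLlen, hLnd, hLD, hLc, hLp, hLH⟩ : ∃ L : List G, L.length ≤ 3 ∧ L.Nodup ∧ (∀ a ∈ L, a ∈ Ds D B.t) ∧
      (∀ a ∈ L, ∀ b ∈ L, Commute a b) ∧ bar D B.t L.prod = l.prod ∧ L.prod ∈ Hs D B.t := by
    suffices H : ∀ m : List (Qt D B.t), (∀ q ∈ m, q ∈ l) → m.Nodup → ∃ L : List G, L.length = m.length ∧ L.Nodup ∧
        (∀ a ∈ L, a ∈ Ds D B.t ∧ bar D B.t a ∈ m) ∧ bar D B.t L.prod = m.prod ∧ L.prod ∈ Hs D B.t by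
      obtain ⟨L, e1, e2, e3, e4, e5⟩ := H l (fun q hq => hq) hnd
      exact ⟨L, e1 ▸ hlen, e2, fun a ha => (e3 a ha).1, fun a ha b hb =>
        (bar_commute hD B (e3 a ha).1 (e3 b hb).1).mp (hc _ (e3 a ha).2 _ (e3 b hb).2), e4, e5⟩
    intro m
    induction m with
    | nil => exact fun _ _ => ⟨[], rfl, List.nodup_nil, by simp, by simpa using bar_one, one_mem _⟩
    | cons q m ih =>
      intro hq hnd'
      obtain ⟨L, e1, e2, e3, e4, e5⟩ := ih (fun z hz => hq z (List.mem_cons_of_mem _ hz)) (List.nodup_cons.mp hnd').2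
      obtain ⟨a, ha, rfl⟩ : q ∈ bar D B.t '' Ds D B.t :=
        (bar_image hD B).symm ▸ hm q (hq q (List.mem_cons_self ..))
      refine ⟨a :: L, by simp [e1], List.nodup_cons.mpr ⟨fun h => (List.nodup_cons.mp hnd').1 (e3 a h).2, e2⟩,
        fun b hb => ?_, ?_, by rw [List.prod_cons]; exact mul_mem (Subgroup.subset_closure ha) e5⟩
      · rcases List.mem_cons.mp hb with rfl | hb
        exacts [⟨ha, List.mem_cons_self ..⟩, ⟨(e3 b hb).1, List.mem_cons_of_mem _ (e3 b hb).2⟩]
      · rw [List.prod_cons, bar_mul hD B (Subgroup.subset_closure ha) e5, e4, List.prod_cons]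
  rcases bar_eq_cases hD hp hZ B hyH hLH (by rw [hLp, hprod]) with k | k
  · exact ⟨L, hLlen.trans (by norm_num), hLnd, fun a ha => (hLD a ha).1, hLc, k.symm⟩
  · refine ⟨L ++ [B.t], by rw [List.length_append, List.length_singleton]; omega, ?_, fun a ha => ?_, fun a ha b hb => ?_, by simp [k]⟩
    · rw [List.nodup_append]
      exact ⟨hLnd, List.nodup_singleton _, fun a ha b hb e => (hLD a ha).2.1 (e.trans (List.mem_singleton.mp hb))⟩
    · rcases List.mem_append.mp ha with h | h
      exacts [(hLD a h).1, (List.mem_singleton.mp h) ▸ B.ht]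
    · rcases List.mem_append.mp ha with h | h <;> rcases List.mem_append.mp hb with h' | h'
      exacts [hLc a h b h', (List.mem_singleton.mp h') ▸ (hLD a h).2.2.symm,
        (List.mem_singleton.mp h) ▸ (hLD b h').2.2,
        (List.mem_singleton.mp h) ▸ (List.mem_singleton.mp h') ▸ Commute.refl _]

/-- There is no further class of 3-transpositions. -/
theorem class_unique {D' : Set G} (hD' : IsThreeTranspositionClass D') : D' = D := by
  classical
  have hw := M24.has_pair hD B
  have h2 := (cores_of_prim hD hp hw).1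
  obtain ⟨-, ⟨x₀, hx₀, hcl'⟩, -⟩ := id hD'
  obtain ⟨-, ⟨d₀, hd₀, hcl⟩, -⟩ := id hD
  suffices hxD : ∃ x ∈ D', x ∈ D by
    obtain ⟨x, hx', hx⟩ := hxD
    ext y
    constructor
    · intro hy
      obtain ⟨g, rfl⟩ := cls_exists_conj hD' hx' hy
      exact cls_conj hD g hx
    · intro hy
      obtain ⟨g, rfl⟩ := cls_exists_conj hD hx hy
      exact cls_conj hD' g hx'
  obtain ⟨-, hmu⟩ := M24.params hD hp B
  have hv := (M24.params hD hp B).1
  by_cases hfix : ∃ x ∈ D', ∃ t ∈ D, Commute x t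
  · obtain ⟨x, hx, t, ht, hxt⟩ := hfix
    obtain ⟨l, hlen, hnd, hm, hc, hprod⟩ := short_fixing hD hp hZ B (mul_self hD'.1 hx) ht hxt
    match l with
    | [] =>
      exfalso
      have := hD'.1.1 x hx
      rw [← hprod, List.prod_nil, orderOf_one] at this
      norm_num at this
    | [a] => exact ⟨x, hx, by rw [← hprod]; simpa using hm a (by simp)⟩
    | [a, b] =>
      exfalso
      refine no_long hD h2 hD' (W := D) subset_rfl (fun y _ z hz => cls_conj hD y hz) (K := 31671) hv
        (fun y hy => by rw [Set.inter_eq_right.mpr fun z hz => hz.1, M24.ncard_Ds hD B hy]) (by norm_num)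
        (hm a (by simp)) (hm b (by simp)) (by simpa using hnd) (hc a (by simp) b (by simp)) (r := 1)
        (fun y _ => Commute.one_right y) ?_
      rw [← hprod] at hx
      simpa using hx
    | [a, b, c] =>
      exfalso
      simp only [List.nodup_cons, List.mem_cons, List.not_mem_nil, or_false, not_or, List.nodup_nil, and_true] at hnd
      have hcD := hm c (by simp)
      refine no_long hD h2 hD' (W := Ds D c) (fun y hy => hy.1)
        (fun y hy z hz => cj_mem_Ds hD hz (by rw [hy.2.2.eq.symm, mul_inv_cancel_right])) (K := 3510)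
        (M24.ncard_Ds hD B hcD) (fun y hy => (M24.ncard_near hD B hcD hy).le) (by norm_num)
        ⟨hm a (by simp), hnd.1.2, hc c (by simp) a (by simp)⟩ ⟨hm b (by simp), hnd.2.1, hc c (by simp) b (by simp)⟩
        hnd.1.1 (hc a (by simp) b (by simp)) (r := c) (fun y hy => hy.2.2.symm) ?_
      rw [← hprod] at hx
      simpa [mul_assoc] using hx
    | [a, b, c, e] =>
      exfalso
      simp only [List.nodup_cons, List.mem_cons, List.not_mem_nil, or_false, not_or, List.nodup_nil, and_true] at hnd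
      obtain ⟨⟨nab, nac, nae⟩, ⟨nbc, nbe⟩, nce, -⟩ := hnd
      have hcD := hm c (by simp)
      have heD := hm e (by simp)
      have hec : e ∈ Ds D c := ⟨heD, Ne.symm nce, hc c (by simp) e (by simp)⟩
      refine no_long hD h2 hD' (W := Ds D c ∩ Ds D e) (fun y hy => hy.1.1)
        (fun y hy z hz => ⟨cj_mem_Ds hD hz.1 (by rw [hy.1.2.2.eq.symm, mul_inv_cancel_right]),
          cj_mem_Ds hD hz.2 (by rw [hy.2.2.2.eq.symm, mul_inv_cancel_right])⟩) (K := 693)
        (M24.ncard_near hD B hcD hec) ?_ (by norm_num)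
        ⟨⟨hm a (by simp), nac, hc c (by simp) a (by simp)⟩, hm a (by simp), nae, hc e (by simp) a (by simp)⟩
        ⟨⟨hm b (by simp), nbc, hc c (by simp) b (by simp)⟩, hm b (by simp), nbe, hc e (by simp) b (by simp)⟩
        nab (hc a (by simp) b (by simp)) (r := c * e) (fun y hy => hy.1.2.2.symm.mul_right hy.2.2.2.symm) ?_
      · intro y hy
        exact ((M24.ncard_three hD B hcD hec hy.1).2 hy.2.2.1.symm hy.2.2.2).le
      · rw [← hprod] at hx
        simpa [mul_assoc] using hx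
    | _ :: _ :: _ :: _ :: _ :: _ => exfalso; simp only [List.length_cons] at hlen; omega
  · exfalso
    push Not at hfix
    have hne : ∀ y ∈ D', ∀ z ∈ D, y * z * y⁻¹ ≠ z := fun y hy z hz e =>
      hfix y hy z hz (mul_inv_eq_iff_eq_mul.mp e)
    have hcom : ∀ y ∈ D', ∀ z ∈ D, Commute z (y * z * y⁻¹) := by
      intro y hy z hz
      by_contra hn
      set z' := y * z * y⁻¹ with hz'
      have hz'D : z' ∈ D := cls_conj hD y hz
      have hz'' : y * z' * y⁻¹ = z := by rw [hz', cj_cj, mul_self hD'.1 hy]; group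
      refine hne y hy _ (cls_conj hD z hz'D) ?_
      calc y * (z * z' * z⁻¹) * y⁻¹ = (y * z * y⁻¹) * (y * z' * y⁻¹) * (y * z * y⁻¹)⁻¹ := by group
        _ = z' * z * z'⁻¹ := by rw [hz'', ← hz']
        _ = z * z' * z⁻¹ := by
          rw [inv_self hD.1 hz, inv_self hD.1 hz'D]
          exact (braid hD.1 hz hz'D hn).symm
    set x := x₀
    set d' := x * d₀ * x⁻¹
    have hd'D : d' ∈ D := cls_conj hD x hd₀
    obtain ⟨c, hcD, hc⟩ : ∃ c ∈ D, c ∉ insert d₀ (Ds D d₀) ∪ insert d' (Ds D d') := by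
      refine Set.exists_mem_notMem_of_ncard_lt_ncard ?_ (Set.toFinite _)
      refine lt_of_le_of_lt ((Set.ncard_union_le _ _).trans
        (Nat.add_le_add (Set.ncard_insert_le _ _) (Set.ncard_insert_le _ _))) ?_
      rw [M24.ncard_Ds hD B hd₀, M24.ncard_Ds hD B hd'D, hv]
      norm_num
    simp only [Set.mem_union, Set.mem_insert_iff, not_or] at hc
    refine no_square hD h2 hD' hx₀ hd₀ hcD (hne x hx₀ d₀ hd₀) (hcom x hx₀ d₀ hd₀)
      (fun h => hc.1.2 ⟨hcD, hc.1.1, h.symm⟩) (fun h => hc.2.2 ⟨hcD, hc.2.1, h.symm⟩)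
      (hne x hx₀ c hcD) (hcom x hx₀ c hcD) fun h => ?_
    exact hfix _ (cls_conj hD' d₀ hx₀) c hcD h.symm

end

end CfsgThreeTrans.M24
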