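/-
The classes of involutions in type M(24).
-/
import Cfsg.Agent.Lib.ThreeTrans.M22.Cliques
import Cfsg.Agent.Lib.ThreeTrans.M24.Classes
import Cfsg.Agent.Lib.ThreeTrans.M24.Eleven

set_option autoImplicit false
set_option linter.unusedSectionVars false

namespace CfsgThreeTrans.M24

open Cfsg CfsgLib CfsgThreeTrans.M22
open CfsgThreeTrans.M23 (Hs Qt qt Et bar bar_eq)

universe u v

variable {G : Type u} [Group G] [Finite G] {D : Set G}

/-- No product of `1` to `n` distinct commuting members is trivial. -/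
def NoRel {X : Type v} [Group X] (E : Set X) (n : ℕ) : Prop :=
  ∀ l : List X, l ≠ [] → l.length ≤ n → l.Nodup → (∀ a ∈ l, a ∈ E) → (∀ a ∈ l, ∀ b ∈ l, Commute a b) → l.prod ≠ 1

/-- The parameters pass along an injective map respecting commutation. -/
theorem geo_transfer {X : Type v} [Group X] [Finite X] {W : Set G} {W' : Set X} (f : G → X)
    (hinj : Set.InjOn f W) (himg : f '' W = W') (hcomm : ∀ a ∈ W, ∀ b ∈ W, (Commute (f a) (f b) ↔ Commute a b))
    (hthird : ∀ a ∈ W, ∀ b ∈ W, ¬ Commute a b → a * b * a ∈ W ∧ a * b * a = b * a * b)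
    (h : FreeInvol.Geo W') : FreeInvol.Geo W := by
  have hmem : ∀ a ∈ W, f a ∈ W' := fun a ha => himg ▸ ⟨a, ha, rfl⟩
  have hDs : ∀ a ∈ W, f '' Ds W a = Ds W' (f a) := by
    intro a ha
    ext z
    constructor
    · rintro ⟨y, hy, rfl⟩
      exact ⟨hmem y hy.1, fun e => hy.2.1 (hinj hy.1 ha e), (hcomm a ha y hy.1).mpr hy.2.2⟩
    · intro hz
      obtain ⟨y, hy, rfl⟩ : z ∈ f '' W := himg.symm ▸ hz.1
      exact ⟨y, ⟨hy, fun e => hz.2.1 (by rw [e]), (hcomm a ha y hy).mp hz.2.2⟩, rfl⟩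
  have hsub : ∀ a, Ds W a ⊆ W := fun a y hy => hy.1
  have c2 : ∀ a ∈ W, ∀ b ∈ W, f '' (Ds W a ∩ Ds W b) = Ds W' (f a) ∩ Ds W' (f b) := fun a ha b hb => by
    rw [hinj.image_inter (hsub a) (hsub b), hDs a ha, hDs b hb]
  have c3 : ∀ a ∈ W, ∀ b ∈ W, ∀ c ∈ W, f '' (Ds W a ∩ Ds W b ∩ Ds W c) =
      Ds W' (f a) ∩ Ds W' (f b) ∩ Ds W' (f c) := fun a ha b hb c hc => by
    rw [hinj.image_inter (Set.inter_subset_left.trans (hsub a)) (hsub c), c2 a ha b hb, hDs c hc]
  have hn : ∀ S : Set G, S ⊆ W → (f '' S).ncard = S.ncard := fun S hS => (hinj.mono hS).ncard_image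
  have hnc : ∀ a ∈ W, ∀ c ∈ W, ¬ Commute a c → ¬ Commute (f a) (f c) := fun a ha c hc hac k =>
    hac ((hcomm a ha c hc).mp k)
  refine ⟨hthird, fun a ha => ?_, fun a ha b hb => ?_, fun a ha c hc hac => ?_, fun a ha c hc hac p hp => ?_,
    fun a ha c hc hac p hp q hq => ?_, fun A hA hcom hmax => ?_⟩
  · rw [← hn _ (hsub a), hDs a ha, h.deg _ (hmem a ha)]
  · rw [← hn _ (Set.inter_subset_left.trans (hsub a)), c2 a ha b hb.1,
      h.near _ (hmem a ha) _ (hDs a ha ▸ ⟨b, hb, rfl⟩)]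
  · rw [← hn _ (Set.inter_subset_left.trans (hsub a)), c2 a ha c hc,
      h.far _ (hmem a ha) _ (hmem c hc) (hnc a ha c hc hac)]
  · have hpW : p ∈ W := hp.1.1
    rw [← hn _ ((Set.inter_subset_left.trans Set.inter_subset_left).trans (hsub a)), c3 a ha c hc p hpW,
      h.far_one _ (hmem a ha) _ (hmem c hc) (hnc a ha c hc hac) _ (c2 a ha c hc ▸ ⟨p, hp, rfl⟩)]
  · have hpW : p ∈ W := hp.1.1
    have hqW : q ∈ W := hq.2.1
    rw [← hn _ (((Set.inter_subset_left.trans Set.inter_subset_left).trans Set.inter_subset_left).trans (hsub a)),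
      hinj.image_inter ((Set.inter_subset_left.trans Set.inter_subset_left).trans (hsub a)) (hsub q),
      c3 a ha c hc p hpW, hDs q hqW]
    exact h.far_two _ (hmem a ha) _ (hmem c hc) (hnc a ha c hc hac) _ (c2 a ha c hc ▸ ⟨p, hp, rfl⟩) _
      (c3 a ha c hc p hpW ▸ ⟨q, hq, rfl⟩)
  · rw [← hn A hA, h.clique (f '' A) (by rintro _ ⟨a, ha, rfl⟩; exact hmem a (hA ha)) ?_ ?_]
    · rintro _ ⟨a, ha, rfl⟩ _ ⟨b, hb, rfl⟩
      exact (hcomm a (hA ha) b (hA hb)).mpr (hcom a ha b hb)
    · intro z hz hall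
      obtain ⟨c, hc, rfl⟩ : z ∈ f '' W := himg.symm ▸ hz
      exact ⟨c, hmax c hc fun a ha => (hcomm a (hA ha) c hc).mp (hall _ ⟨a, ha, rfl⟩), rfl⟩

section
variable (hD : IsThreeTranspositionClass D) (hp : IsPrimitiveUnderConj D) (hZ : Subgroup.center G = ⊥) (B : Base D)
include hD hp hZ B

/-- The common partners of two commuting transpositions have the parameters of type M(22). -/
theorem geo_pair {d d' : G} (hd : d ∈ D) (hd' : d' ∈ Ds D d) : FreeInvol.Geo (Ds D d ∩ Ds D d') := by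
  obtain ⟨u, hu, hub⟩ : B.inner.t ∈ bar D B.t '' Ds D B.t := (bar_image hD B).symm ▸ B.inner.ht
  obtain ⟨g, hg, hgd'⟩ : ∃ g : G, g * d * g⁻¹ = B.t ∧ g * d' * g⁻¹ = u := by
    obtain ⟨m, hm⟩ := cls_exists_conj hD hd B.ht
    have hmd : m * d' * m⁻¹ ∈ Ds D B.t := hm ▸ cj_Ds hD m d ▸ ⟨d', hd', rfl⟩
    obtain ⟨k, hk, hk'⟩ := rank_three_near hD hp (M24.has_pair hD B) B.ht _ hmd u hu
    exact ⟨k * m, by rw [← cj_cj, hm, hk.eq, mul_inv_cancel_right], by rw [← cj_cj, hk']⟩
  have hg' : (fun z => g * z * g⁻¹) '' (Ds D d ∩ Ds D d') = Ds D B.t ∩ Ds D u := by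
    rw [Set.image_inter (cj_injective g), cj_Ds hD, cj_Ds hD, hg, hgd']
  have hin : ∀ a ∈ Ds D d ∩ Ds D d', g * a * g⁻¹ ∈ Ds D B.t ∩ Ds D u := fun a ha => hg' ▸ ⟨a, ha, rfl⟩
  have hb1 : ∀ a ∈ Ds D d ∩ Ds D d', bar D B.t (g * a * g⁻¹) ∈ Ds (Et D B.t) B.inner.t := fun a ha => by
    rw [← hub, ← bar_Ds hD B hu]
    exact ⟨_, hin a ha, rfl⟩
  refine geo_transfer (fun a => bar (Et D B.t) B.inner.t (bar D B.t (g * a * g⁻¹))) ?_ ?_ ?_ ?_
    (M22.geo B.inner.cls B.inner.prim B.inner.A)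
  · intro a ha b hb e
    exact cj_injective g (bar_inj hD B (hin a ha).1 (hin b hb).1 (M23.bar_inj B.cls B.inner (hb1 a ha) (hb1 b hb) e))
  · rw [← Set.image_image (bar (Et D B.t) B.inner.t) (fun a => bar D B.t (g * a * g⁻¹)),
      ← Set.image_image (bar D B.t) (fun a => g * a * g⁻¹), hg', bar_Ds hD B hu, hub, M23.bar_image B.cls B.inner]
  · intro a ha b hb
    rw [M23.bar_commute B.cls B.inner (hb1 a ha) (hb1 b hb), bar_commute hD B (hin a ha).1 (hin b hb).1,
      commute_cj_iff]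
  · intro a ha b hb hab
    refine ⟨?_, braid hD.1 ha.1.1 hb.1.1 hab⟩
    have key : ∀ p, p ∈ D → a ∈ Ds D p → b ∈ Ds D p → a * b * a ∈ Ds D p := fun p hp' hap hbp => by
      rw [show a * b * a = a * b * a⁻¹ by rw [inv_self hD.1 hap.1]]
      exact cj_mem_Ds hD hbp (by rw [← hap.2.2.eq, mul_inv_cancel_right] )
    exact ⟨key d hd ha.1 hb.1, key d' hd'.1 ha.2 hb.2⟩

/-- An involution fixes a transposition. -/
theorem invol_fixes {x : G} (hx : x * x = 1) : ∃ t ∈ D, Commute x t := by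
  by_contra hcon
  push Not at hcon
  have hne : ∀ z ∈ D, x * z * x⁻¹ ≠ z := fun z hz e => hcon z hz (mul_inv_eq_iff_eq_mul.mp e)
  have hxx : ∀ z : G, x * (x * z * x⁻¹) * x⁻¹ = z := fun z => by rw [cj_cj, hx, inv_one, one_mul, mul_one]
  obtain ⟨d, hd⟩ : D.Nonempty := ⟨B.t, B.ht⟩
  have hd'D : x * d * x⁻¹ ∈ D := cls_conj hD x hd
  have hcd : Commute d (x * d * x⁻¹) := by
    by_contra hn
    refine hne _ (cls_conj hD d hd'D) ?_
    calc x * (d * (x * d * x⁻¹) * d⁻¹) * x⁻¹ =
        (x * d * x⁻¹) * (x * (x * d * x⁻¹) * x⁻¹) * (x * d * x⁻¹)⁻¹ := by group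
      _ = (x * d * x⁻¹) * d * (x * d * x⁻¹)⁻¹ := by rw [hxx]
      _ = d * (x * d * x⁻¹) * d⁻¹ := by
        rw [inv_self hD.1 hd, inv_self hD.1 hd'D]
        exact (braid hD.1 hd hd'D hn).symm
  set d' := x * d * x⁻¹ with hd'
  have hdd' : d' ∈ Ds D d := ⟨hd'D, hne d hd, hcd⟩
  have hσ : ∀ w ∈ Ds D d ∩ Ds D d', MulAut.conj x w ∈ Ds D d ∩ Ds D d' := by
    intro w hw
    have : x * w * x⁻¹ ∈ (fun z => x * z * x⁻¹) '' (Ds D d ∩ Ds D d') := ⟨w, hw, rfl⟩
    rw [Set.image_inter (cj_injective x), cj_Ds hD, cj_Ds hD, ← hd', show x * d' * x⁻¹ = d from hxx d] at this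
    exact ⟨this.2, this.1⟩
  obtain ⟨w, hw, e⟩ := FreeInvol.fixes (geo_pair hD hp hZ B hd hdd') (MulAut.conj x) hσ (fun w _ => hxx w) (by
    rw [← Set.ncard_pos, M24.ncard_near hD B hd hdd']
    norm_num)
  exact hne w hw.1.1 e

end

theorem norel_step {E : Type v} [Group E] [Finite E] {D' : Set E} {f : G → E} {t : G} {n : ℕ}
    (hD : IsThreeTranspositionClass D) (ht : t ∈ D)
    (hin : ∀ y ∈ Ds D t, f y ∈ D') (hinj : Set.InjOn f (Ds D t))
    (hcomm : ∀ a ∈ Ds D t, ∀ b ∈ Ds D t, Commute a b → Commute (f a) (f b))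
    (hprod : ∀ l : List G, (∀ a ∈ l, a ∈ Ds D t) → f l.prod = (l.map f).prod) (hft : f t = 1)
    (h : NoRel D' n) : NoRel D (n + 1) := by
  intro l hne hlen hnd hm hc hp1
  obtain ⟨a, r, rfl⟩ := List.exists_cons_of_ne_nil hne
  obtain ⟨g, hg⟩ := cls_exists_conj hD (hm a (List.mem_cons_self ..)) ht
  set r' := r.map fun y => g * y * g⁻¹
  have hr : ∀ y ∈ r', y ∈ Ds D t := by
    intro y hy
    obtain ⟨z, hz, rfl⟩ := List.mem_map.mp hy
    refine ⟨cls_conj hD g (hm z (List.mem_cons_of_mem _ hz)), fun e => (List.nodup_cons.mp hnd).1 ?_, ?_⟩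
    · rwa [← (cj_injective g).eq_iff.mp (show g * z * g⁻¹ = g * a * g⁻¹ from e.trans hg.symm)]
    · rw [← hg]
      exact (commute_cj_iff g).mpr (hc a (List.mem_cons_self ..) z (List.mem_cons_of_mem _ hz))
  have hrp : r'.prod = t := by
    rw [List.prod_cons] at hp1
    rw [← hg, show r'.prod = g * r.prod * g⁻¹ from (map_list_prod (MulAut.conj g).toMonoidHom r).symm,
      eq_inv_of_mul_eq_one_right hp1, inv_self hD.1 (hm a (List.mem_cons_self ..))]
  by_cases hr0 : r = []
  · subst hr0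
    have := hD.1.1 t ht
    rw [← hrp, show r' = [] from rfl, List.prod_nil, orderOf_one] at this
    norm_num at this
  refine h (r'.map f) (by simp [r', hr0]) (by simp [r'] at hlen ⊢; omega) ?_ ?_ ?_ ?_
  · exact List.Nodup.map_on (fun y hy z hz e => hinj (hr y hy) (hr z hz) e)
      ((List.nodup_cons.mp hnd).2.map (cj_injective g))
  · intro q hq
    obtain ⟨y, hy, rfl⟩ := List.mem_map.mp hq
    exact hin y (hr y hy)
  · intro q hq q' hq'
    obtain ⟨y, hy, rfl⟩ := List.mem_map.mp hq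
    obtain ⟨y', hy', rfl⟩ := List.mem_map.mp hq'
    refine hcomm y (hr y hy) y' (hr y' hy') ?_
    obtain ⟨z, hz, rfl⟩ := List.mem_map.mp hy
    obtain ⟨z', hz', rfl⟩ := List.mem_map.mp hy'
    exact (commute_cj_iff g).mpr (hc z (List.mem_cons_of_mem _ hz) z' (List.mem_cons_of_mem _ hz'))
  · rw [← hprod r' hr, hrp, hft]

theorem norel_five {F : Type} [Field F] [Fintype F] [DecidableEq F] {hF : Fintype.card F = 2 ^ 2}
    (hG : IsThreeTranspositionGroup D) (hp : IsPrimitiveUnderConj D) {d₀ : G} (hd₀ : d₀ ∈ D)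
    (h3 : pCore 3 ↥(Subgroup.closure (Ds D d₀)) ≤ Subgroup.center ↥(Subgroup.closure (Ds D d₀)))
    (h2 : pCore 2 ↥(Subgroup.closure (Ds D d₀)) ≤ Subgroup.center ↥(Subgroup.closure (Ds D d₀)))
    (h22 : IsOfTypeM22 G D) (A : M22.Data D F hF) : NoRel D 5 := by
  have hD := cls_of_group_prim hG hp
  intro l hne hlen hnd hm hc hp1
  have hfl := fun (j : G) (m m' : ℕ) (l l' : List G) a b c d (e : IsFac D j m l) (e' : IsFac D j m' l') =>
    M22.fac_length hG hp hd₀ h3 h2 h22 A (m := m) (m' := m') a b c d e e'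
  match l with
  | [] => exact hne rfl
  | [a] =>
    have := hD.1.1 a (hm a (by simp))
    rw [show a = 1 by simpa using hp1, orderOf_one] at this
    norm_num at this
  | [a, b] =>
    have : a = b := by
      rw [← inv_self hD.1 (hm b (by simp))]
      exact eq_inv_of_mul_eq_one_left (by simpa using hp1)
    simp [this] at hnd
  | [a, b, c] =>
    refine absurd (hfl a 1 2 [a] [b, c] le_rfl (by norm_num) (by norm_num) (by norm_num) ⟨List.nodup_singleton a,
      rfl, fun x hx => hm x (by rw [List.mem_singleton.mp hx]; simp), fun x hx y hy => by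
        rw [List.mem_singleton.mp hx, List.mem_singleton.mp hy], by simp⟩
      ⟨(List.nodup_cons.mp hnd).2, rfl, fun x hx => hm x (List.mem_cons_of_mem _ hx),
        fun x hx y hy => hc x (List.mem_cons_of_mem _ hx) y (List.mem_cons_of_mem _ hy), ?_⟩) (by norm_num)
    simp only [List.prod_cons, List.prod_nil, mul_one] at hp1 ⊢
    rw [eq_inv_of_mul_eq_one_right hp1, inv_self hD.1 (hm a (by simp))]
  | [a, b, c, d] =>
    refine absurd (hfl a 1 3 [a] [b, c, d] le_rfl (by norm_num) (by norm_num) le_rfl ⟨List.nodup_singleton a,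
      rfl, fun x hx => hm x (by rw [List.mem_singleton.mp hx]; simp), fun x hx y hy => by
        rw [List.mem_singleton.mp hx, List.mem_singleton.mp hy], by simp⟩
      ⟨(List.nodup_cons.mp hnd).2, rfl, fun x hx => hm x (List.mem_cons_of_mem _ hx),
        fun x hx y hy => hc x (List.mem_cons_of_mem _ hx) y (List.mem_cons_of_mem _ hy), ?_⟩) (by norm_num)
    simp only [List.prod_cons, List.prod_nil, mul_one] at hp1 ⊢
    rw [eq_inv_of_mul_eq_one_right hp1, inv_self hD.1 (hm a (by simp))]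
  | [a, b, c, d, e] =>
    simp only [List.nodup_cons, List.mem_cons, List.not_mem_nil, or_false, not_or, List.nodup_nil, and_true] at hnd
    obtain ⟨⟨nab, nac, nad, nae⟩, ⟨nbc, nbd, nbe⟩, ⟨ncd, nce⟩, nde, -⟩ := hnd
    refine absurd (hfl (a * b) 2 3 [a, b] [c, d, e] (by norm_num) (by norm_num) (by norm_num) le_rfl
      ⟨by simp [nab], rfl, fun x hx => hm x (List.mem_append_left [c, d, e] hx),
        fun x hx y hy => hc x (List.mem_append_left [c, d, e] hx) y (List.mem_append_left [c, d, e] hy), by simp⟩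
      ⟨by simp [ncd, nce, nde], rfl, fun x hx => hm x (List.mem_append_right [a, b] hx),
        fun x hx y hy => hc x (List.mem_append_right [a, b] hx) y (List.mem_append_right [a, b] hy), ?_⟩) (by norm_num)
    simp only [List.prod_cons, List.prod_nil, mul_one] at hp1 ⊢
    rw [← mul_assoc a b, mul_eq_one_iff_inv_eq] at hp1
    rw [← hp1]
    exact inv_eq_of_mul_eq_one_right (by
      rw [← pow_two]; exact sq_of_commute hD.1 (hm a (by simp)) (hm b (by simp)) (hc a (by simp) b (by simp)))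
  | _ :: _ :: _ :: _ :: _ :: _ :: _ => simp only [List.length_cons] at hlen; omega

theorem prod_perm {l l' : List G} (hc : ∀ a ∈ l, ∀ b ∈ l, Commute a b) (e : l.Perm l') : l.prod = l'.prod :=
  e.prod_eq' (List.pairwise_iff_forall_sublist.mpr fun {a b} h =>
    hc a (h.subset (by simp)) b (h.subset (by simp)))

theorem prod_sq (hD : IsThreeTranspositionClass D) (l : List G) (hm : ∀ a ∈ l, a ∈ D)
    (hc : ∀ a ∈ l, ∀ b ∈ l, Commute a b) : l.prod * l.prod = 1 := by
  induction l with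
  | nil => simp
  | cons a r ih =>
    have h := ih (fun x hx => hm x (List.mem_cons_of_mem _ hx))
      fun x hx y hy => hc x (List.mem_cons_of_mem _ hx) y (List.mem_cons_of_mem _ hy)
    have hk : Commute a r.prod := Commute.list_prod_right r a fun x hx =>
      hc a (List.mem_cons_self ..) x (List.mem_cons_of_mem _ hx)
    rw [List.prod_cons, mul_assoc, ← mul_assoc r.prod a, ← hk.eq, mul_assoc a r.prod, h, mul_one,
      mul_self hD.1 (hm a (List.mem_cons_self ..))]

section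
variable (hD : IsThreeTranspositionClass D) (hp : IsPrimitiveUnderConj D) (hZ : Subgroup.center G = ⊥) (B : Base D)
include hD hp hZ B

/-- There is no relation of length at most seven between commuting transpositions. -/
theorem norel : NoRel D 7 := by
  have h5 : NoRel (Et (Et D B.t) B.inner.t) 5 :=
    norel_five (cls_group B.inner.cls) B.inner.prim B.inner.hs B.inner.hs3 B.inner.hs2 B.inner.ty B.inner.A
  have bar_one : ∀ (X : Type u) [Group X] [Finite X] (E : Set X) (t : X), bar E t 1 = 1 := fun X _ _ E t => by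
    rw [show (1 : X) = ((1 : ↥(Hs E t)) : X) from rfl, bar_eq, map_one]
  have hmap : ∀ (X : Type u) [Group X] [Finite X] (E : Set X) (t : X)
      (hmul : ∀ {x y : X}, x ∈ Hs E t → y ∈ Hs E t → bar E t (x * y) = bar E t x * bar E t y) (l : List X),
      (∀ a ∈ l, a ∈ Ds E t) → bar E t l.prod = (l.map (bar E t)).prod := by
    intro X _ _ E t hmul l
    induction l with
    | nil => intro _; simpa using bar_one X E t
    | cons a r ih =>
      intro hl
      rw [List.prod_cons, List.map_cons, List.prod_cons, ← ih fun x hx => hl x (List.mem_cons_of_mem _ hx),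
        hmul (Subgroup.subset_closure (hl a (List.mem_cons_self ..)))
          (list_prod_mem fun x hx => Subgroup.subset_closure (hl x (List.mem_cons_of_mem _ hx)))]
  have hti : B.inner.t ∈ Hs (Et D B.t) B.inner.t :=
    M23.self_mem B.cls B.prim B.ty.1 B.inner (cls_group B.cls) B.ty B.inner.ht
  have h6 : NoRel (Et D B.t) 6 := by
    refine norel_step (f := bar (Et D B.t) B.inner.t) B.cls B.inner.ht (fun y hy => M23.bar_mem B.cls B.inner hy)
      (M23.bar_inj B.cls B.inner) (fun a ha b hb k => (M23.bar_commute B.cls B.inner ha hb).mpr k)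
      (hmap _ _ _ fun {x y} => M23.bar_mul B.cls B.inner) ?_ h5
    rw [show B.inner.t = ((⟨B.inner.t, hti⟩ : ↥(Hs (Et D B.t) B.inner.t)) : Qt D B.t) from rfl, bar_eq]
    refine (QuotientGroup.eq_one_iff _).mpr ?_
    rw [M23.center_closure B.cls B.prim B.ty.1 B.inner (cls_group B.cls) B.ty B.inner.ht]
    exact Subgroup.mem_zpowers _
  refine norel_step (f := bar D B.t) hD B.ht (fun y hy => bar_mem hD B hy) (bar_inj hD B)
    (fun a ha b hb k => (bar_commute hD B ha hb).mpr k) (hmap _ _ _ fun {x y} => bar_mul hD B) ?_ h6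
  have ht := self_mem hD hp hZ B B.ht
  rw [show B.t = ((⟨B.t, ht⟩ : ↥(Hs D B.t)) : G) from rfl, bar_eq]
  refine (QuotientGroup.eq_one_iff _).mpr ?_
  rw [M24.center_closure hD hp hZ B B.ht]
  exact Subgroup.mem_zpowers _

/-- The number of factors of a product of at most four commuting transpositions is an invariant. -/
theorem length_unique {x : G} {l l' : List G} (h1 : 1 ≤ l.length) (h4 : l'.length ≤ 4) (hlt : l.length < l'.length)
    (hn : l.Nodup) (hm : ∀ a ∈ l, a ∈ D) (hc : ∀ a ∈ l, ∀ b ∈ l, Commute a b) (hx : l.prod = x)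
    (hn' : l'.Nodup) (hm' : ∀ a ∈ l', a ∈ D) (hc' : ∀ a ∈ l', ∀ b ∈ l', Commute a b) (hx' : l'.prod = x) : False := by
  classical
  have cross : ∀ a ∈ l, ∀ y ∈ l', Commute a y := by
    intro a ha y hy
    have hyx : Commute y x := hx' ▸ Commute.list_prod_right l' y fun z hz => hc' y hy z hz
    have hyD := hm' y hy
    match l with
    | [] => simp at ha
    | [p] =>
      simp only [List.mem_singleton] at ha
      rw [show x = p by simpa using hx.symm] at hyx
      exact ha ▸ hyx.symm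
    | [p, q] =>
      rw [show x = p * q by simpa using hx.symm] at hyx
      have := (commute_mul_iff hD.1 (hm p (by simp)) (hm q (by simp)) hyD (by simpa using hn)
        (hc p (by simp) q (by simp))).mp hyx
      simp only [List.mem_cons, List.not_mem_nil, or_false] at ha
      rcases ha with rfl | rfl
      exacts [this.1.symm, this.2.symm]
    | [p, q, r] =>
      simp only [List.nodup_cons, List.mem_cons, List.not_mem_nil, or_false, not_or, List.nodup_nil, and_true] at hn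
      rw [show x = p * q * r by simpa [mul_assoc] using hx.symm] at hyx
      have := (commute_mul3_iff hD.1 (hm p (by simp)) (hm q (by simp)) (hm r (by simp)) hyD hn.1.1 hn.1.2 hn.2.1
        (hc p (by simp) q (by simp)) (hc p (by simp) r (by simp)) (hc q (by simp) r (by simp))).mp hyx
      simp only [List.mem_cons, List.not_mem_nil, or_false] at ha
      rcases ha with rfl | rfl | rfl
      exacts [this.1.symm, this.2.1.symm, this.2.2.symm]
    | _ :: _ :: _ :: _ :: _ => simp only [List.length_cons] at hlt; omega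
  set p : G → Bool := fun a => decide (a ∈ l)
  set p' : G → Bool := fun a => decide (a ∈ l')
  set a₁ := l.filter fun a => !p' a
  set a₂ := l.filter p'
  set b₁ := l'.filter fun a => !p a
  set b₂ := l'.filter p
  have hm1 : ∀ a, a ∈ a₁ ↔ a ∈ l ∧ a ∉ l' := fun a => by simp [a₁, p']
  have hm2 : ∀ a, a ∈ b₁ ↔ a ∈ l' ∧ a ∉ l := fun a => by simp [b₁, p]
  have hcom : a₂.Perm b₂ := by
    refine (List.perm_ext_iff_of_nodup (hn.filter _) (hn'.filter _)).mpr fun a => ?_
    simp [p, p', and_comm]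
  have e1 : x = a₂.prod * a₁.prod := by
    rw [← List.prod_append, ← hx]
    exact prod_perm hc (List.filter_append_perm p' l).symm
  have e2 : x = b₂.prod * b₁.prod := by
    rw [← List.prod_append, ← hx']
    exact prod_perm hc' (List.filter_append_perm p l').symm
  have e3 : a₂.prod = b₂.prod :=
    prod_perm (fun a ha b hb => hc a (List.mem_of_mem_filter ha) b (List.mem_of_mem_filter hb)) hcom
  rw [e3] at e1
  have e4 : a₁.prod = b₁.prod := mul_left_cancel (e1.symm.trans e2)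
  refine norel hD hp hZ B (a₁ ++ b₁) ?_ ?_ ?_ ?_ ?_ ?_
  · intro h0
    obtain ⟨ha0, hb0⟩ := List.append_eq_nil_iff.mp h0
    have l1 := (List.filter_append_perm p' l).length_eq
    have l2 := (List.filter_append_perm p l').length_eq
    rw [List.length_append] at l1 l2
    have := hcom.length_eq
    change a₂.length + a₁.length = l.length at l1
    change b₂.length + b₁.length = l'.length at l2
    rw [ha0] at l1
    rw [hb0] at l2
    simp only [List.length_nil] at l1 l2
    omega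
  · have : a₁.length ≤ l.length := List.length_filter_le _ _
    have : b₁.length ≤ l'.length := List.length_filter_le _ _
    rw [List.length_append]
    omega
  · exact List.nodup_append.mpr ⟨hn.filter _, hn'.filter _, fun a ha b hb e =>
      ((hm1 a).mp ha).2 (e ▸ ((hm2 b).mp hb).1)⟩
  · intro a ha
    rcases List.mem_append.mp ha with h | h
    exacts [hm a ((hm1 a).mp h).1, hm' a ((hm2 a).mp h).1]
  · intro a ha b hb
    rcases List.mem_append.mp ha with h | h <;> rcases List.mem_append.mp hb with k | k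
    exacts [hc a ((hm1 a).mp h).1 b ((hm1 b).mp k).1, cross a ((hm1 a).mp h).1 b ((hm2 b).mp k).1,
      (cross b ((hm1 b).mp k).1 a ((hm2 a).mp h).1).symm, hc' a ((hm2 a).mp h).1 b ((hm2 b).mp k).1]
  · rw [List.prod_append, e4]
    exact prod_sq hD b₁ (fun a ha => hm' a ((hm2 a).mp ha).1)
      fun a ha b hb => hc' a ((hm2 a).mp ha).1 b ((hm2 b).mp hb).1

/-- Transitivity on commuting quadruples. -/
theorem quad_map {a b c e a' b' c' e' : G} (hn : [a, b, c, e].Nodup) (hm : ∀ y ∈ [a, b, c, e], y ∈ D)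
    (hc : ∀ y ∈ [a, b, c, e], ∀ z ∈ [a, b, c, e], Commute y z) (hn' : [a', b', c', e'].Nodup)
    (hm' : ∀ y ∈ [a', b', c', e'], y ∈ D) (hc' : ∀ y ∈ [a', b', c', e'], ∀ z ∈ [a', b', c', e'], Commute y z) :
    ∃ g : G, g * a * g⁻¹ = a' ∧ g * b * g⁻¹ = b' ∧ g * c * g⁻¹ = c' ∧ g * e * g⁻¹ = e' := by
  have norm : ∀ {a b c e : G}, [a, b, c, e].Nodup → (∀ y ∈ [a, b, c, e], y ∈ D) →
      (∀ y ∈ [a, b, c, e], ∀ z ∈ [a, b, c, e], Commute y z) →
      ∃ m x y z : G, m * a * m⁻¹ = B.t ∧ m * b * m⁻¹ = x ∧ m * c * m⁻¹ = y ∧ m * e * m⁻¹ = z ∧ x ∈ Ds D B.t ∧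
        y ∈ Ds D B.t ∧ z ∈ Ds D B.t ∧ bar D B.t y ∈ Ds (Et D B.t) (bar D B.t x) ∧
        bar D B.t z ∈ Ds (Et D B.t) (bar D B.t x) ∧ bar D B.t y ≠ bar D B.t z ∧
        Commute (bar D B.t y) (bar D B.t z) := by
    intro a b c e hn hm hc
    simp only [List.nodup_cons, List.mem_cons, List.not_mem_nil, or_false, not_or, List.nodup_nil, and_true] at hn
    obtain ⟨⟨nab, nac, nae⟩, ⟨nbc, nbe⟩, nce, -⟩ := hn
    obtain ⟨m, hma⟩ := cls_exists_conj hD (hm a (by simp)) B.ht
    have hin : ∀ y ∈ [a, b, c, e], a ≠ y → m * y * m⁻¹ ∈ Ds D B.t := fun y hy hne => by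
      rw [← hma]
      exact ⟨cls_conj hD m (hm y hy), fun k => hne (cj_injective m k).symm,
        (commute_cj_iff m).mpr (hc a (by simp) y hy)⟩
    have hx := hin b (by simp) nab
    have hy := hin c (by simp) nac
    have hz := hin e (by simp) nae
    refine ⟨m, _, _, _, hma, rfl, rfl, rfl, hx, hy, hz, ⟨bar_mem hD B hy, fun k => nbc ?_, ?_⟩,
      ⟨bar_mem hD B hz, fun k => nbe ?_, ?_⟩, fun k => nce ?_, ?_⟩
    · exact (cj_injective m (bar_inj hD B hy hx k)).symm
    · exact (bar_commute hD B hx hy).mpr ((commute_cj_iff m).mpr (hc b (by simp) c (by simp)))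
    · exact (cj_injective m (bar_inj hD B hz hx k)).symm
    · exact (bar_commute hD B hx hz).mpr ((commute_cj_iff m).mpr (hc b (by simp) e (by simp)))
    · exact cj_injective m (bar_inj hD B hy hz k)
    · exact (bar_commute hD B hy hz).mpr ((commute_cj_iff m).mpr (hc c (by simp) e (by simp)))
  obtain ⟨m, x, y, z, q1, q2, q3, q4, hx, hy, hz, p1, p2, p3, p4⟩ := norm hn hm hc
  obtain ⟨m', x', y', z', r1, r2, r3, r4, hx', hy', hz', s1, s2, s3, s4⟩ := norm hn' hm' hc'
  obtain ⟨l, l1, l2, l3⟩ := M23.triple_map (cls_group B.cls) B.prim B.inner (bar_mem hD B hx) p1 p2 p3 p4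
    (bar_mem hD B hx') s1 s2 s3 s4
  obtain ⟨⟨k, hk⟩, hkl⟩ := QuotientGroup.mk'_surjective _ l
  have hbk : bar D B.t k = l := (bar_eq (⟨k, hk⟩ : ↥(Hs D B.t))).trans hkl
  have hkt : k * B.t * k⁻¹ = B.t := by rw [(closure_Ds_commute hk).eq, mul_inv_cancel_right]
  have move : ∀ {w w' : G}, w ∈ Ds D B.t → w' ∈ Ds D B.t → l * bar D B.t w * l⁻¹ = bar D B.t w' →
      k * w * k⁻¹ = w' := by
    intro w w' hw hw' e
    have hkw : k * w * k⁻¹ ∈ Ds D B.t := by rw [← hkt, ← cj_Ds hD]; exact ⟨w, hw, rfl⟩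
    refine bar_inj hD B hkw hw' ?_
    set K : ↥(Hs D B.t) := ⟨k, hk⟩
    set W : ↥(Hs D B.t) := ⟨w, Subgroup.subset_closure hw⟩
    rw [show k * w * k⁻¹ = ((K * W * K⁻¹ : ↥(Hs D B.t)) : G) from rfl, bar_eq, map_mul, map_mul, map_inv,
      ← bar_eq, ← bar_eq, hbk]
    exact e
  refine ⟨m'⁻¹ * k * m, ?_, ?_, ?_, ?_⟩
  · rw [← cj_cj, ← cj_cj, q1, hkt, ← r1]; group
  · rw [← cj_cj, ← cj_cj, q2, move hx hx' l1, ← r2]; group
  · rw [← cj_cj, ← cj_cj, q3, move hy hy' l2, ← r3]; group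
  · rw [← cj_cj, ← cj_cj, q4, move hz hz' l3, ← r4]; group

end

end CfsgThreeTrans.M24
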