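/-
The relations inside twenty-four commuting involutions with small centraliser and no short relation.
-/
import Mathlib.GroupTheory.Subgroup.Centralizer
import Mathlib.Data.Finset.Powerset
import Mathlib.Data.Fintype.Powerset
import Mathlib.Data.ZMod.Basic
import Mathlib.Tactic
import Cfsg.Prelude.Def_Sporadic_a

set_option autoImplicit false
set_option linter.unusedSectionVars false

namespace CfsgThreeTrans.M24.Octads

open Cfsg
open scoped symmDiff

universe u

variable {G : Type u} [Group G] [Finite G] (A : Set G)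

/-- The eight-element relations. -/
def octs : Set (Finset ↥A) := {s | s.card = 8 ∧ (s.toList.map Subtype.val).prod = 1}

variable {A}

set_option maxHeartbeats 1000000 in
/-- The relations form the Steiner system and all have even length. -/
theorem code_facts (hsq : ∀ a ∈ A, a * a = 1) (hc : ∀ a ∈ A, ∀ b ∈ A, Commute a b) (hn : A.ncard = 24)
    (hcent : Nat.card ↥(Subgroup.centralizer A) ≤ 4096)
    (hrel : ∀ l : List G, l ≠ [] → l.length ≤ 7 → l.Nodup → (∀ a ∈ l, a ∈ A) → l.prod ≠ 1) :
    IsSteinerSystem 5 8 (octs A) ∧ Nat.card ↥(Subgroup.centralizer A) = 4096 ∧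
      Subgroup.closure A = Subgroup.centralizer A ∧
      ∃ par : ↥(Subgroup.centralizer A) →* Multiplicative (ZMod 2),
        ∀ z : ↥(Subgroup.centralizer A), (z : G) ∈ A → par z = Multiplicative.ofAdd 1 := by
  classical
  set Z := Subgroup.closure A
  have hZle : Z ≤ Subgroup.centralizer A := (Subgroup.closure_le _).mpr fun a ha =>
    Subgroup.mem_centralizer_iff.mpr fun b hb => (hc b hb a ha).eq
  have hZcomm : ∀ x y : Z, x * y = y * x := by
    intro x y
    refine Subtype.ext ?_
    have h1 : Z ≤ Subgroup.centralizer (Z : Set G) := by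
      rwa [show Subgroup.centralizer (Z : Set G) = Subgroup.centralizer A from Subgroup.centralizer_closure A]
    exact (Subgroup.mem_centralizer_iff.mp (h1 x.2) y y.2).symm
  letI : CommGroup Z := { (inferInstance : Group Z) with mul_comm := hZcomm }
  haveI : Fintype ↥A := Fintype.ofFinite _
  haveI : Fintype Z := Fintype.ofFinite _
  have hcardA : Fintype.card ↥A = 24 := by rw [← Nat.card_eq_fintype_card, Nat.card_coe_set_eq, hn]
  let ι : ↥A → Z := fun a => ⟨a, Subgroup.subset_closure a.2⟩
  let P : Finset ↥A → Z := fun s => ∏ i ∈ s, ι i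
  have hι : ∀ i, ι i * ι i = 1 := fun i => Subtype.ext (hsq i i.2)
  have hPsq : ∀ s, P s * P s = 1 := fun s => by
    simp only [P, ← Finset.prod_mul_distrib, hι, Finset.prod_const_one]
  have hPd : ∀ s t, P (s ∆ t) = P s * P t := by
    intro s t
    have e1 : P s = P (s \ t) * P (s ∩ t) := by
      rw [← Finset.prod_union (Finset.disjoint_left.mpr fun x hx hx' =>
        (Finset.mem_sdiff.mp hx).2 (Finset.mem_inter.mp hx').2), Finset.sdiff_union_inter]
    have e2 : P t = P (s ∩ t) * P (t \ s) := by
      rw [← Finset.prod_union (Finset.disjoint_left.mpr fun x hx hx' =>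
        (Finset.mem_sdiff.mp hx').2 (Finset.mem_inter.mp hx).1), Finset.inter_comm, Finset.union_comm,
        Finset.sdiff_union_inter]
    have e3 : P (s ∆ t) = P (s \ t) * P (t \ s) := Finset.prod_union disjoint_sdiff_sdiff
    rw [e1, e2, e3, mul_assoc, ← mul_assoc (P (s ∩ t)), hPsq, one_mul]
  have hPval : ∀ s : Finset ↥A, ((P s : Z) : G) = (s.toList.map Subtype.val).prod := by
    intro s
    show Z.subtype (∏ i ∈ s, ι i) = _
    rw [← Finset.prod_map_toList, map_list_prod, List.map_map]
    rfl
  have hmem : ∀ s : Finset ↥A, s.card = 8 → P s = 1 → s ∈ octs A := fun s h1 h2 =>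
    ⟨h1, by rw [← hPval, h2]; rfl⟩
  have hmem' : ∀ s ∈ octs A, P s = 1 := fun s hs => Subtype.ext ((hPval s).trans hs.2)
  have h7 : ∀ s, P s = 1 → s.card ≤ 7 → s = ∅ := by
    intro s hs hle
    by_contra hne
    refine hrel (s.toList.map Subtype.val) (by rw [Ne, List.map_eq_nil_iff, Finset.toList_eq_nil]; exact hne) (by simpa using hle)
      ((Finset.nodup_toList s).map Subtype.val_injective) (fun a ha => ?_) (by rw [← hPval, hs]; rfl)
    obtain ⟨x, -, rfl⟩ := List.mem_map.mp ha
    exact x.2
  have hinjle : ∀ s t, P s = P t → (s ∆ t).card ≤ 7 → s = t := fun s t e hle =>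
    symmDiff_eq_bot.mp (h7 _ (by rw [hPd, e, hPsq]) hle)
  have hdcard : ∀ s t : Finset ↥A, (s ∆ t).card + 2 * (s ∩ t).card = s.card + t.card := by
    intro s t
    have h1 := Finset.card_sdiff_add_card_inter s t
    have h2 := Finset.card_sdiff_add_card_inter t s
    rw [Finset.inter_comm t s] at h2
    have h3 : (s ∆ t).card = (s \ t).card + (t \ s).card := Finset.card_union_of_disjoint disjoint_sdiff_sdiff
    omega
  have hsurj : ∀ z : Z, ∃ s, P s = z := by
    rintro ⟨z, hz⟩
    induction hz using Subgroup.closure_induction with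
    | mem a ha => exact ⟨{⟨a, ha⟩}, Finset.prod_singleton _ _⟩
    | one => exact ⟨∅, Finset.prod_empty⟩
    | mul x y hx hy ex ey =>
      obtain ⟨s, hs⟩ := ex
      obtain ⟨t, ht⟩ := ey
      exact ⟨s ∆ t, by rw [hPd, hs, ht]; rfl⟩
    | inv x hx ex =>
      obtain ⟨s, hs⟩ := ex
      refine ⟨s, ?_⟩
      rw [show (⟨x⁻¹, inv_mem hx⟩ : Z) = (⟨x, hx⟩ : Z)⁻¹ from rfl, ← hs]
      exact (inv_eq_of_mul_eq_one_left (hPsq s)).symm
  -- the count
  set small := (Finset.range 4).biUnion fun k => Finset.powersetCard k (Finset.univ : Finset ↥A) with hsmall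
  have hsm : ∀ s : Finset ↥A, s ∈ small ↔ s.card ≤ 3 := fun s => by
    simp only [hsmall, Finset.mem_biUnion, Finset.mem_range, Finset.mem_powersetCard, Finset.subset_univ, true_and]
    exact ⟨fun ⟨k, hk, e⟩ => by omega, fun h => ⟨s.card, by omega, rfl⟩⟩
  have hscard : small.card = 2325 := by
    rw [hsmall, Finset.card_biUnion]
    · simp only [Finset.card_powersetCard, Finset.card_univ, hcardA]; decide
    · intro i _ j _ hij
      exact Finset.disjoint_left.mpr fun s h1 h2 =>
        hij ((Finset.mem_powersetCard.mp h1).2.symm.trans (Finset.mem_powersetCard.mp h2).2)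
  set four := Finset.powersetCard 4 (Finset.univ : Finset ↥A) with hfour
  have hfm : ∀ s : Finset ↥A, s ∈ four ↔ s.card = 4 := fun s => by
    simp [hfour, Finset.mem_powersetCard]
  have hfcard : four.card = 10626 := by
    rw [hfour, Finset.card_powersetCard, Finset.card_univ, hcardA]; decide
  have hPs : Set.InjOn P small := fun s hs t ht e => hinjle s t e (by
    have := hdcard s t
    have := (hsm s).mp hs
    have := (hsm t).mp ht
    omega)
  have himS : (small.image P).card = 2325 := by rw [Finset.card_image_of_injOn hPs, hscard]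
  have hdis : Disjoint (small.image P) (four.image P) := Finset.disjoint_left.mpr fun z h1 h2 => by
    obtain ⟨s, hs, rfl⟩ := Finset.mem_image.mp h1
    obtain ⟨t, ht, e⟩ := Finset.mem_image.mp h2
    have h := hinjle t s e (by have := hdcard t s; have := (hsm s).mp hs; have := (hfm t).mp ht; omega)
    have := (hsm s).mp hs
    have := (hfm t).mp ht
    rw [h] at this
    omega
  have hfib : ∀ z : Z, (four.filter fun s => P s = z).card * 4 =
      ((four.filter fun s => P s = z).biUnion id).card := by
    intro z
    rw [Finset.card_biUnion, Finset.sum_const_nat]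
    · intro s hs; exact (hfm s).mp (Finset.mem_filter.mp hs).1
    · intro s hs t ht hne
      simp only [Finset.mem_coe, Finset.mem_filter, hfm] at hs ht
      refine Finset.disjoint_iff_inter_eq_empty.mpr (Finset.card_eq_zero.mp ?_)
      by_contra h0
      refine hne (hinjle s t (hs.2.trans ht.2.symm) ?_)
      have := hdcard s t
      simp only [id_eq] at h0
      omega
  have hfib6 : ∀ z : Z, (four.filter fun s => P s = z).card ≤ 6 := fun z => by
    have h1 := hfib z
    have h2 := Finset.card_le_univ ((four.filter fun s => P s = z).biUnion id)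
    omega
  have hZcard : Nat.card Z ≤ 4096 := (Subgroup.card_le_of_le hZle).trans hcent
  rw [Nat.card_eq_fintype_card] at hZcard
  have hu := Finset.card_le_univ (small.image P ∪ four.image P)
  rw [Finset.card_union_of_disjoint hdis, himS] at hu
  have hsum : ∑ z ∈ four.image P, (four.filter fun s => P s = z).card = 10626 := by
    rw [← Finset.card_eq_sum_card_image, hfcard]
  have hle : ∑ z ∈ four.image P, (four.filter fun s => P s = z).card ≤ ∑ z ∈ four.image P, 6 :=
    Finset.sum_le_sum fun z _ => hfib6 z
  rw [Finset.sum_const, smul_eq_mul] at hle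
  have him4 : (four.image P).card = 1771 := by omega
  have hZ4 : Fintype.card Z = 4096 := by omega
  have hall : ∀ z : Z, z ∈ small.image P ∨ z ∈ four.image P := by
    intro z
    have e : small.image P ∪ four.image P = Finset.univ := Finset.eq_univ_of_card _ (by
      rw [Finset.card_union_of_disjoint hdis, himS, him4, hZ4])
    exact Finset.mem_union.mp (e ▸ Finset.mem_univ z)
  have hfib_eq : ∀ z ∈ four.image P, (four.filter fun s => P s = z).card = 6 := by
    refine (Finset.sum_eq_sum_iff_of_le fun z _ => hfib6 z).mp ?_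
    rw [hsum, Finset.sum_const, smul_eq_mul, him4]
  have hexist : ∀ F : Finset ↥A, F.card = 5 → ∃ b ∈ octs A, F ⊆ b := by
    intro F hF
    rcases hall (P F) with h | h
    · obtain ⟨L, hL, e⟩ := Finset.mem_image.mp h
      have hL3 := (hsm L).mp hL
      have hd := hdcard F L
      have he : P (F ∆ L) = 1 := by rw [hPd, e, hPsq]
      have hne : F ≠ L := fun k => by rw [k] at hF; omega
      have h8 : 7 < (F ∆ L).card := by
        by_contra hlt
        exact hne (symmDiff_eq_bot.mp (h7 _ he (by omega)))
      refine ⟨F ∆ L, hmem _ (by omega) he, fun x hx => ?_⟩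
      rw [Finset.mem_symmDiff]
      refine Or.inl ⟨hx, fun k => ?_⟩
      have : 0 < (F ∩ L).card := Finset.card_pos.mpr ⟨x, Finset.mem_inter.mpr ⟨hx, k⟩⟩
      omega
    · exfalso
      have h6 := hfib_eq _ h
      have hcov : (four.filter fun s => P s = P F).biUnion id = Finset.univ := Finset.eq_univ_of_card _ (by
        rw [← hfib, h6, hcardA])
      obtain ⟨x, hx⟩ := Finset.card_pos.mp (by omega : 0 < F.card)
      obtain ⟨L, hL, hxL⟩ := Finset.mem_biUnion.mp (hcov ▸ Finset.mem_univ x)
      obtain ⟨hL4, e⟩ := Finset.mem_filter.mp hL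
      have hne : F ≠ L := fun k => by rw [k] at hF; have := (hfm L).mp hL4; omega
      have : 0 < (F ∩ L).card := Finset.card_pos.mpr ⟨x, Finset.mem_inter.mpr ⟨hx, hxL⟩⟩
      refine hne (hinjle F L e.symm ?_)
      have := hdcard F L
      have := (hfm L).mp hL4
      omega
  have hsteiner : IsSteinerSystem 5 8 (octs A) := by
    refine ⟨fun b hb => hb.1, fun F hF => ?_⟩
    obtain ⟨b, hb, hFb⟩ := hexist F hF
    refine ⟨b, ⟨hb, hFb⟩, fun b' ⟨hb', hFb'⟩ => hinjle b' b (by rw [hmem' _ hb, hmem' _ hb']) ?_⟩
    have := hdcard b' b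
    have := hb.1
    have := hb'.1
    have : 5 ≤ (b' ∩ b).card := hF ▸ Finset.card_le_card (Finset.subset_inter hFb' hFb)
    omega
  have heven : ∀ n : ℕ, ∀ s : Finset ↥A, s.card = n → P s = 1 → n % 2 = 0 := by
    intro n
    induction n using Nat.strong_induction_on with
    | _ n ih =>
      intro s hs h1
      by_contra hodd
      have h8 : 7 < s.card := by
        by_contra hlt
        rw [h7 s h1 (by omega), Finset.card_empty] at hs
        omega
      obtain ⟨F, hFs, hF⟩ := Finset.exists_subset_card_eq (s := s) (n := 5) (by omega)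
      obtain ⟨b, hb, hFb⟩ := hexist F hF
      have : 5 ≤ (s ∩ b).card := hF ▸ Finset.card_le_card (Finset.subset_inter hFs hFb)
      have hd := hdcard s b
      rw [hb.1] at hd
      have := ih (s ∆ b).card (by omega) (s ∆ b) rfl (by rw [hPd, h1, hmem' _ hb, one_mul])
      omega
  have hCZ : Z = Subgroup.centralizer A := Subgroup.eq_of_le_of_card_ge hZle (by
    rw [Nat.card_eq_fintype_card (α := Z), hZ4]; exact hcent)
  have hC : Nat.card ↥(Subgroup.centralizer A) = 4096 := by
    rw [← hCZ, Nat.card_eq_fintype_card, hZ4]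
  choose rep hrep using fun z : ↥(Subgroup.centralizer A) => hsurj (MulEquiv.subgroupCongr hCZ.symm z)
  let w : Finset ↥A → ZMod 2 := fun s => (s.card : ZMod 2)
  have hw : ∀ s t, w (s ∆ t) = w s + w t := by
    intro s t
    have := congrArg (fun n : ℕ => (n : ZMod 2)) (hdcard s t)
    simp only [Nat.cast_add, Nat.cast_mul, Nat.cast_ofNat, show (2 : ZMod 2) = 0 from rfl, zero_mul, add_zero] at this
    exact this
  have hw1 : ∀ s t, P s = P t → w s = w t := by
    intro s t e
    have h0 : w (s ∆ t) = 0 :=
      (ZMod.natCast_eq_zero_iff_even).mpr (Nat.even_iff.mpr (heven _ _ rfl (by rw [hPd, e, hPsq])))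
    rw [hw] at h0
    calc w s = w s + (w t + w t) := by rw [ZModModule.add_self, add_zero]
      _ = (w s + w t) + w t := by rw [add_assoc]
      _ = w t := by rw [h0, zero_add]
  refine ⟨hsteiner, hC, hCZ, MonoidHom.mk' (fun z => Multiplicative.ofAdd (w (rep z))) (fun z z' => ?_), fun z hz => ?_⟩
  · rw [← ofAdd_add, ← hw]
    congr 1
    refine hw1 _ _ ?_
    rw [hPd, hrep, hrep, hrep, map_mul]
  · show Multiplicative.ofAdd (w (rep z)) = _
    congr 1
    rw [hw1 (rep z) {⟨z, hz⟩} ((hrep z).trans (by
      simp only [P, Finset.prod_singleton]; exact Subtype.ext rfl))]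
    simp [w]

end CfsgThreeTrans.M24.Octads
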