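/-
In type M(24) the derived subgroup has index two and contains no transposition.
-/
import Cfsg.Agent.Lib.ThreeTrans.M24.Clique
import Cfsg.Agent.Lib.ThreeTrans.M24.Octads
import Cfsg.Agent.Lib.ThreeTrans.M24.Involutions
import Cfsg.Agent.Lib.ThreeTrans.M23.Facts
import Cfsg.Agent.Lib.GolayUnique.Bridge
import Cfsg.Agent.Lib.Golay.OctStab
import Cfsg.Agent.Lib.Golay.Subgroups
import Cfsg.Agent.Lib.StemSylow.MathieuBig
import Mathlib.GroupTheory.Transfer

set_option autoImplicit false
set_option linter.unusedSectionVars false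

namespace CfsgThreeTrans.M24

open Cfsg CfsgLib
open CfsgThreeTrans.M23 (Hs Qt qt Et bar bar_eq)
open scoped Pointwise

universe u

variable {G : Type u} [Group G] [Finite G] {D : Set G}

/-- A central extension of order two of the largest Mathieu group has a central element outside the derived
subgroup. -/
theorem ext_split {E : Type u} [Group E] [Finite E] (π : E →* ↥Cfsg.M24) (hs : Function.Surjective π)
    (hc : π.ker ≤ Subgroup.center E) (h2 : Nat.card π.ker = 2) : ¬ π.ker ≤ commutator E := by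
  intro hd
  let j : E →* Equiv.Perm (Fin (Nat.card E)) :=
    (Finite.equivFin E).permCongrHom.toMonoidHom.comp (MulAction.toPermHom E E)
  have hj : Function.Injective j := (Finite.equivFin E).permCongrHom.injective.comp MulAction.toPerm_injective
  let f : ↥j.range ≃* E := (MonoidHom.ofInjective hj).symm
  let σ := π.comp f.toMonoidHom
  have hstem : IsStemExtension σ := by
    refine ⟨hs.comp f.surjective, fun x hx => ?_, fun x hx => ?_⟩
    · refine Subgroup.mem_center_iff.mpr fun g => f.injective ?_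
      rw [map_mul, map_mul]
      exact Subgroup.mem_center_iff.mp (hc (show f x ∈ π.ker from hx)) (f g)
    · have h : f x ∈ (commutator ↥j.range).map f.toMonoidHom := by
        rw [commutator_def, Subgroup.map_commutator, Subgroup.map_top_of_surjective _ f.surjective,
          ← commutator_def]
        exact hd hx
      obtain ⟨y, hy, e'⟩ := h
      rwa [f.injective e'] at hy
  obtain ⟨φ, hφ⟩ := CfsgLib.StemSylow.MathieuBig.trivial24.2 ↥j.range σ hstem
  have h1 : Nat.card σ.ker ≤ 1 :=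
    (Nat.card_le_card_of_surjective φ hφ).trans (by simp [Nat.card_eq_fintype_card])
  rw [Nat.card_congr (Equiv.subtypeEquiv f.toEquiv (fun x => Iff.rfl) : σ.ker ≃ π.ker), h2] at h1
  omega

/-- The order of the centraliser of a transposition. -/
theorem card_centralizer (hD : IsThreeTranspositionClass D) (hp : IsPrimitiveUnderConj D)
    (hZ : Subgroup.center G = ⊥) (B : Base D) {t : G} (ht : t ∈ D) :
    Nat.card ↥(Subgroup.centralizer ({t} : Set G)) = 8178940946586009600 := by
  have hbase : Nat.card ↥(Subgroup.centralizer ({B.t} : Set G)) = 8178940946586009600 := by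
    rw [M24.centralizer_eq hD hp hZ B B.ht,
      Subgroup.card_eq_card_quotient_mul_card_subgroup (Subgroup.center ↥(Hs D B.t)),
      M23.card_group (cls_group B.cls) B.prim B.ty B.inner, M24.center_closure hD hp hZ B B.ht,
      Nat.card_congr (Subgroup.subgroupOfEquivOfLe
        (Subgroup.zpowers_le.mpr (M24.self_mem hD hp hZ B B.ht))).toEquiv, Nat.card_zpowers, hD.1.1 B.t B.ht]
  obtain ⟨g, rfl⟩ := cls_exists_conj hD B.ht ht
  rw [← hbase]
  refine (Nat.card_congr ((Subgroup.centralizer ({B.t} : Set G)).equivMapOfInjective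
    (MulAut.conj g).toMonoidHom (MulAut.conj g).injective).toEquiv).trans ?_ |>.symm
  congr 2
  rw [Eleven.map_centralizer, Set.image_singleton]
  rfl

set_option maxHeartbeats 2000000 in
/-- The transfer to the stabiliser of a maximal commuting set does not kill a transposition. -/
theorem not_mem_commutator (hD : IsThreeTranspositionClass D) (hp : IsPrimitiveUnderConj D)
    (hZ : Subgroup.center G = ⊥) (B : Base D) : ∀ t ∈ D, t ∉ commutator G := by
  classical
  obtain ⟨K⟩ := exists_chart hD hp hZ B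
  set A := plane K with hAdef
  have hAD : ∀ {a : G}, a ∈ A → a ∈ D := plane_D K
  have hAc : ∀ a ∈ A, ∀ b ∈ A, Commute a b := fun a ha b hb => plane_comm K ha hb
  have hsq : ∀ a ∈ A, a * a = 1 := fun a ha => mul_self hD.1 (hAD ha)
  obtain ⟨hS, hC, hCcl, par, hpar⟩ := Octads.code_facts hsq hAc (plane_card K) (cent_plane_le K)
    fun l h1 h2 h3 h4 => M24.norel hD hp hZ B l h1 h2 h3 (fun a ha => hAD (h4 a ha))
      fun a ha b hb => hAc a (h4 a ha) b (h4 b hb)
  haveI : Fintype ↥A := Fintype.ofFinite _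
  have hcard : Fintype.card ↥A = 24 := by
    rw [← Nat.card_eq_fintype_card, Nat.card_coe_set_eq, hAdef, plane_card]
  -- the stabiliser
  set N := Subgroup.normalizer A with hN
  have hNm : ∀ {g : G}, g ∈ N → ∀ a ∈ A, g * a * g⁻¹ ∈ A :=
    fun {g} hg a ha => (hg a).mp ha
  have hNm' : ∀ {g : G}, (∀ a ∈ A, g * a * g⁻¹ ∈ A) → g ∈ N := fun {g} h => by
    refine Subgroup.mem_set_normalizer_iff.mpr fun x => ⟨h x, fun hx => ?_⟩
    have e : (fun z => g * z * g⁻¹) '' A = A := Set.eq_of_subset_of_ncard_le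
      (by rintro _ ⟨z, hz, rfl⟩; exact h z hz) (Set.ncard_image_of_injective _ (cj_injective g)).ge
    obtain ⟨z, hz, ez⟩ := (e.symm ▸ hx : g * x * g⁻¹ ∈ (fun z => g * z * g⁻¹) '' A)
    exact cj_injective g ez ▸ hz
  let perm : N → Equiv.Perm ↥A := fun n =>
    { toFun := fun a => ⟨n * a * (n : G)⁻¹, hNm n.2 a a.2⟩
      invFun := fun a => ⟨(n : G)⁻¹ * a * (n : G)⁻¹⁻¹, hNm (inv_mem n.2) a a.2⟩
      left_inv := fun a => Subtype.ext (by show (n : G)⁻¹ * (n * a * (n : G)⁻¹) * (n : G)⁻¹⁻¹ = a; group)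
      right_inv := fun a => Subtype.ext (by show (n : G) * ((n : G)⁻¹ * a * (n : G)⁻¹⁻¹) * (n : G)⁻¹ = a; group) }
  let σ₀ : N →* Equiv.Perm ↥A := MonoidHom.mk' perm fun n m => Equiv.ext fun a => Subtype.ext (by
    show ((n * m : N) : G) * a * ((n * m : N) : G)⁻¹ = n * (m * a * (m : G)⁻¹) * (n : G)⁻¹
    rw [Subgroup.coe_mul, cj_cj])
  have hoct : ∀ n : N, σ₀ n ∈ setSystemAut (Octads.octs A) := by
    intro n
    have hsub : ∀ s ∈ Octads.octs A, s.image (σ₀ n) ∈ Octads.octs A := by
      intro s hs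
      refine ⟨by rw [Finset.card_image_of_injective _ (σ₀ n).injective, hs.1], ?_⟩
      have hperm : ((s.image (σ₀ n)).toList.map Subtype.val).Perm ((s.toList.map (σ₀ n)).map Subtype.val) := by
        refine List.Perm.map _ (List.perm_of_nodup_nodup_toFinset_eq (Finset.nodup_toList _)
          ((Finset.nodup_toList s).map (σ₀ n).injective) ?_)
        ext x; simp
      have hc' : ∀ a ∈ (s.image (σ₀ n)).toList.map Subtype.val, ∀ b ∈ (s.image (σ₀ n)).toList.map Subtype.val,
          Commute a b := by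
        intro a ha b hb
        obtain ⟨x, -, rfl⟩ := List.mem_map.mp ha
        obtain ⟨y, -, rfl⟩ := List.mem_map.mp hb
        exact hAc _ x.2 _ y.2
      rw [M24.prod_perm hc' hperm, List.map_map,
        show Subtype.val ∘ (σ₀ n : ↥A → ↥A) = (MulAut.conj (n : G)).toMonoidHom ∘ Subtype.val from rfl,
        ← List.map_map, ← map_list_prod, hs.2, map_one]
    rw [MulAction.mem_stabilizer_iff, CfsgCode.smul_sys]
    exact Set.eq_of_subset_of_ncard_le (by rintro _ ⟨s, hs, rfl⟩; exact hsub s hs)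
      (Set.ncard_image_of_injective _ (Finset.image_injective (σ₀ n).injective)).ge
  obtain ⟨e, he⟩ := CfsgCode.sys_std hcard hS
  let φ := (CfsgCode.autEquiv e he).trans (MulEquiv.subgroupCongr CfsgGolay.M24_eq_octadAut.symm)
  let τ : N →* ↥Cfsg.M24 := φ.toMonoidHom.comp (σ₀.codRestrict _ hoct)
  have hτ : ∀ (n : N) (a : ↥A), (τ n : Equiv.Perm GolayPt) (e a) = e (σ₀ n a) := fun n a =>
    CfsgCode.autEquiv_smul e he ⟨σ₀ n, hoct n⟩ a
  -- the translations
  have hfix : ∀ o ∈ octads, ∀ h : ↥Cfsg.M24, (h : Equiv.Perm GolayPt) ∈ CfsgGolay.fixOct o → h ∈ τ.range := by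
    intro o ho h hh
    by_cases h1 : h = 1
    · rw [h1]; exact one_mem _
    have hho : ∀ z ∈ o, (h : Equiv.Perm GolayPt) z = z := fun z hz =>
      (mem_fixingSubgroup_iff _).mp hh.2 z hz
    obtain ⟨p, hp'⟩ : ∃ p, (h : Equiv.Perm GolayPt) p ≠ p := by
      by_contra! hall
      exact h1 (Subtype.ext (Equiv.ext hall))
    have hpo : p ∉ o := fun k => hp' (hho p k)
    have hqo : (h : Equiv.Perm GolayPt) p ∉ o := fun k => hp' ((h : Equiv.Perm GolayPt).injective (hho _ k))
    obtain ⟨b, hb, hbo⟩ : o ∈ (fun b => b.image e) '' Octads.octs A := he.symm ▸ ho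
    set a := e.symm p with ha
    set a' := e.symm ((h : Equiv.Perm GolayPt) p) with ha'
    have hne : (a : G) ≠ a' := fun k => hp' (e.symm.injective (Subtype.ext k)).symm
    have hab : a ∉ b := fun k => hpo (hbo ▸ Finset.mem_image.mpr ⟨a, k, e.apply_symm_apply p⟩)
    have ha'b : a' ∉ b := fun k => hqo (hbo ▸ Finset.mem_image.mpr ⟨a', k, e.apply_symm_apply _⟩)
    set l := b.toList.map Subtype.val with hl
    have hlm : ∀ y ∈ l, y ∈ A := fun y hy => by obtain ⟨z, -, rfl⟩ := List.mem_map.mp hy; exact z.2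
    have hgeo := fun (x : ↥A) (hx : x ∉ b) => octad_geo hD hp B K (l := l)
      ((Finset.nodup_toList b).map Subtype.val_injective) (by simpa [hl] using hb.1) (fun y hy => hAD (hlm y hy))
      (fun y hy z hz => hAc y (hlm y hy) z (hlm z hz)) hb.2 (hAD x.2) (fun k => hx (by
        obtain ⟨z, hz, e'⟩ := List.mem_map.mp k
        rwa [← Subtype.ext e', ← Finset.mem_toList]))
      fun y hy => hAc y (hlm y hy) x x.2
    obtain ⟨huniq, c, hc, hcl, hca⟩ := hgeo a hab
    obtain ⟨huniq', -⟩ := hgeo a' ha'b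
    have hca' : ¬ Commute (a' : G) c := fun k => hca ((huniq' c hc a (hAD a.2) hcl
      (fun y hy => hAc y (hlm y hy) a a.2) k (hAc a' a'.2 a a.2)).symm)
    set g := ((a : G) * c * a) * ((a' : G) * c * a') with hg
    have ea := mul_self hD.1 (hAD a.2)
    have ea' := mul_self hD.1 (hAD a'.2)
    have ec := mul_self hD.1 hc
    have br : (a : G) * c * a = c * a * c := braid hD.1 (hAD a.2) hc hca
    have br' : (a' : G) * c * a' = c * a' * c := braid hD.1 (hAD a'.2) hc hca'
    have hcom := hAc a a.2 a' a'.2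
    have hginv : g⁻¹ = ((a' : G) * c * a') * ((a : G) * c * a) := by
      rw [hg]
      simp only [mul_inv_rev, inv_self hD.1 (hAD a.2), inv_self hD.1 (hAD a'.2), inv_self hD.1 hc, mul_assoc]
    have hga : g * a * g⁻¹ = a' := by
      have k1 : ((a' : G) * c * a') * a * ((a' : G) * c * a') = a * a' * c * a' * a := by
        calc ((a' : G) * c * a') * a * ((a' : G) * c * a') = a' * c * (a' * a) * (a' * c * a') := by group
          _ = a' * c * (a * a') * (a' * c * a') := by rw [hcom.eq]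
          _ = a' * c * a * (a' * a') * c * a' := by group
          _ = a' * (c * a * c) * a' := by rw [ea']; group
          _ = a' * a * c * (a * a') := by rw [← br]; group
          _ = (a' * a) * c * (a' * a) := by rw [hcom.eq]
          _ = (a * a') * c * a' * a := by rw [hcom.eq]; group
      calc g * a * g⁻¹ = (a * c * a) * ((a' * c * a') * a * (a' * c * a')) * (a * c * a) := by
            rw [hginv, hg]; group
        _ = (a * c * a) * (a * a' * c * a' * a) * (a * c * a) := by rw [k1]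
        _ = a * c * (a * a) * (a' * c * a') * (a * a) * c * a := by group
        _ = a * (c * c) * a' * (c * c) * a := by rw [ea, br']; group
        _ = a * a' * a := by rw [ec, mul_one, mul_one]
        _ = a' * (a * a) := by rw [hcom.eq]; group
        _ = a' := by rw [ea, mul_one]
    have hgl : ∀ y ∈ l, g * y * g⁻¹ = y := by
      intro y hy
      have h1 : Commute y g := (((hAc y (hlm y hy) a a.2).mul_right (hcl y hy)).mul_right (hAc y (hlm y hy) a a.2)).mul_right
        (((hAc y (hlm y hy) a' a'.2).mul_right (hcl y hy)).mul_right (hAc y (hlm y hy) a' a'.2))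
      rw [← h1.eq, mul_inv_cancel_right]
    have hgN : g ∈ N := hNm' fun y hy => by
      refine plane_max K (cls_conj hD g (hAD hy)) fun z hz => (huniq' _ (cls_conj hD g (hAD hy)) z (hAD hz)
        (fun w hw => ?_) (fun w hw => hAc w (hlm w hw) z hz) ?_ (hAc a' a'.2 z hz)).symm
      · rw [← hgl w hw]; exact (commute_cj_iff g).mpr (hAc w (hlm w hw) y hy)
      · rw [← hga]; exact (commute_cj_iff g).mpr (hAc a a.2 y hy)
    refine ⟨⟨g, hgN⟩, ?_⟩
    have hτp : (τ ⟨g, hgN⟩ : Equiv.Perm GolayPt) p = (h : Equiv.Perm GolayPt) p := by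
      conv_lhs => rw [← e.apply_symm_apply p, hτ]
      rw [show σ₀ ⟨g, hgN⟩ (e.symm p) = a' from Subtype.ext hga, ha', e.apply_symm_apply]
    have hτo : ∀ z ∈ o, (τ ⟨g, hgN⟩ : Equiv.Perm GolayPt) z = z := by
      intro z hz
      rw [← hbo] at hz
      obtain ⟨y, hy, rfl⟩ := Finset.mem_image.mp hz
      rw [hτ, show σ₀ ⟨g, hgN⟩ y = y from
        Subtype.ext (hgl y (List.mem_map.mpr ⟨y, Finset.mem_toList.mpr hy, rfl⟩))]
    set k := (h : Equiv.Perm GolayPt)⁻¹ * (τ ⟨g, hgN⟩ : Equiv.Perm GolayPt)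
    have hk : k ∈ CfsgGolay.fixOct o := mul_mem (inv_mem hh) ⟨(τ ⟨g, hgN⟩).2,
      (mem_fixingSubgroup_iff _).mpr hτo⟩
    have hk' : k ∈ CfsgGolay.octPt o p := by
      refine ⟨⟨hk.1, ?_⟩, ?_⟩
      · show k • o = o
        exact (Finset.image_congr fun z hz => (mem_fixingSubgroup_iff _).mp hk.2 z hz).trans Finset.image_id
      · show k p = p
        rw [Equiv.Perm.mul_apply, hτp]; simp
    have h0 : k ∈ CfsgGolay.fixOct o ⊓ CfsgGolay.octPt o p := ⟨hk, hk'⟩
    rw [(CfsgGolay.card_octPt ho hpo).2.1, Subgroup.mem_bot, inv_mul_eq_one] at h0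
    exact (Subtype.ext h0).symm
  have hsurj : Function.Surjective τ := by
    set S := Subgroup.closure {h : ↥Cfsg.M24 | ∃ o ∈ octads, (h : Equiv.Perm GolayPt) ∈ CfsgGolay.fixOct o}
    have hgen : ∀ (g h : ↥Cfsg.M24), (∃ o ∈ octads, (h : Equiv.Perm GolayPt) ∈ CfsgGolay.fixOct o) →
        ∃ o ∈ octads, ((g * h * g⁻¹ : ↥Cfsg.M24) : Equiv.Perm GolayPt) ∈ CfsgGolay.fixOct o := by
      rintro g h ⟨o, ho, hh⟩
      refine ⟨o.image (g : Equiv.Perm GolayPt), CfsgGolay.image_mem_octads g.2 ho, ?_, ?_⟩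
      · exact (g * h * g⁻¹).2
      · refine (mem_fixingSubgroup_iff _).mpr fun z hz => ?_
        obtain ⟨y, hy, rfl⟩ := Finset.mem_image.mp (Finset.mem_coe.mp hz)
        show ((g : Equiv.Perm GolayPt) * h * (g : Equiv.Perm GolayPt)⁻¹) ((g : Equiv.Perm GolayPt) y) = _
        simp [show (h : Equiv.Perm GolayPt) y = y from (mem_fixingSubgroup_iff _).mp hh.2 y hy]
    haveI hSn : S.Normal := ⟨fun x hx g => by
      induction hx using Subgroup.closure_induction with
      | mem h hh => exact Subgroup.subset_closure (hgen g h hh)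
      | one => simp
      | mul a b _ _ ha hb =>
        rw [show g * (a * b) * g⁻¹ = (g * a * g⁻¹) * (g * b * g⁻¹) by group]
        exact mul_mem ha hb
      | inv a _ ha =>
        rw [show g * a⁻¹ * g⁻¹ = (g * a * g⁻¹)⁻¹ by group]
        exact inv_mem ha⟩
    haveI := CfsgGolay.isSimple_M24
    rcases IsSimpleGroup.eq_bot_or_eq_top_of_normal S hSn with e' | e'
    · exfalso
      obtain ⟨o, ho⟩ : octads.Nonempty := ⟨_, CfsgGolay.O0_mem⟩
      have hsub : CfsgGolay.fixOct o ≤ ⊥ := fun x hx => by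
        have : (⟨x, hx.1⟩ : ↥Cfsg.M24) ∈ S := Subgroup.subset_closure (show _ ∈ {h : ↥Cfsg.M24 | _} from ⟨o, ho, hx⟩)
        rw [e', Subgroup.mem_bot] at this
        exact congrArg Subtype.val this
      have := Subgroup.card_le_of_le hsub
      rw [(CfsgGolay.card_fixOct ho).1, Subgroup.card_bot] at this
      omega
    · intro m
      have hm : m ∈ S := e' ▸ Subgroup.mem_top m
      exact ((Subgroup.closure_le τ.range).mpr (fun x hx => by obtain ⟨o, ho, hx⟩ := hx; exact hfix o ho x hx)) hm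
  -- the kernel
  have hCN : (Subgroup.centralizer A) ≤ N := fun g hg => hNm' fun a ha => by
    rw [← Subgroup.mem_centralizer_iff.mp hg a ha, mul_inv_cancel_right]; exact ha
  have hker : τ.ker = (Subgroup.centralizer A).subgroupOf N := by
    ext n
    constructor
    · intro hn
      refine Subgroup.mem_centralizer_iff.mpr fun a ha => (mul_inv_eq_iff_eq_mul.mp ?_).symm
      have h1 := hτ n ⟨a, ha⟩
      rw [MonoidHom.mem_ker.mp hn] at h1
      exact congrArg Subtype.val (e.injective h1).symm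
    · intro hn
      refine MonoidHom.mem_ker.mpr (Subtype.ext (Equiv.ext fun z => ?_))
      conv_lhs => rw [← e.apply_symm_apply z, hτ]
      refine (congrArg e (Subtype.ext ?_ : σ₀ n (e.symm z) = e.symm z)).trans (e.apply_symm_apply z)
      show (n : G) * (e.symm z : G) * (n : G)⁻¹ = (e.symm z : G)
      rw [← Subgroup.mem_centralizer_iff.mp (show (n : G) ∈ (Subgroup.centralizer A) from hn) _ (e.symm z).2, mul_inv_cancel_right]
  have hNcard : Nat.card N = 4096 * 244823040 := by
    have h1 := τ.ker.card_mul_index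
    rw [Subgroup.index_ker, MonoidHom.range_eq_top.mpr hsurj, Subgroup.card_top, hker,
      Nat.card_congr (Subgroup.subgroupOfEquivOfLe hCN).toEquiv, hC, CfsgGolay.card_M24] at h1
    exact h1.symm
  -- the extension
  let par' : ↥((Subgroup.centralizer A).subgroupOf N) →* Multiplicative (ZMod 2) :=
    par.comp (Subgroup.subgroupOfEquivOfLe hCN).toMonoidHom
  have hinv : ∀ (n : N) (z : G) (hz : z ∈ (Subgroup.centralizer A)) (hz' : (n : G) * z * (n : G)⁻¹ ∈ (Subgroup.centralizer A)),
      par ⟨(n : G) * z * (n : G)⁻¹, hz'⟩ = par ⟨z, hz⟩ := by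
    intro n z hz
    have hz2 : z ∈ Subgroup.closure A := hCcl.ge hz
    induction hz2 using Subgroup.closure_induction with
    | mem a ha => intro hz'; rw [hpar ⟨_, hz'⟩ (hNm n.2 a ha), hpar ⟨_, _⟩ ha]
    | one => intro hz'; congr 1; exact Subtype.ext (by simp)
    | mul x y hx hy ex ey =>
      intro hz'
      have hxC : x ∈ (Subgroup.centralizer A) := hCcl.le hx
      have hyC : y ∈ (Subgroup.centralizer A) := hCcl.le hy
      have hnC : ∀ {w : G}, w ∈ Subgroup.closure A → (n : G) * w * (n : G)⁻¹ ∈ (Subgroup.centralizer A) := by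
        intro w hw
        refine Subgroup.mem_centralizer_iff.mpr fun a ha => ?_
        have ha' := hNm (inv_mem n.2) a ha
        rw [inv_inv] at ha'
        have := Subgroup.mem_centralizer_iff.mp (hCcl.le hw) _ ha'
        calc a * ((n : G) * w * (n : G)⁻¹) = (n : G) * ((n : G)⁻¹ * a * n * w) * (n : G)⁻¹ := by group
          _ = (n : G) * (w * ((n : G)⁻¹ * a * n)) * (n : G)⁻¹ := by rw [this]
          _ = (n : G) * w * (n : G)⁻¹ * a := by group
      calc par ⟨(n : G) * (x * y) * (n : G)⁻¹, hz'⟩ =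
            par (⟨(n : G) * x * (n : G)⁻¹, hnC hx⟩ * ⟨(n : G) * y * (n : G)⁻¹, hnC hy⟩) := by
              congr 1; exact Subtype.ext (conj_mul).symm
        _ = par (⟨x, hxC⟩ * ⟨y, hyC⟩) := by rw [map_mul, map_mul, ex hxC, ey hyC]
        _ = _ := rfl
    | inv x hx ex =>
      intro hz'
      have hxC : x ∈ (Subgroup.centralizer A) := hCcl.le hx
      have hnx : (n : G) * x * (n : G)⁻¹ ∈ (Subgroup.centralizer A) := by
        have := inv_mem hz'
        simpa [mul_inv_rev, mul_assoc] using this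
      calc par ⟨(n : G) * x⁻¹ * (n : G)⁻¹, hz'⟩ = par (⟨(n : G) * x * (n : G)⁻¹, hnx⟩⁻¹) := by
            congr 1; exact Subtype.ext (by simp [mul_assoc])
        _ = par (⟨x, hxC⟩⁻¹) := by rw [map_inv, map_inv, ex hxC]
        _ = _ := rfl
  let M := par'.ker.map ((Subgroup.centralizer A).subgroupOf N).subtype
  have hMmem : ∀ z : N, z ∈ M ↔ ∃ h : (z : G) ∈ (Subgroup.centralizer A), par ⟨(z : G), h⟩ = 1 := by
    intro z
    constructor
    · rintro ⟨y, hy, rfl⟩; exact ⟨y.2, hy⟩
    · rintro ⟨h, h'⟩; exact ⟨⟨z, h⟩, h', rfl⟩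
  haveI : M.Normal := ⟨fun z hz n => by
    obtain ⟨h, h'⟩ := (hMmem z).mp hz
    have hz' : (n : G) * z * (n : G)⁻¹ ∈ (Subgroup.centralizer A) := by
      have hzn : n * z * n⁻¹ ∈ τ.ker := (MonoidHom.normal_ker τ).conj_mem z (by rw [hker]; exact h) n
      rw [hker] at hzn
      exact hzn
    exact (hMmem _).mpr ⟨hz', (hinv n z h hz').trans h'⟩⟩
  have hMle : M ≤ τ.ker := fun z hz => by
    obtain ⟨h, -⟩ := (hMmem z).mp hz
    rw [hker]; exact h
  let π := QuotientGroup.lift M τ hMle
  let q := QuotientGroup.mk' M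
  have hπs : Function.Surjective π := fun m => by obtain ⟨n, rfl⟩ := hsurj m; exact ⟨q n, rfl⟩
  have h2 : ∀ w : Multiplicative (ZMod 2), w ≠ 1 → w = Multiplicative.ofAdd 1 := by decide
  obtain ⟨a₀, ha₀⟩ : A.Nonempty := Set.nonempty_of_ncard_ne_zero (by rw [hAdef, plane_card]; norm_num)
  have haN : ∀ {a : G}, a ∈ A → a ∈ N := fun {a} ha => hCN (Subgroup.mem_centralizer_iff.mpr fun b hb => (hAc b hb a ha).eq)
  set z₀ := q ⟨a₀, haN ha₀⟩
  have hkerπ : ∀ x, x ∈ π.ker ↔ x = 1 ∨ x = z₀ := by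
    intro x
    obtain ⟨n, rfl⟩ := QuotientGroup.mk'_surjective M x
    constructor
    · intro hx
      have hn : (n : G) ∈ (Subgroup.centralizer A) := by
        have : n ∈ τ.ker := hx
        rwa [hker] at this
      by_cases h1 : par ⟨n, hn⟩ = 1
      · exact Or.inl ((QuotientGroup.eq_one_iff _).mpr ((hMmem n).mpr ⟨hn, h1⟩))
      · refine Or.inr (QuotientGroup.eq.mpr ?_)
        have ha₀C : a₀ ∈ (Subgroup.centralizer A) := Subgroup.mem_centralizer_iff.mpr fun b hb => (hAc b hb a₀ ha₀).eq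
        refine (hMmem _).mpr ⟨mul_mem (inv_mem hn) ha₀C, ?_⟩
        show par (⟨(n : G), hn⟩⁻¹ * ⟨a₀, ha₀C⟩) = 1
        rw [map_mul, map_inv, h2 _ h1, hpar ⟨_, _⟩ ha₀, inv_mul_cancel]
    · rintro (hx | hx)
      · rw [hx]; exact one_mem _
      · rw [hx]
        show τ _ = 1
        rw [← MonoidHom.mem_ker, hker]
        exact Subgroup.mem_centralizer_iff.mpr fun b hb => (hAc b hb a₀ ha₀).eq
  have hz₀ : ∀ {a : G} (ha : a ∈ A), q ⟨a, haN ha⟩ = z₀ := by
    intro a ha
    have haC : a ∈ Subgroup.centralizer A := Subgroup.mem_centralizer_iff.mpr fun b hb => (hAc b hb a ha).eq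
    have ha₀C : a₀ ∈ Subgroup.centralizer A := Subgroup.mem_centralizer_iff.mpr fun b hb => (hAc b hb a₀ ha₀).eq
    refine QuotientGroup.eq.mpr ((hMmem _).mpr ⟨mul_mem (inv_mem haC) ha₀C, ?_⟩)
    show par (⟨a, haC⟩⁻¹ * ⟨a₀, ha₀C⟩) = 1
    rw [map_mul, map_inv, hpar ⟨_, haC⟩ ha, hpar ⟨_, ha₀C⟩ ha₀, inv_mul_cancel]
  have hz₀1 : z₀ ≠ 1 := fun k => by
    obtain ⟨h, h'⟩ := (hMmem _).mp ((QuotientGroup.eq_one_iff _).mp k)
    rw [hpar ⟨_, _⟩ ha₀] at h'
    exact absurd h' (by decide)
  have hkcard : Nat.card π.ker = 2 := by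
    rw [← SetLike.coe_sort_coe, Nat.card_coe_set_eq,
      show (π.ker : Set (N ⧸ M)) = {1, z₀} from Set.ext fun x => hkerπ x, Set.ncard_pair hz₀1.symm]
  have hcen : π.ker ≤ Subgroup.center (N ⧸ M) := by
    intro x hx
    refine Subgroup.mem_center_iff.mpr fun y => ?_
    rcases (hkerπ x).mp hx with rfl | rfl
    · simp
    obtain ⟨n, rfl⟩ := QuotientGroup.mk'_surjective M y
    have e1 := hz₀ (hNm n.2 a₀ ha₀)
    have e2 : q ⟨(n : G) * a₀ * (n : G)⁻¹, haN (hNm n.2 a₀ ha₀)⟩ = q n * z₀ * (q n)⁻¹ := by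
      rw [← map_inv, ← map_mul, ← map_mul]; rfl
    exact (mul_inv_eq_iff_eq_mul.mp (e2.symm.trans e1))
  have hnd := ext_split π hπs hcen hkcard
  -- the homomorphism
  let ψ : N →* Abelianization (N ⧸ M) := Abelianization.of.comp q
  set w := Abelianization.of z₀
  have hw : w ≠ 1 := fun k => hnd fun x hx => by
    rcases (hkerπ x).mp hx with rfl | rfl
    · exact one_mem _
    · rwa [← Abelianization.ker_of]
  have hw2 : w ^ 2 = 1 := by
    rw [← map_pow, ← map_pow, show (⟨a₀, haN ha₀⟩ : N) ^ 2 = 1 from Subtype.ext (by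
      show a₀ ^ 2 = 1; rw [pow_two]; exact hsq a₀ ha₀), map_one, map_one]
  -- transfer
  intro t ht hcom
  haveI : Fintype (Quotient (MulAction.orbitRel (Subgroup.zpowers t) (G ⧸ N))) := Fintype.ofFinite _
  have htt := mul_self hD.1 ht
  have hfixA : ∀ g : G, g⁻¹ * t * g ∈ N → g⁻¹ * t * g ∈ A := by
    intro g hg
    have hxD : g⁻¹ * t * g ∈ D := by
      have := cls_conj hD g⁻¹ ht
      rwa [inv_inv] at this
    refine plane_max K hxD fun y hy => ?_
    by_contra hnc
    have h1 := hNm hg y hy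
    rw [inv_self hD.1 hxD] at h1
    exact (M22.third hD hxD (hAD hy) fun k => hnc k.symm).2.2.1 (hAc y hy _ h1)
  have hperiod : ∀ x : G ⧸ N, Function.minimalPeriod (t • ·) x = 1 ∨ Function.minimalPeriod (t • ·) x = 2 := by
    intro x
    exact (Nat.dvd_prime Nat.prime_two).mp (Function.IsPeriodicPt.minimalPeriod_dvd (by
      show t • t • x = x
      rw [smul_smul, htt, one_smul]))
  have hV := MonoidHom.transfer_eq_prod_quotient_orbitRel_zpowers_quot ψ t
  set Q := Quotient (MulAction.orbitRel (Subgroup.zpowers t) (G ⧸ N))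
  set F := Finset.univ.filter fun q : Q => t • q.out = q.out
  have hV' : MonoidHom.transfer ψ t = w ^ F.card := by
    rw [hV]
    have hval : ∀ x : Q, ψ ⟨x.out.out⁻¹ * t ^ Function.minimalPeriod (t • ·) x.out * x.out.out,
        QuotientGroup.out_conj_pow_minimalPeriod_mem N t x.out⟩ = if t • x.out = x.out then w else 1 := by
      intro x
      have hmem := QuotientGroup.out_conj_pow_minimalPeriod_mem N t x.out
      by_cases hx : t • x.out = x.out
      · rw [if_pos hx]
        have hp1 : Function.minimalPeriod (t • ·) x.out = 1 := Function.minimalPeriod_eq_one_iff_isFixedPt.mpr hx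
        rw [hp1, pow_one] at hmem
        show Abelianization.of (q _) = w
        refine congrArg Abelianization.of ?_
        rw [← hz₀ (hfixA _ hmem)]
        exact congrArg q (Subtype.ext (by
          show x.out.out⁻¹ * t ^ Function.minimalPeriod (t • ·) x.out * x.out.out = _
          rw [hp1, pow_one]))
      · rw [if_neg hx]
        have hp2 : Function.minimalPeriod (t • ·) x.out = 2 := (hperiod _).resolve_left
          fun k => hx (Function.minimalPeriod_eq_one_iff_isFixedPt.mp k)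
        refine (congrArg ψ (Subtype.ext ?_)).trans (map_one ψ)
        show x.out.out⁻¹ * t ^ Function.minimalPeriod (t • ·) x.out * x.out.out = 1
        rw [hp2, pow_two, htt, mul_one, inv_mul_cancel]
    rw [Finset.prod_congr rfl fun x _ => hval x, ← Finset.prod_filter, Finset.prod_const]
    congr 2
    ext x; simp [F]
  -- the fixed cosets
  set X := {x : G ⧸ N | t • x = x}
  have hFX : F.card = Nat.card X := by
    rw [← Fintype.card_coe, ← Nat.card_eq_fintype_card]
    refine Nat.card_eq_of_bijective (fun x : F => (⟨x.1.out, (Finset.mem_filter.mp x.2).2⟩ : X)) ⟨?_, fun x => ?_⟩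
    · intro x y e'
      exact Subtype.ext (Quotient.out_injective (congrArg Subtype.val e'))
    · have ho : (Quotient.mk'' x.1 : Q).out = x.1 := by
        obtain ⟨⟨k, hk⟩, e'⟩ := MulAction.orbitRel_apply.mp (Quotient.mk_out (s := MulAction.orbitRel (Subgroup.zpowers t) (G ⧸ N)) x.1)
        obtain ⟨j, rfl⟩ := Subgroup.mem_zpowers_iff.mp hk
        have hst : t ^ j ∈ MulAction.stabilizer G x.1 := zpow_mem (MulAction.mem_stabilizer_iff.mpr x.2) j
        exact e'.symm.trans hst
      exact ⟨⟨Quotient.mk'' x.1, Finset.mem_filter.mpr ⟨Finset.mem_univ _, by rw [ho]; exact x.2⟩⟩, Subtype.ext ho⟩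
  have hpre : Nat.card {g : G // g⁻¹ * t * g ∈ A} = Nat.card N * Nat.card X := by
    rw [← Nat.card_prod, ← Nat.card_congr (QuotientGroup.preimageMkEquivSubgroupProdSet N X)]
    refine Nat.card_congr (Equiv.subtypeEquivRight fun g => ?_)
    show _ ↔ t • (QuotientGroup.mk g : G ⧸ N) = QuotientGroup.mk g
    rw [show t • (QuotientGroup.mk g : G ⧸ N) = QuotientGroup.mk (t * g) from rfl, eq_comm, QuotientGroup.eq,
      ← mul_assoc]
    exact ⟨fun k => haN k, hfixA g⟩
  have hfib : Nat.card {g : G // g⁻¹ * t * g ∈ A} = 24 * Nat.card ↥(Subgroup.centralizer ({t} : Set G)) := by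
    rw [← hcard, ← Nat.card_eq_fintype_card, ← Nat.card_prod]
    choose g0 hg0 using fun a : ↥A => cls_exists_conj hD (hAD a.2) ht
    refine Nat.card_congr
      { toFun := fun g => (⟨_, g.2⟩, ⟨g.1 * (g0 ⟨_, g.2⟩)⁻¹, ?_⟩)
        invFun := fun y => ⟨y.2.1 * g0 y.1, ?_⟩
        left_inv := ?_
        right_inv := ?_ }
    · refine M22.mem_cent.mpr ?_
      have k := hg0 ⟨_, g.2⟩
      calc g.1 * (g0 ⟨_, g.2⟩)⁻¹ * t * (g.1 * (g0 ⟨_, g.2⟩)⁻¹)⁻¹ =
          g.1 * ((g0 ⟨_, g.2⟩)⁻¹ * t * g0 ⟨_, g.2⟩) * (g.1)⁻¹ := by group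
        _ = g.1 * ((g.1)⁻¹ * t * g.1) * (g.1)⁻¹ := by
          congr 2
          conv_lhs => arg 1; arg 2; rw [← k]
          group
        _ = t := by group
    · have k := hg0 y.1
      have e' : (y.2.1 * g0 y.1)⁻¹ * t * (y.2.1 * g0 y.1) = y.1 := by
        have hy : Commute (y.2 : G) t := Subgroup.mem_centralizer_singleton_iff.mp y.2.2
        calc (y.2.1 * g0 y.1)⁻¹ * t * (y.2.1 * g0 y.1) = (g0 y.1)⁻¹ * ((y.2.1)⁻¹ * (t * y.2.1)) * g0 y.1 := by group
          _ = (g0 y.1)⁻¹ * t * g0 y.1 := by rw [show t * y.2.1 = y.2.1 * t from hy.eq.symm, inv_mul_cancel_left]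
          _ = (g0 y.1)⁻¹ * (g0 y.1 * y.1 * (g0 y.1)⁻¹) * g0 y.1 := by rw [k]
          _ = y.1 := by group
      rw [e']; exact y.1.2
    · intro g; exact Subtype.ext (inv_mul_cancel_right _ _)
    · intro y
      have k := hg0 y.1
      have e' : (y.2.1 * g0 y.1)⁻¹ * t * (y.2.1 * g0 y.1) = y.1 := by
        have hy : Commute (y.2 : G) t := Subgroup.mem_centralizer_singleton_iff.mp y.2.2
        calc (y.2.1 * g0 y.1)⁻¹ * t * (y.2.1 * g0 y.1) = (g0 y.1)⁻¹ * ((y.2.1)⁻¹ * (t * y.2.1)) * g0 y.1 := by group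
          _ = (g0 y.1)⁻¹ * t * g0 y.1 := by rw [show t * y.2.1 = y.2.1 * t from hy.eq.symm, inv_mul_cancel_left]
          _ = (g0 y.1)⁻¹ * (g0 y.1 * y.1 * (g0 y.1)⁻¹) * g0 y.1 := by rw [k]
          _ = y.1 := by group
      refine Prod.ext (Subtype.ext e') (Subtype.ext ?_)
      show y.2.1 * g0 y.1 * (g0 ⟨_, _⟩)⁻¹ = y.2.1
      rw [show (⟨_, _⟩ : ↥A) = y.1 from Subtype.ext e', mul_inv_cancel_right]
  have hCt := card_centralizer hD hp hZ B ht
  rw [hpre, hNcard, hCt] at hfib
  have hX : Nat.card X = 195747435 := by omega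
  have hV1 : MonoidHom.transfer ψ t = 1 := Abelianization.commutator_subset_ker _ hcom
  rw [hV', hFX, hX, show 195747435 = 2 * 97873717 + 1 by norm_num, pow_succ, pow_mul, hw2, one_pow, one_mul] at hV1
  exact hw hV1

/-- The derived subgroup has index two. -/
theorem commutator_index (hG : IsThreeTranspositionGroup D) (hp : IsPrimitiveUnderConj D)
    (hZ : Subgroup.center G = ⊥) (B : Base D) : (commutator G).index = 2 := by
  have hD := cls_of_group_prim hG hp
  have hnot := not_mem_commutator hD hp hZ B B.t B.ht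
  have hall : ∀ g : G, g ∈ commutator G ∨ B.t⁻¹ * g ∈ commutator G := by
    intro g
    have hg : g ∈ Subgroup.closure D := hD.2.2 ▸ Subgroup.mem_top g
    have ht2 : ∀ {x : G}, x ∈ commutator G → B.t * x * B.t⁻¹ ∈ commutator G := fun {x} hx =>
      (inferInstance : (commutator G).Normal).conj_mem x hx B.t
    have tt : B.t⁻¹ = B.t := inv_self hD.1 B.ht
    induction hg using Subgroup.closure_induction with
    | mem y hy => exact Or.inr (mul_mem_commutator hD B.ht hy)
    | one => exact Or.inl (one_mem _)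
    | mul x y _ _ hx hy =>
      rcases hx with hx | hx <;> rcases hy with hy | hy
      · exact Or.inl (mul_mem hx hy)
      · refine Or.inr ?_
        have := mul_mem (ht2 hx) hy
        rw [show B.t * x * B.t⁻¹ * (B.t⁻¹ * y) = B.t * x * (B.t⁻¹ * B.t⁻¹) * y by group] at this
        rw [tt] at this ⊢
        rwa [mul_self hD.1 B.ht, mul_one, mul_assoc] at this
      · exact Or.inr (by rw [← mul_assoc]; exact mul_mem hx hy)
      · refine Or.inl ?_
        have := mul_mem (ht2 hx) hy
        rw [show B.t * (B.t⁻¹ * x) * B.t⁻¹ * (B.t⁻¹ * y) = x * (B.t⁻¹ * B.t⁻¹) * y by group, tt,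
          mul_self hD.1 B.ht, mul_one] at this
        exact this
    | inv x _ hx =>
      rcases hx with hx | hx
      · exact Or.inl (inv_mem hx)
      · refine Or.inr ?_
        have := ht2 (inv_mem hx)
        rw [show B.t * (B.t⁻¹ * x)⁻¹ * B.t⁻¹ = B.t * x⁻¹ * (B.t * B.t⁻¹) by group, mul_inv_cancel, mul_one] at this
        rwa [tt]
  refine Subgroup.index_eq_two_iff.mpr ⟨B.t, fun g => ?_⟩
  have e : g * B.t ∈ commutator G ↔ B.t⁻¹ * g ∈ commutator G := by
    rw [inv_self hD.1 B.ht]
    exact Subgroup.Normal.mem_comm_iff inferInstance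
  rw [xor_iff_or_and_not_and, e]
  exact ⟨(hall g).symm, fun ⟨k1, k2⟩ => hnot (by
    have := mul_mem k2 (inv_mem k1)
    rwa [mul_inv_rev, inv_inv, ← mul_assoc, mul_inv_cancel, one_mul] at this)⟩

end CfsgThreeTrans.M24
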