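/-
The order, layer and width in type M(24).
-/
import Cfsg.Agent.Lib.ThreeTrans.M24.Parity
import Cfsg.Agent.Lib.ThreeTrans.Fischer

set_option autoImplicit false
set_option linter.unusedSectionVars false

namespace CfsgThreeTrans.M24

open Cfsg CfsgLib
open CfsgThreeTrans.M23 (Hs Qt qt Et bar bar_eq)

universe u

variable {G : Type u} [Group G] [Finite G] {D : Set G}

section
variable (hG : IsThreeTranspositionGroup D) (hp : IsPrimitiveUnderConj D)
  (hZ : Subgroup.center G = ⊥) (B : Base D)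
include hG hp hZ B

/-- The order of the group. -/
theorem card_group : Nat.card G = 306936 * 8178940946586009600 := by
  have hD := cls_of_group_prim hG hp
  rw [← card_centralizer hD hp hZ B B.ht, ← (M24.params hD hp B).1, ← M22.index_centralizer hD B.ht,
    Subgroup.index_mul_card]

/-- The layer is the derived subgroup. -/
theorem layer_eq : layer G = commutator G ∧ (layer G).index = 2 := by
  have hD := cls_of_group_prim hG hp
  have hw := M24.has_pair hD B
  have hD2 : ∃ a ∈ D, ∃ b ∈ D, a ≠ b := by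
    obtain ⟨a, ha, b, hb, hab, -⟩ := hw
    exact ⟨a, ha, b, hb, hab⟩
  obtain ⟨h2, h3⟩ := cores_of_prim hD hp hw
  have hle := index_le_two_of_connected hD hD2 h2 h3 (graph_connected hD hp hw)
  have hci := commutator_index hG hp hZ B
  have hdvd : (commutator G).index ∣ (layer G).index := Subgroup.index_dvd_of_le layer_le_commutator
  rw [hci] at hdvd
  have h0 : (layer G).index ≠ 0 := Subgroup.index_ne_zero_of_finite
  have hi : (layer G).index = 2 := by
    have := Nat.le_of_dvd (Nat.pos_of_ne_zero h0) hdvd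
    omega
  refine ⟨?_, hi⟩
  refine Subgroup.eq_of_le_of_card_ge layer_le_commutator ?_
  have e1 := (layer G).card_mul_index
  have e2 := (commutator G).card_mul_index
  rw [hi] at e1
  rw [hci] at e2
  omega

/-- The commuting width. -/
theorem width : commutingWidth D = 24 := by
  have hD := cls_of_group_prim hG hp
  have h23 := M23.width (cls_group B.cls) B.prim B.ty B.inner
  set W := {n : ℕ | ∃ E : Set (Qt D B.t), E ⊆ Et D B.t ∧ E.Finite ∧ (∀ a ∈ E, ∀ b ∈ E, Commute a b) ∧ E.ncard = n}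
  have hbdd : BddAbove W := ⟨Nat.card (Qt D B.t), by
    rintro n ⟨E, -, -, -, rfl⟩
    rw [← Set.ncard_univ]
    exact Set.ncard_le_ncard (Set.subset_univ E)⟩
  have hupper : ∀ n, (∃ E : Set G, E ⊆ D ∧ E.Finite ∧ (∀ a ∈ E, ∀ b ∈ E, Commute a b) ∧ E.ncard = n) → n ≤ 24 := by
    rintro n ⟨E, hED, -, hcom, rfl⟩
    rcases E.eq_empty_or_nonempty with rfl | ⟨s, hs⟩
    · simp
    obtain ⟨g, hg, hin⟩ := M24.to_base hD B (hED hs)
    set S : Set G := (fun z => g⁻¹ * z * g⁻¹⁻¹) '' (E \ {s})
    have hS : S ⊆ Ds D B.t := by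
      rintro _ ⟨z, ⟨hz, hzs⟩, rfl⟩
      exact hin ⟨hED hz, hzs, hcom s hs z hz⟩
    have hSn : S.ncard + 1 = E.ncard := by
      rw [Set.ncard_image_of_injective _ (cj_injective g⁻¹), Set.ncard_sdiff_singleton_add_one hs]
    have hle : S.ncard ≤ 23 := by
      rw [← h23]
      refine le_csSup hbdd ⟨bar D B.t '' S, ?_, Set.toFinite _, ?_, ?_⟩
      · rintro _ ⟨x, hx, rfl⟩; exact bar_mem hD B (hS hx)
      · rintro _ ⟨x, ⟨x', hx', rfl⟩, rfl⟩ _ ⟨y, ⟨y', hy', rfl⟩, rfl⟩
        exact (bar_commute hD B (hS ⟨x', hx', rfl⟩) (hS ⟨y', hy', rfl⟩)).mpr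
          ((commute_cj_iff g⁻¹).mpr (hcom x' hx'.1 y' hy'.1))
      · exact ((bar_inj hD B).mono hS).ncard_image
    omega
  refine le_antisymm (csSup_le' hupper) ?_
  obtain ⟨K⟩ := exists_chart hD hp hZ B
  exact le_csSup ⟨24, hupper⟩ ⟨plane K, fun y hy => plane_D K hy, Set.toFinite _,
    fun a ha b hb => plane_comm K ha hb, plane_card K⟩

end

end CfsgThreeTrans.M24
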