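/-
Subgroups of order seventeen and twenty-three in type M(24).
-/
import Cfsg.Agent.Lib.ThreeTrans.M24.Facts
import Cfsg.Agent.Lib.ThreeTrans.M24.Eleven
import Cfsg.Agent.Lib.ThreeTrans.M23.SeventeenLevel

set_option autoImplicit false
set_option linter.unusedSectionVars false

namespace CfsgThreeTrans.M24.Seventeen

open Cfsg CfsgLib
open CfsgThreeTrans.M23 (Hs Qt qt Et bar bar_eq)

universe u

variable {G : Type u} [Group G] [Finite G] {D : Set G}

/-- Fixed members modulo the prime. -/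
theorem fixed_mod {p : ℕ} [Fact p.Prime] {S : Set G} {X : Subgroup G} (hX : Nat.card X = p)
    (hst : ∀ g ∈ X, ∀ y ∈ S, g * y * g⁻¹ ∈ S) :
    {y | y ∈ S ∧ ∀ g ∈ X, Commute g y}.ncard % p = S.ncard % p := by
  letI : MulAction X S :=
    { smul := fun g y => ⟨(g : G) * y * (g : G)⁻¹, hst g g.2 y y.2⟩
      one_smul := fun y => Subtype.ext (by show ((1 : X) : G) * y * ((1 : X) : G)⁻¹ = y; simp)
      mul_smul := fun g k y => Subtype.ext (by
        show ((g * k : X) : G) * y * ((g * k : X) : G)⁻¹ = g * (k * y * (k : G)⁻¹) * (g : G)⁻¹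
        simp only [Subgroup.coe_mul]; group) }
  have hPG : IsPGroup p X := IsPGroup.of_card (n := 1) (by rw [hX, pow_one])
  have hmod := hPG.card_modEq_card_fixedPoints S
  have e : Nat.card (MulAction.fixedPoints X S) = {y | y ∈ S ∧ ∀ g ∈ X, Commute g y}.ncard := by
    rw [← Nat.card_coe_set_eq]
    exact Nat.card_congr
      { toFun := fun y => ⟨(y.1 : G), y.1.2, fun g hg =>
          (mul_inv_eq_iff_eq_mul.mp (congrArg Subtype.val (y.2 ⟨g, hg⟩)) : g * _ = _ * g)⟩
        invFun := fun y => ⟨⟨y.1, y.2.1⟩, fun g => Subtype.ext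
          (mul_inv_eq_iff_eq_mul.mpr (y.2.2 g g.2).eq)⟩
        left_inv := fun y => rfl
        right_inv := fun y => rfl }
  rw [e, Nat.card_coe_set_eq] at hmod
  exact hmod.symm

/-- The data at a subgroup. -/
structure At (D : Set G) (X : Subgroup G) (c n : ℕ) : Prop where
  num : (Eleven.fx D X).ncard = 1
  norm : Nat.card ↥(Subgroup.normalizer (X : Set G)) = n
  cent : Nat.card ↥(Subgroup.centralizer (X : Set G)) = c

theorem At.map {X : Subgroup G} {c n : ℕ} (h : At D X c n) (e : G ≃* G) (he : e '' D = D) :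
    At D (X.map e.toMonoidHom) c n := by
  have hC : Subgroup.centralizer ((X.map e.toMonoidHom : Subgroup G) : Set G) =
      (Subgroup.centralizer (X : Set G)).map e.toMonoidHom := by
    rw [Eleven.map_centralizer, Subgroup.coe_map]; rfl
  refine ⟨?_, ?_, ?_⟩
  · show (D ∩ _).ncard = 1
    rw [hC, Subgroup.coe_map]
    show (D ∩ e '' (Subgroup.centralizer (X : Set G) : Set G)).ncard = 1
    rw [← he, ← Set.image_inter e.injective, Set.ncard_image_of_injective _ e.injective]
    exact h.num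
  · rw [← Subgroup.map_equiv_normalizer_eq, Eleven.card_map, h.norm]
  · rw [hC, Eleven.card_map, h.cent]

section
variable (hD : IsThreeTranspositionClass D) (hp : IsPrimitiveUnderConj D)
  (hZ : Subgroup.center G = ⊥) (B : Base D)
include hD hp hZ B

/-- A subgroup centralising the base transposition. -/
theorem at_base {p k : ℕ} (hq : p = 17 ∨ p = 23)
    (hinner : ∀ Y : Subgroup (Qt D B.t), Nat.card Y = p →
      Nat.card ↥(Subgroup.centralizer (Y : Set (Qt D B.t))) = p ∧
        Nat.card ↥(Subgroup.normalizer (Y : Set (Qt D B.t))) = p * k)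
    {X : Subgroup G} (hX : Nat.card X = p) (hXt : X ≤ Subgroup.centralizer ({B.t} : Set G)) :
    At D X (2 * p) (2 * (p * k)) := by
  haveI : Fact p.Prime := ⟨by rcases hq with rfl | rfl <;> norm_num⟩
  have hodd : Odd p := by rcases hq with rfl | rfl <;> decide
  have hCe : Subgroup.centralizer ({B.t} : Set G) = Hs D B.t := M24.centralizer_eq hD hp hZ B B.ht
  set C := Subgroup.centralizer ({B.t} : Set G) with hC
  set q : C →* Qt D B.t := (qt D B.t).comp (MulEquiv.subgroupCongr hCe).toMonoidHom with hqdef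
  have hqv : ∀ y : C, q y = bar D B.t y := fun y => (bar_eq (MulEquiv.subgroupCongr hCe y)).symm
  have hin : ∀ y : C, (y : G) ∈ Hs D B.t := fun y => hCe ▸ y.2
  have hqs : Function.Surjective q := by
    intro z
    obtain ⟨x, hx⟩ := QuotientGroup.mk'_surjective _ z
    exact ⟨⟨x, hCe.symm ▸ x.2⟩, hx⟩
  have hqk : ∀ z : C, q z = 1 → (z : G) = 1 ∨ (z : G) = B.t := fun z hz =>
    ker_cases hD hp hZ B (hin z) ((hqv z).symm.trans hz)
  have hpowX : ∀ x ∈ X, x ^ p = 1 := by
    intro x hx
    have := pow_card_eq_one' (G := X) (x := ⟨x, hx⟩)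
    rw [hX] at this
    exact congrArg Subtype.val this
  have htp : B.t ^ p = B.t := by
    obtain ⟨m, hm⟩ := hodd
    rw [hm, pow_succ, pow_mul, pow_two, mul_self hD.1 B.ht, one_pow, one_mul]
  have ht1 : B.t ≠ 1 := fun e => by
    have := hD.1.1 B.t B.ht
    rw [e, orderOf_one] at this
    norm_num at this
  -- an element of order dividing the prime is determined by its image
  have hdet : ∀ a b : C, q a = q b → (a : G) ^ p = 1 → (b : G) ^ p = 1 → a = b := by
    intro a b e ha hb
    rcases hqk (a⁻¹ * b) (by rw [map_mul, map_inv, e, inv_mul_cancel]) with h | h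
    · exact Subtype.ext (inv_mul_eq_one.mp h)
    · exfalso
      have e' : (b : G) = (a : G) * B.t := by
        rw [← h]; show (b : G) = a * ((a : G)⁻¹ * b); group
      have hat : Commute (a : G) B.t := Subgroup.mem_centralizer_singleton_iff.mp a.2
      rw [e', hat.mul_pow, ha, one_mul, htp] at hb
      exact ht1 hb
  set Y := (X.subgroupOf C).map q
  have hYcard : Nat.card Y = p := by
    rw [← hX, ← Nat.card_congr (Subgroup.subgroupOfEquivOfLe hXt).toEquiv]
    refine (Nat.card_congr (Equiv.ofBijective (fun x : X.subgroupOf C => (⟨q x, Subgroup.mem_map_of_mem q x.2⟩ : Y))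
      ⟨fun a b e => ?_, fun y => ?_⟩)).symm
    · exact Subtype.ext (hdet a b (congrArg Subtype.val e) (hpowX _ a.2) (hpowX _ b.2))
    · obtain ⟨x, hx, e⟩ := y.2
      exact ⟨⟨x, hx⟩, Subtype.ext e⟩
  obtain ⟨hYC, hYN⟩ := hinner Y hYcard
  have hfree := M23.Seventeen.free (cls_group B.cls) B.prim B.ty B.inner hq hYcard
  -- nothing else is fixed
  have hnear : ∀ y ∈ Ds D B.t, ¬ ∀ g ∈ X, Commute g y := by
    intro y hy hall
    obtain ⟨x, hx, hx1⟩ : ∃ x ∈ X, x ≠ 1 := by
      by_contra! h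
      rw [X.eq_bot_iff_forall.mpr h, Subgroup.card_bot] at hX
      rcases hq with rfl | rfl <;> norm_num at hX
    set x' : C := ⟨x, hXt hx⟩
    have hy' : y ∈ C := hCe.symm ▸ Subgroup.subset_closure hy
    have hbar : q x' = 1 := hfree (q x') (Subgroup.mem_map_of_mem q hx) (q ⟨y, hy'⟩)
      (by rw [hqv]; exact bar_mem hD B hy) (by
        rw [← map_inv, ← map_mul, ← map_mul]
        exact congrArg q (Subtype.ext (mul_inv_eq_iff_eq_mul.mpr (hall x hx).eq)))
    exact hx1 (congrArg Subtype.val (hdet x' 1 (by rw [hbar, map_one]) (hpowX x hx) (one_pow _)))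
  have htX : ∀ g ∈ X, Commute g B.t := fun g hg => Subgroup.mem_centralizer_singleton_iff.mp (hXt hg)
  have hfx : Eleven.fx D X = {B.t} := by
    refine Set.Subset.antisymm (fun c hc => ?_) (Set.singleton_subset_iff.mpr
      ⟨B.ht, Subgroup.mem_centralizer_iff.mpr fun g hg => (htX g hg).eq⟩)
    have hcX : ∀ g ∈ X, Commute g c := fun g hg => Subgroup.mem_centralizer_iff.mp hc.2 g hg
    by_contra hne
    by_cases htc : Commute B.t c
    · exact hnear c ⟨hc.1, hne, htc⟩ hcX
    · have hmod := fixed_mod (S := Ds D B.t ∩ Ds D c) hX fun g hg y hy =>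
        ⟨M22.cj_mem_Ds hD hy.1 (mul_inv_eq_iff_eq_mul.mpr (htX g hg).eq),
          M22.cj_mem_Ds hD hy.2 (mul_inv_eq_iff_eq_mul.mpr (hcX g hg).eq)⟩
      rw [(M24.params hD hp B).2 _ B.ht c hc.1 htc] at hmod
      obtain ⟨y, hyW, hyX⟩ := Set.nonempty_of_ncard_ne_zero (fun k => by
        rw [k] at hmod; rcases hq with rfl | rfl <;> norm_num at hmod :
        {y | y ∈ Ds D B.t ∩ Ds D c ∧ ∀ g ∈ X, Commute g y}.ncard ≠ 0)
      exact hnear y hyW.1 hyX
  have hNC : Subgroup.normalizer (X : Set G) ≤ C := fun n hn => M22.mem_cent.mpr (by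
    have : n * B.t * n⁻¹ ∈ Eleven.fx D X := M22.SevenNorm.fx_stable hD hn
      ⟨B.ht, Subgroup.mem_centralizer_iff.mpr fun g hg => (htX g hg).eq⟩
    rwa [hfx, Set.mem_singleton_iff] at this)
  have hCC : Subgroup.centralizer (X : Set G) ≤ C := (Subgroup.centralizer_le_normalizer _).trans hNC
  have h2 : Nat.card C = 2 * Nat.card (Qt D B.t) := by
    rw [hC, card_centralizer hD hp hZ B B.ht, M23.card_group (cls_group B.cls) B.prim B.ty B.inner]
  have hpull : ∀ (K : Subgroup (Qt D B.t)) (H : Subgroup G), H ≤ C → H.subgroupOf C = K.comap q →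
      Nat.card H = 2 * Nat.card K := by
    intro K H hle e
    have e1 := (K.comap q).card_mul_index
    rw [Subgroup.index_comap_of_surjective K hqs, ← e, Nat.card_congr (Subgroup.subgroupOfEquivOfLe hle).toEquiv,
      h2, ← K.card_mul_index, ← mul_assoc] at e1
    exact Nat.eq_of_mul_eq_mul_right (Nat.pos_of_ne_zero Subgroup.index_ne_zero_of_finite) e1
  have hmemY : ∀ x : C, (x : G) ∈ X → q x ∈ Y := fun x hx => Subgroup.mem_map_of_mem q hx
  have hcj : ∀ (n : C) (x : G) (hx : x ∈ X), q n * q ⟨x, hXt hx⟩ * (q n)⁻¹ =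
      q (n * ⟨x, hXt hx⟩ * n⁻¹) := fun n x hx => by rw [map_mul, map_mul, map_inv]
  have hpowc : ∀ (n : C) (x : G), x ∈ X → ((n : G) * x * (n : G)⁻¹) ^ p = 1 := fun n x hx => by
    rw [conj_pow, hpowX x hx, mul_one, mul_inv_cancel]
  refine ⟨by rw [hfx, Set.ncard_singleton], ?_, ?_⟩
  · rw [hpull (Subgroup.normalizer (Y : Set (Qt D B.t))) _ hNC, hYN]
    ext n
    simp only [Subgroup.mem_subgroupOf, Subgroup.mem_comap]
    constructor
    · intro hn
      refine Eleven.mem_norm fun z hz => ?_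
      obtain ⟨⟨x, hxC⟩, hx, rfl⟩ := hz
      rw [hcj n x hx]
      exact hmemY _ ((Subgroup.mem_normalizer_iff.mp hn x).mp hx)
    · intro hn
      refine Eleven.mem_norm fun x hx => ?_
      have hz := (Subgroup.mem_normalizer_iff.mp hn _).mp (hmemY ⟨x, hXt hx⟩ hx)
      rw [hcj n x hx] at hz
      obtain ⟨⟨y, hyC⟩, hy, e⟩ := hz
      have e' := hdet _ _ e (hpowX y hy) (hpowc n x hx)
      rw [← show y = (n : G) * x * (n : G)⁻¹ from congrArg Subtype.val e']
      exact hy
  · rw [hpull (Subgroup.centralizer (Y : Set (Qt D B.t))) _ hCC, hYC]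
    ext n
    simp only [Subgroup.mem_subgroupOf, Subgroup.mem_comap]
    constructor
    · intro hn
      refine Subgroup.mem_centralizer_iff.mpr ?_
      rintro _ ⟨⟨x, hxC⟩, hx, rfl⟩
      rw [← map_mul, ← map_mul]
      exact congrArg q (Subtype.ext (Subgroup.mem_centralizer_iff.mp hn x hx))
    · intro hn
      refine Subgroup.mem_centralizer_iff.mpr fun x hx => ?_
      have e := Subgroup.mem_centralizer_iff.mp hn _ (hmemY ⟨x, hXt hx⟩ hx)
      have e' := hdet (n * ⟨x, hXt hx⟩ * n⁻¹) ⟨x, hXt hx⟩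
        (by rw [← hcj n x hx, ← e, mul_inv_cancel_right]) (hpowc n x hx) (hpowX x hx)
      exact (mul_inv_eq_iff_eq_mul.mp (congrArg Subtype.val e')).symm

/-- Every subgroup of the given prime order. -/
theorem at_any {p k : ℕ} (hq : p = 17 ∨ p = 23)
    (hinner : ∀ Y : Subgroup (Qt D B.t), Nat.card Y = p →
      Nat.card ↥(Subgroup.centralizer (Y : Set (Qt D B.t))) = p ∧
        Nat.card ↥(Subgroup.normalizer (Y : Set (Qt D B.t))) = p * k)
    {X : Subgroup G} (hX : Nat.card X = p) : At D X (2 * p) (2 * (p * k)) := by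
  haveI : Fact p.Prime := ⟨by rcases hq with rfl | rfl <;> norm_num⟩
  have hmod := fixed_mod (S := D) hX fun g _ y hy => cls_conj hD g hy
  rw [(M24.params hD hp B).1] at hmod
  obtain ⟨d, hd, hdX⟩ := Set.nonempty_of_ncard_ne_zero (fun k => by
    rw [k] at hmod; rcases hq with rfl | rfl <;> norm_num at hmod :
    {y | y ∈ D ∧ ∀ g ∈ X, Commute g y}.ncard ≠ 0)
  obtain ⟨g, rfl⟩ := cls_exists_conj hD B.ht hd
  set X' := X.map (MulAut.conj g⁻¹).toMonoidHom
  have h := (at_base hD hp hZ B hq hinner (X := X') (by rw [Eleven.card_map, hX]) (by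
    rintro _ ⟨x, hx, rfl⟩
    refine Subgroup.mem_centralizer_singleton_iff.mpr ?_
    have := (commute_cj_iff g⁻¹).mpr (hdX x hx)
    rw [show g⁻¹ * (g * B.t * g⁻¹) * g⁻¹⁻¹ = B.t by group] at this
    exact this.eq)).map (MulAut.conj g) (Set.eq_of_subset_of_ncard_le
      (by rintro _ ⟨z, hz, rfl⟩; exact cls_conj hD g hz)
      (Set.ncard_image_of_injective _ (MulAut.conj g).injective).ge)
  have e : X'.map (MulAut.conj g).toMonoidHom = X := by
    ext y
    constructor
    · rintro ⟨_, ⟨x, hx, rfl⟩, rfl⟩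
      show g * (g⁻¹ * x * g⁻¹⁻¹) * g⁻¹ ∈ X
      rwa [cj_inv]
    · intro hy
      exact ⟨_, ⟨y, hy, rfl⟩, cj_inv g y⟩
  rwa [e] at h

end

/-- The halves inside the derived subgroup. -/
theorem halves (hG : IsThreeTranspositionGroup D) (hp : IsPrimitiveUnderConj D) (hZ : Subgroup.center G = ⊥)
    (B : Base D) {X : Subgroup G} {p n : ℕ} (hodd : Odd p) (hX : Nat.card X = p) (h : At D X (2 * p) n) :
    (D ∩ (Subgroup.centralizer (X : Set G) : Set G)).ncard = 1 ∧
      2 * Nat.card ↥(commutator G ⊓ Subgroup.normalizer (X : Set G)) = n ∧ X ≤ commutator G ∧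
        (commutator G ⊓ Subgroup.centralizer (X : Set G) = X ↔
          X ≤ Subgroup.centralizer (X : Set G)) := by
  have hD := cls_of_group_prim hG hp
  have hi := commutator_index hG hp hZ B
  set L := commutator G
  obtain ⟨d, hd⟩ := Set.ncard_eq_one.mp h.num
  have hdX : d ∈ D ∩ (Subgroup.centralizer (X : Set G) : Set G) := hd.symm.subset rfl
  have hdL : d ∉ L := not_mem_commutator hD hp hZ B d hdX.1
  have half : ∀ H : Subgroup G, d ∈ H → 2 * Nat.card ↥(L ⊓ H) = Nat.card H := by
    intro H hH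
    have hrel : L.relIndex H = 2 := by
      have h1 : L.relIndex H ∣ 2 := hi ▸ Subgroup.relIndex_dvd_index_of_normal L H
      rcases (Nat.dvd_prime Nat.prime_two).mp h1 with h1 | h1
      · exact absurd (Subgroup.relIndex_eq_one.mp h1 hH) hdL
      · exact h1
    have := (L.subgroupOf H).card_mul_index
    rw [← Subgroup.relIndex, hrel, ← Subgroup.inf_subgroupOf_right,
      Nat.card_congr (Subgroup.subgroupOfEquivOfLe (inf_le_right : L ⊓ H ≤ H)).toEquiv] at this
    omega
  have hXL : X ≤ L := by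
    intro x hx
    have h1 : (QuotientGroup.mk' L x) ^ p = 1 := by
      have := pow_card_eq_one' (G := X) (x := ⟨x, hx⟩)
      rw [hX] at this
      rw [← map_pow, show x ^ p = 1 from congrArg Subtype.val this, map_one]
    have h2 : (QuotientGroup.mk' L x) ^ 2 = 1 := by
      have := pow_card_eq_one' (G := G ⧸ L) (x := QuotientGroup.mk' L x)
      rwa [show Nat.card (G ⧸ L) = 2 from hi] at this
    obtain ⟨m, rfl⟩ := hodd
    rw [pow_succ, pow_mul, h2, one_pow, one_mul] at h1
    exact (QuotientGroup.eq_one_iff x).mp h1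
  refine ⟨h.num, ?_, hXL, ⟨fun e => e.ge.trans inf_le_right, fun hle => ?_⟩⟩
  · rw [half _ (Subgroup.centralizer_le_normalizer _ hdX.2), h.norm]
  · refine (Subgroup.eq_of_le_of_card_ge (le_inf hXL hle) ?_).symm
    have := half _ hdX.2
    rw [h.cent] at this
    omega

end CfsgThreeTrans.M24.Seventeen
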