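/-
The normaliser of the product of two non-commuting transpositions in type M(24).
-/
import Cfsg.Agent.Lib.ThreeTrans.M23.ThreeA
import Cfsg.Agent.Lib.ThreeTrans.M24.Facts
import Cfsg.Agent.Lib.Comp.Layer
import Cfsg.Agent.Lib.Perm.StandardAlt
import Cfsg.Agent.S0293
import Cfsg.Agent.S0296

set_option autoImplicit false
set_option linter.unusedSectionVars false

namespace CfsgThreeTrans.M24.ThreeA

open Cfsg CfsgLib
open CfsgThreeTrans.M22.ThreeA (inverter_commutes prod_ne_one inverts)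
open CfsgThreeTrans.M23 (Hs Qt qt Et bar bar_eq)

universe u

/-- A simple non-abelian normal subgroup with trivial centraliser is the generalised Fitting subgroup. -/
theorem gfit_eq_of_simple {L : Type u} [Group L] [Finite L] (N : Subgroup L) [hNn : N.Normal] [IsSimpleGroup N]
    (hnc : ∃ a b : N, a * b ≠ b * a) (hC : Subgroup.centralizer (N : Set L) = ⊥) :
    generalizedFittingSubgroup L = N := by
  classical
  obtain ⟨a, b, hab⟩ := hnc
  have hq : IsQuasisimple N := CfsgLib.StandardAlt.isQuasisimple_of_simple hab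
  refine le_antisymm (CfsgLib.Comp.gfit_le_of_centralizer_le N ?_ (hC.le.trans bot_le))
    (le_sup_of_le_left (le_layer ⟨hNn.isSubnormal, hq⟩))
  set F := fittingSubgroup L
  haveI hFn : Group.IsNilpotent F := isNilpotent_fittingSubgroup
  haveI hFnor : F.Normal := inferInstance
  haveI : (F.subgroupOf N).Normal := Subgroup.Normal.comap hFnor N.subtype
  have hbot : F.subgroupOf N = ⊥ := by
    refine (IsSimpleGroup.eq_bot_or_eq_top_of_normal _ inferInstance).resolve_right fun htop => ?_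
    have hle : N ≤ F := Subgroup.subgroupOf_eq_top.mp htop
    have hsol : Group.IsSolvable N := Group.isSolvable_of_isSolvable_injective (f := Subgroup.inclusion hle)
      (Subgroup.inclusion_injective _)
    exact hab (IsSimpleGroup.comm_iff_isSolvable.mpr hsol a b)
  have hd : F ⊓ N = ⊥ := by
    refine (Subgroup.eq_bot_iff_forall _).mpr fun z hz => ?_
    have : (⟨z, hz.2⟩ : N) ∈ F.subgroupOf N := hz.1
    rw [hbot, Subgroup.mem_bot] at this
    exact congrArg Subtype.val this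
  intro z hz
  have : z ∈ Subgroup.centralizer (N : Set L) := Subgroup.mem_centralizer_iff.mpr fun w hw =>
    (Subgroup.commute_of_normal_of_disjoint N F hNn hFnor (disjoint_iff.mpr (inf_comm N F ▸ hd)) w z hw hz).eq
  rw [hC, Subgroup.mem_bot] at this
  rw [this]
  exact one_mem _

/-- Counting obstruction to a complement centralising a simple normal subgroup of index six. -/
theorem cent_bot {L : Type u} [Group L] [Finite L] (π : L →* Equiv.Perm (Fin 3)) (hπ : Function.Surjective π)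
    [IsSimpleGroup π.ker] (hnc : ∃ a b : π.ker, a * b ≠ b * a) (W : Set L)
    (hinv : ∀ w ∈ W, w * w = 1) (hcj : ∀ g : L, ∀ w ∈ W, g * w * g⁻¹ ∈ W)
    (hpair : ∀ v ∈ W, ∀ w ∈ W, ¬ Commute v w → (v * w) ^ 3 = 1)
    (hgen : Subgroup.closure W = ⊤) (hW : W.ncard = 3240)
    (hloc : ∀ z ∈ W, {w | w ∈ W ∧ w ≠ z ∧ Commute z w}.ncard = 351) :
    Subgroup.centralizer (π.ker : Set L) = ⊥ := by
  set M := Subgroup.centralizer (π.ker : Set L) with hM
  haveI : M.Normal := Subgroup.normal_centralizer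
  have hMN : ∀ m ∈ M, π m = 1 → m = 1 := by
    intro m hm h1
    have hc : (⟨m, h1⟩ : π.ker) ∈ Subgroup.center π.ker := Subgroup.mem_center_iff.mpr fun w =>
      Subtype.ext (Subgroup.mem_centralizer_iff.mp hm w w.2)
    rcases IsSimpleGroup.eq_bot_or_eq_top_of_normal (Subgroup.center π.ker) inferInstance with h | h
    · rw [h, Subgroup.mem_bot] at hc
      exact congrArg Subtype.val hc
    · obtain ⟨a, b, hab⟩ := hnc
      exact absurd (Subgroup.mem_center_iff.mp (h ▸ Subgroup.mem_top b) a) hab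
  by_contra hne
  obtain ⟨m₀, hm₀, hm₀1⟩ : ∃ m ∈ M, m ≠ 1 := by
    by_contra! h
    exact hne ((Subgroup.eq_bot_iff_forall _).mpr h)
  have hs3 : ∀ s : Equiv.Perm (Fin 3), s ≠ 1 → ∃ g : Equiv.Perm (Fin 3),
      g * s * g⁻¹ * s⁻¹ ≠ 1 ∧ (g * s * g⁻¹ * s⁻¹) * (g * s * g⁻¹ * s⁻¹) * (g * s * g⁻¹ * s⁻¹) = 1 := by decide +kernel
  obtain ⟨g, hc1, hc3⟩ := hs3 (π m₀) fun h => hm₀1 (hMN m₀ hm₀ h)
  obtain ⟨g, rfl⟩ := hπ g
  set x := g * m₀ * g⁻¹ * m₀⁻¹ with hx
  have hxM : x ∈ M := M.mul_mem (Subgroup.Normal.conj_mem inferInstance _ hm₀ g) (M.inv_mem hm₀)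
  have hπx : π x = π g * π m₀ * (π g)⁻¹ * (π m₀)⁻¹ := by simp only [hx, map_mul, map_inv]
  rw [← hπx] at hc1 hc3
  have hx3 : x * x * x = 1 := hMN _ (M.mul_mem (M.mul_mem hxM hxM) hxM) (by rw [map_mul, map_mul, hc3])
  have hxc : ∀ n : L, π n = 1 → Commute x n := fun n hn => (Subgroup.mem_centralizer_iff.mp hxM n hn).symm
  -- a member outside the kernel
  obtain ⟨z, hz, hπz⟩ : ∃ z ∈ W, π z ≠ 1 := by
    by_contra! h
    have : Subgroup.closure W ≤ π.ker := (Subgroup.closure_le _).mpr h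
    rw [hgen] at this
    exact hc1 (this (Subgroup.mem_top x))
  have zz := hinv z hz
  have hπz2 : π z * π z = 1 := by rw [← map_mul, zz, map_one]
  have p1 : ∀ s c : Equiv.Perm (Fin 3), s * s = 1 → s ≠ 1 → c * c * c = 1 → c ≠ 1 → s * c * s * c = 1 := by
    decide +kernel
  have p1' : ∀ s c : Equiv.Perm (Fin 3), s * s = 1 → s ≠ 1 → c * c * c = 1 → c ≠ 1 →
      s * (c * s * c⁻¹) ≠ c * s * c⁻¹ * s := by decide +kernel
  have p2 : ∀ s t : Equiv.Perm (Fin 3), s * s = 1 → s ≠ 1 → t * t = 1 → s * t = t * s → t = 1 ∨ t = s := by decide +kernel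
  have pinv := p1 (π z) (π x) hπz2 hπz hc3 hc1
  have pnc := p1' (π z) (π x) hπz2 hπz hc3 hc1
  have hzx : z * x * z * x = 1 := hMN _ (by
    have e : z * x * z = z * x * z⁻¹ := by rw [inv_eq_of_mul_eq_one_right zz]
    rw [e]
    exact M.mul_mem (Subgroup.Normal.conj_mem inferInstance _ hxM z) hxM) (by simp only [map_mul, pinv])
  set z' := x * z * x⁻¹
  have hz' : z' ∈ W := hcj x z hz
  have hπz' : π z' = π x * π z * (π x)⁻¹ := by simp only [z', map_mul, map_inv]
  -- partners of `z` lie in the kernel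
  have hA : ∀ w ∈ W, w ≠ z → Commute z w → π w = 1 := by
    intro w hw hwz hc
    have ww := hinv w hw
    refine (p2 (π z) (π w) hπz2 hπz (by rw [← map_mul, ww, map_one]) (by rw [← map_mul, ← map_mul, hc.eq])).resolve_right
      fun he => hwz ?_
    set n := w * z with hn
    have hn1 : π n = 1 := by rw [hn, map_mul, he, hπz2]
    have hnn : n * n = 1 := by
      rw [hn]
      calc w * z * (w * z) = w * (z * w) * z := by simp only [mul_assoc]
        _ = 1 := by rw [hc.eq, ← mul_assoc, ww, one_mul, zz]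
    have e3 : (w * z') ^ 3 = 1 := hpair w hw z' hz' fun hcc => pnc (by
      rw [← hπz', ← he, ← map_mul, ← map_mul, hcc.eq])
    have hxi : x⁻¹ = x * x := inv_eq_of_mul_eq_one_right (by rw [← mul_assoc, hx3])
    have hxz : x * z = z * x⁻¹ := by
      calc x * z = z * z * x * z := by rw [zz, one_mul]
        _ = z * (z * x * z * x) * x⁻¹ := by group
        _ = z * x⁻¹ := by rw [hzx, mul_one]
    have e1 : w * z' = n * x := by
      calc w * z' = w * (x * z) * x⁻¹ := by simp only [z', mul_assoc]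
        _ = w * z * (x⁻¹ * x⁻¹) := by rw [hxz]; simp only [mul_assoc]
        _ = n * x := by rw [hn, hxi]; congr 1; rw [mul_assoc, ← mul_assoc x x x, hx3, mul_one]
    rw [e1, (hxc n hn1).symm.mul_pow, pow_succ n, pow_two n, hnn, one_mul, pow_succ x, pow_two x, hx3, mul_one] at e3
    calc w = w * (z * z) := by rw [zz, mul_one]
      _ = n * z := by rw [hn, mul_assoc]
      _ = z := by rw [e3, one_mul]
  -- members inside and outside the kernel commute
  have hB : ∀ u ∈ W, π u = 1 → ∀ v ∈ W, π v ≠ 1 → Commute u v := by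
    intro u hu hu1 v hv hv1
    by_contra hcc
    have e3 := hpair u hu v hv hcc
    have vv := congrArg π (hinv v hv)
    rw [map_mul, map_one] at vv
    apply hv1
    have := congrArg π e3
    rwa [map_pow, map_mul, hu1, one_mul, map_one, _root_.pow_three, vv, mul_one] at this
  set U := {w | w ∈ W ∧ π w = 1} with hU
  set V := {w | w ∈ W ∧ π w ≠ 1} with hV
  obtain ⟨w₁, hw₁, hw₁z, hw₁c⟩ := Set.nonempty_of_ncard_ne_zero (s := {w | w ∈ W ∧ w ≠ z ∧ Commute z w})
    (by rw [hloc z hz]; norm_num)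
  have hUn : Subgroup.closure U = π.ker := by
    have hle : Subgroup.closure U ≤ π.ker := (Subgroup.closure_le _).mpr fun u hu => hu.2
    haveI : (Subgroup.closure U).Normal := ⟨fun a ha g => by
      have e : (Subgroup.closure U).map (MulAut.conj g).toMonoidHom ≤ Subgroup.closure U := by
        rw [MonoidHom.map_closure]
        refine Subgroup.closure_mono ?_
        rintro _ ⟨u, hu, rfl⟩
        refine ⟨hcj g u hu.1, ?_⟩
        show π (g * u * g⁻¹) = 1
        rw [map_mul, map_mul, hu.2, mul_one, map_inv, mul_inv_cancel]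
      exact e ⟨a, ha, rfl⟩⟩
    haveI : ((Subgroup.closure U).subgroupOf π.ker).Normal := Subgroup.Normal.comap inferInstance π.ker.subtype
    rcases IsSimpleGroup.eq_bot_or_eq_top_of_normal ((Subgroup.closure U).subgroupOf π.ker) inferInstance with h | h
    · exfalso
      have hw1 := hA w₁ hw₁ hw₁z hw₁c
      have hm : (⟨w₁, hw1⟩ : π.ker) ∈ (Subgroup.closure U).subgroupOf π.ker := Subgroup.subset_closure ⟨hw₁, hw1⟩
      rw [h, Subgroup.mem_bot] at hm
      have e : w₁ = 1 := congrArg Subtype.val hm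
      have hwU : ∀ u ∈ W, π u = 1 → u = 1 := fun u hu hu1 => by
        have hm : (⟨u, hu1⟩ : π.ker) ∈ (Subgroup.closure U).subgroupOf π.ker := Subgroup.subset_closure ⟨hu, hu1⟩
        rw [h, Subgroup.mem_bot] at hm
        exact congrArg Subtype.val hm
      have hsub : {w | w ∈ W ∧ w ≠ z ∧ Commute z w} ⊆ {1} := fun w hw => hwU w hw.1 (hA w hw.1 hw.2.1 hw.2.2)
      have hle := Set.ncard_le_ncard hsub
      rw [hloc z hz, Set.ncard_singleton] at hle
      omega
    · exact le_antisymm hle (Subgroup.subgroupOf_eq_top.mp h)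
  have hVM : V ⊆ (M : Set L) := by
    intro v hv
    refine Subgroup.mem_centralizer_iff.mpr fun k hk => ?_
    have hle : π.ker ≤ Subgroup.centralizer ({v} : Set L) := hUn ▸ (Subgroup.closure_le _).mpr fun u hu =>
      Subgroup.mem_centralizer_singleton_iff.mpr (hB u hu.1 hu.2 v hv.1 hv.2).eq
    exact Subgroup.mem_centralizer_singleton_iff.mp (hle hk)
  have hVn : V.ncard ≤ 6 := by
    have e : (π '' V).ncard = V.ncard := Set.InjOn.ncard_image fun a ha b hb hab => by
      have := hMN _ (M.mul_mem (hVM ha) (M.inv_mem (hVM hb))) (by rw [map_mul, map_inv, hab, mul_inv_cancel])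
      exact mul_inv_eq_one.mp this
    rw [← e]
    refine (Set.ncard_le_ncard (Set.subset_univ _)).trans ?_
    rw [Set.ncard_univ, Nat.card_perm, Nat.card_fin]
    rfl
  have hsum : W.ncard ≤ U.ncard + V.ncard := by
    refine (Set.ncard_le_ncard (t := U ∪ V) ?_).trans (Set.ncard_union_le _ _)
    intro w hw
    by_cases h : π w = 1
    exacts [Or.inl ⟨hw, h⟩, Or.inr ⟨hw, h⟩]
  have hUle : U.ncard ≤ 351 := by
    rw [← hloc z hz]
    refine Set.ncard_le_ncard fun u hu => ⟨hu.1, fun e => hπz (e ▸ hu.2), (hB u hu.1 hu.2 z hz hπz).symm⟩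
  omega

variable {G : Type u} [Group G] [Finite G] {D : Set G}

section

variable (hG : IsThreeTranspositionGroup D) (hp : IsPrimitiveUnderConj D) (h24 : IsOfTypeM24 G D) (B : Base D)
include hG hp h24 B

theorem ncard_far {a : G} (ha : a ∈ D) : {y | y ∈ D ∧ ¬ Commute a y}.ncard = 275264 := by
  have hD := cls_of_group_prim hG hp
  have e : {y | y ∈ D ∧ ¬ Commute a y} = D \ insert a (Ds D a) := by
    ext y
    simp only [Set.mem_setOf_eq, Set.mem_sdiff, Set.mem_insert_iff, not_or]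
    constructor
    · rintro ⟨hy, hc⟩
      exact ⟨hy, fun e => hc (e ▸ Commute.refl a), fun e => hc e.2.2⟩
    · rintro ⟨hy, hne, hn⟩
      exact ⟨hy, fun hc => hn ⟨hy, hne, hc⟩⟩
  rw [e, Set.ncard_sdiff (Set.insert_subset ha fun y hy => hy.1), (M24.params hD hp B).1,
    Set.ncard_insert_of_notMem (fun h => h.2.1 rfl), M24.ncard_Ds hD B ha]

theorem card_cent {a d : G} (ha : a ∈ D) (hd : d ∈ D) (hnc : ¬ Commute a d) :
    Nat.card ↥(Subgroup.centralizer ({a, d} : Set G)) = 29713078886400 := by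
  classical
  have hD := cls_of_group_prim hG hp
  set C := Subgroup.centralizer ({a} : Set G)
  letI act : MulAction C {y // y ∈ D ∧ ¬ Commute a y} :=
    { smul := fun g y => ⟨(g : G) * y.1 * (g : G)⁻¹, cls_conj hD _ y.2.1, fun hc => y.2.2 (by
        have e : (g : G) * a * (g : G)⁻¹ = a := by
          rw [Subgroup.mem_centralizer_singleton_iff.mp g.2, mul_inv_cancel_right]
        have h2 : Commute ((g : G) * a * (g : G)⁻¹) ((g : G) * y.1 * (g : G)⁻¹) := e.symm ▸ hc
        exact (commute_cj_iff _).mp h2)⟩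
      one_smul := fun y => Subtype.ext (by show ((1 : C) : G) * y.1 * ((1 : C) : G)⁻¹ = y.1; simp)
      mul_smul := fun g k y => Subtype.ext (by
        show ((g * k : C) : G) * y.1 * ((g * k : C) : G)⁻¹ = (g : G) * ((k : G) * y.1 * (k : G)⁻¹) * (g : G)⁻¹
        simp only [Subgroup.coe_mul]; group) }
  haveI : MulAction.IsPretransitive C {y // y ∈ D ∧ ¬ Commute a y} := ⟨fun y y' => by
    obtain ⟨g, hga, hgy⟩ := rank_three_far hD hp (M24.has_pair hD B) ha y.1 y.2.1 y.2.2 y'.1 y'.2.1 y'.2.2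
    exact ⟨⟨g, Subgroup.mem_centralizer_singleton_iff.mpr hga.eq⟩, Subtype.ext hgy⟩⟩
  set y0 : {y // y ∈ D ∧ ¬ Commute a y} := ⟨d, hd, hnc⟩
  have hstab : MulAction.stabilizer C y0 = (Subgroup.centralizer ({a, d} : Set G)).subgroupOf C := by
    ext g
    rw [MulAction.mem_stabilizer_iff, Subgroup.mem_subgroupOf]
    constructor
    · intro h
      rw [Subgroup.mem_centralizer_iff]
      rintro v (rfl | rfl)
      · exact (Subgroup.mem_centralizer_singleton_iff.mp g.2).symm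
      · exact (mul_inv_eq_iff_eq_mul.mp (congrArg Subtype.val h : (g : G) * v * (g : G)⁻¹ = v)).symm
    · intro h
      refine Subtype.ext ?_
      show (g : G) * d * (g : G)⁻¹ = d
      rw [← Subgroup.mem_centralizer_iff.mp h d (Set.mem_insert_of_mem _ rfl), mul_inv_cancel_right]
  have e1 := MulAction.index_stabilizer_of_transitive C y0
  have e2 := Subgroup.card_mul_index (MulAction.stabilizer C y0)
  rw [e1, hstab, Nat.card_congr (Subgroup.subgroupOfEquivOfLe (Subgroup.centralizer_le (by simp))).toEquiv,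
    show Nat.card {y // y ∈ D ∧ ¬ Commute a y} = 275264 by
      rw [← ncard_far hG hp h24 B ha]; exact Nat.card_coe_set_eq _,
    M24.card_centralizer hD hp h24.1 B ha] at e2
  omega

/-- The members inverting the product of a non-commuting pair. -/
theorem inverter_unique {a d y : G} (ha : a ∈ D) (hd : d ∈ D) (hnc : ¬ Commute a d) (hy : y ∈ D)
    (hyx : y * (a * d) * y = (a * d)⁻¹) : y = a ∨ y = d ∨ y = a * d * a := by
  have hD := cls_of_group_prim hG hp
  have h3 := pow_three hD.1 ha hd hnc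
  have h1 := prod_ne_one hD.1 ha hnc
  obtain ⟨z, hza, hzd⟩ : (Ds D a ∩ Ds D d).Nonempty :=
    Set.nonempty_of_ncard_ne_zero (by rw [(M24.params hD hp B).2 a ha d hd hnc]; norm_num)
  have hzy : Commute z y := inverter_commutes hD.1 h3 h1 hza.1 hy (hza.2.2.symm.mul_right hzd.2.2.symm) hyx
  have hne : y ≠ z := fun e => by
    have hcx : Commute y (a * d) := e ▸ hza.2.2.symm.mul_right hzd.2.2.symm
    rw [hcx.eq, mul_assoc, mul_self hD.1 hy, mul_one] at hyx
    have h2 : (a * d) ^ 2 = 1 := by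
      rw [pow_two]; nth_rewrite 1 [hyx]; exact inv_mul_cancel _
    exact h1 (by rw [pow_succ, h2, one_mul] at h3; exact h3)
  obtain ⟨g, hg, hin⟩ := M24.to_base hD B hza.1
  have ha' := hin (b := a) ⟨ha, hza.2.1.symm, hza.2.2.symm⟩
  have hd' := hin (b := d) ⟨hd, hzd.2.1.symm, hzd.2.2.symm⟩
  have hy' := hin (b := y) ⟨hy, hne, hzy⟩
  set a' := g⁻¹ * a * g⁻¹⁻¹ with hadef
  set d' := g⁻¹ * d * g⁻¹⁻¹ with hddef
  set y' := g⁻¹ * y * g⁻¹⁻¹ with hydef
  have hn' : ¬ Commute a' d' := fun q => hnc ((commute_cj_iff g⁻¹).mp q)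
  have hbn : ¬ Commute (bar D B.t a') (bar D B.t d') := fun q => hn' ((M24.bar_commute hD B ha' hd').mp q)
  have hH : ∀ {v : G}, v ∈ Ds D B.t → v ∈ Hs D B.t := fun hv => Subgroup.subset_closure hv
  have hcg := cls_group B.cls
  have hinv : bar D B.t y' * (bar D B.t a' * bar D B.t d') * bar D B.t y' = (bar D B.t a' * bar D B.t d')⁻¹ := by
    rw [mul_inv_rev, inv_self B.cls.1 (M24.bar_mem hD B ha'), inv_self B.cls.1 (M24.bar_mem hD B hd'),
      ← M24.bar_mul hD B (hH ha') (hH hd'), ← M24.bar_mul hD B (hH hd') (hH ha'),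
      ← M24.bar_mul hD B (hH hy') (mul_mem (hH ha') (hH hd')),
      ← M24.bar_mul hD B (mul_mem (hH hy') (mul_mem (hH ha') (hH hd'))) (hH hy')]
    congr 1
    rw [mul_inv_rev, inv_self hD.1 ha, inv_self hD.1 hd] at hyx
    calc y' * (a' * d') * y' = g⁻¹ * (y * (a * d) * y) * g⁻¹⁻¹ := by rw [hadef, hddef, hydef]; group
      _ = d' * a' := by rw [hyx, hadef, hddef]; group
  rcases M23.ThreeA.inverter_unique hcg B.prim B.ty B.inner (M24.bar_mem hD B ha') (M24.bar_mem hD B hd') hbn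
    (M24.bar_mem hD B hy') hinv with p | p | p
  · exact Or.inl (cj_injective g⁻¹ (M24.bar_inj hD B hy' ha' p))
  · exact Or.inr (Or.inl (cj_injective g⁻¹ (M24.bar_inj hD B hy' hd' p)))
  · refine Or.inr (Or.inr (cj_injective g⁻¹ ?_))
    have he' : a' * d' * a' ∈ Ds D B.t := by
      refine ⟨(M22.third hD ha'.1 hd'.1 hn').1, fun e => ?_, (ha'.2.2.mul_right hd'.2.2).mul_right ha'.2.2⟩
      apply hd'.2.1
      have aa := mul_self hD.1 ha'.1
      calc d' = a' * (a' * d' * a') * a' := by simp only [mul_assoc, mul_mul_cancel_self aa, aa, mul_one]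
        _ = B.t := by rw [e, ← ha'.2.2.eq, mul_assoc, aa, mul_one]
    rw [← M24.bar_mul hD B (hH ha') (hH hd'), ← M24.bar_mul hD B (mul_mem (hH ha') (hH hd')) (hH ha')] at p
    have e := M24.bar_inj hD B hy' he' p
    show y' = g⁻¹ * (a * d * a) * g⁻¹⁻¹
    rw [e, hadef, hddef]
    group

theorem cent_prod {a d z : G} (ha : a ∈ D) (hd : d ∈ D) (hnc : ¬ Commute a d) (hz : z ∈ D) :
    Commute z (a * d) ↔ z ∈ Ds D a ∩ Ds D d := by
  have hD := cls_of_group_prim hG hp
  refine ⟨fun h => ?_, fun h => h.1.2.2.symm.mul_right h.2.2.2.symm⟩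
  have h3 := pow_three hD.1 ha hd hnc
  have h1 := prod_ne_one hD.1 ha hnc
  have ca := inverter_commutes hD.1 h3 h1 hz ha h (inverts hD.1 ha hd).1
  have cd := inverter_commutes hD.1 h3 h1 hz hd h (inverts hD.1 ha hd).2
  exact ⟨⟨hz, fun e => hnc (e ▸ cd), ca.symm⟩, ⟨hz, fun e => hnc (e ▸ ca).symm, cd.symm⟩⟩

/-- Conjugation is transitive on ordered non-commuting pairs. -/
theorem far_conj {a d a' d' : G} (ha : a ∈ D) (hd : d ∈ D) (hnc : ¬ Commute a d) (ha' : a' ∈ D) (hd' : d' ∈ D)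
    (hnc' : ¬ Commute a' d') : ∃ g : G, g * a * g⁻¹ = a' ∧ g * d * g⁻¹ = d' := by
  have hD := cls_of_group_prim hG hp
  obtain ⟨k, hk⟩ := cls_exists_conj hD ha ha'
  obtain ⟨l, hla, hld⟩ := rank_three_far hD hp (M24.has_pair hD B) ha' (k * d * k⁻¹) (cls_conj hD k hd)
    (fun h => hnc ((commute_cj_iff k).mp (hk.symm ▸ h))) d' hd' hnc'
  exact ⟨l * k, by rw [← cj_cj, hk, hla.eq, mul_inv_cancel_right], by rw [← cj_cj, hld]⟩

/-- The common centraliser of a non-commuting pair. -/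
theorem model {a d : G} (ha : a ∈ D) (hd : d ∈ D) (hnc : ¬ Commute a d) :
    Subgroup.closure (Ds D a ∩ Ds D d) = Subgroup.centralizer ({a, d} : Set G) ∧
      Nonempty (↥(generalizedFittingSubgroup ↥(Subgroup.centralizer ({a, d} : Set G))) ≃*
        Cfsg.POmega (ZMod 3) (Cfsg.quadFormPlus 4 (ZMod 3))) ∧
      ∃ _ : (generalizedFittingSubgroup ↥(Subgroup.centralizer ({a, d} : Set G))).Normal,
        Nonempty (↥(Subgroup.centralizer ({a, d} : Set G)) ⧸
          generalizedFittingSubgroup ↥(Subgroup.centralizer ({a, d} : Set G)) ≃* Equiv.Perm (Fin 3)) := by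
  classical
  have hD := cls_of_group_prim hG hp
  obtain ⟨-, d₀, hd₀, c₀, hc₀, hdc, -, hloc⟩ := id h24
  set L := Subgroup.closure (Ds D d₀ ∩ Ds D c₀) with hLdef
  obtain ⟨N, hN, ⟨eN⟩, ⟨eq⟩⟩ : ∃ (N : Subgroup (↥L ⧸ Subgroup.center ↥L)) (_ : N.Normal),
      Nonempty (N ≃* Cfsg.POmega (ZMod 3) (Cfsg.quadFormPlus 4 (ZMod 3))) ∧
      Nonempty ((↥L ⧸ Subgroup.center ↥L) ⧸ N ≃* Equiv.Perm (Fin 3)) := hloc
  haveI := hN
  have hcardP : Nat.card (Cfsg.POmega (ZMod 3) (Cfsg.quadFormPlus 4 (ZMod 3))) = 4952179814400 := by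
    have h := Cfsg.Agent.S0293.result (F := ZMod 3) (q := 3) (ZMod.card 3) 4 le_rfl
    norm_num [Finset.prod_range_succ] at h
    rw [Nat.card_eq_fintype_card]
    omega
  have hcq : Nat.card (↥L ⧸ Subgroup.center ↥L) = 29713078886400 := by
    rw [Subgroup.card_eq_card_quotient_mul_card_subgroup N, Nat.card_congr eq.toEquiv, Nat.card_congr eN.toEquiv,
      hcardP, Nat.card_perm, Nat.card_fin]
    rfl
  obtain ⟨g, g1, g2⟩ := far_conj hG hp h24 B hd₀ hc₀ hdc ha hd hnc
  set C := Subgroup.centralizer ({a, d} : Set G) with hCdef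
  set K := Subgroup.closure (Ds D a ∩ Ds D d) with hKdef
  have hmap : L.map (MulAut.conj g).toMonoidHom = K := by
    rw [MonoidHom.map_closure]
    refine congrArg Subgroup.closure ?_
    show (fun z => g * z * g⁻¹) '' _ = _
    rw [Set.image_inter (cj_injective g), cj_Ds hD, cj_Ds hD, g1, g2]
  have hle : K ≤ C := (Subgroup.closure_le _).mpr fun z hz =>
    Subgroup.mem_centralizer_iff.mpr (by rintro v (rfl | rfl); exacts [hz.1.2.2.eq, hz.2.2.2.eq])
  let eK : L ≃* K := (L.equivMapOfInjective _ (MulAut.conj g).injective).trans (MulEquiv.subgroupCongr hmap)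
  have hKC := Subgroup.card_le_of_le hle
  rw [card_cent hG hp h24 B ha hd hnc, ← Nat.card_congr eK.toEquiv,
    Subgroup.card_eq_card_quotient_mul_card_subgroup (Subgroup.center L), hcq] at hKC
  have hz : Nat.card (Subgroup.center L) = 1 := by
    have hpos : 0 < Nat.card (Subgroup.center L) := Nat.card_pos
    omega
  have hbot : Subgroup.center L = ⊥ := Subgroup.eq_bot_of_card_eq _ hz
  have hKeq : K = C := by
    refine Subgroup.eq_of_le_of_card_ge hle ?_
    rw [card_cent hG hp h24 B ha hd hnc, ← Nat.card_congr eK.toEquiv,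
      Subgroup.card_eq_card_quotient_mul_card_subgroup (Subgroup.center L), hz, mul_one, hcq]
  refine ⟨hKeq, ?_⟩
  let eC : ↥C ≃* ↥L ⧸ Subgroup.center ↥L := (MulEquiv.subgroupCongr hKeq.symm).trans
    (eK.symm.trans (QuotientGroup.quotientBot.symm.trans (QuotientGroup.quotientMulEquivOfEq hbot.symm)))
  let π : ↥C →* Equiv.Perm (Fin 3) := eq.toMonoidHom.comp ((QuotientGroup.mk' N).comp eC.toMonoidHom)
  have hπ : Function.Surjective π := eq.surjective.comp ((QuotientGroup.mk'_surjective N).comp eC.surjective)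
  have hker : π.ker = N.comap eC.toMonoidHom := by
    ext v
    rw [MonoidHom.mem_ker, Subgroup.mem_comap]
    exact (map_eq_one_iff eq eq.injective).trans (QuotientGroup.eq_one_iff _)
  have hmk : π.ker.map eC.toMonoidHom = N := by rw [hker, Subgroup.map_comap_eq_self_of_surjective eC.surjective]
  let ek : ↥π.ker ≃* Cfsg.POmega (ZMod 3) (Cfsg.quadFormPlus 4 (ZMod 3)) :=
    (π.ker.equivMapOfInjective eC.toMonoidHom eC.injective).trans ((MulEquiv.subgroupCongr hmk).trans eN)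
  haveI : IsSimpleGroup (Cfsg.POmega (ZMod 3) (Cfsg.quadFormPlus 4 (ZMod 3))) :=
    Cfsg.Agent.S0296.result (F := ZMod 3) 4 le_rfl
  haveI : Nontrivial ↥π.ker := ek.toEquiv.nontrivial
  haveI : IsSimpleGroup ↥π.ker := IsSimpleGroup.isSimpleGroup_of_surjective (f := ek.symm.toMonoidHom) ek.symm.surjective
  have hncm : ∃ u v : π.ker, u * v ≠ v * u := by
    by_contra! hall
    letI : CommGroup ↥π.ker := { (inferInstance : Group ↥π.ker) with mul_comm := hall }
    have hp' := IsSimpleGroup.prime_card (α := ↥π.ker)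
    rw [Nat.card_congr ek.toEquiv, hcardP] at hp'
    norm_num at hp'
  set W : Set ↥C := {w | (w : G) ∈ Ds D a ∩ Ds D d}
  have himg : Subtype.val '' W = Ds D a ∩ Ds D d :=
    Set.Subset.antisymm (by rintro _ ⟨w, hw, rfl⟩; exact hw) fun w hw => ⟨⟨w, hle (Subgroup.subset_closure hw)⟩, hw, rfl⟩
  have hcent : Subgroup.centralizer (π.ker : Set ↥C) = ⊥ := by
    refine cent_bot π hπ hncm W (fun w hw => Subtype.ext (mul_self hD.1 hw.1.1)) ?_ ?_ ?_ ?_ ?_
    · intro g w hw
      have hga := Subgroup.mem_centralizer_iff.mp g.2 a (Set.mem_insert _ _)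
      have hgd := Subgroup.mem_centralizer_iff.mp g.2 d (Set.mem_insert_of_mem _ rfl)
      have h1 : (g : G) * (w : G) * (g : G)⁻¹ ∈ (fun z => (g : G) * z * (g : G)⁻¹) '' (Ds D a ∩ Ds D d) :=
        ⟨_, hw, rfl⟩
      rw [Set.image_inter (cj_injective _), cj_Ds hD, cj_Ds hD, ← hga, ← hgd, mul_inv_cancel_right,
        mul_inv_cancel_right] at h1
      exact h1
    · intro v hv w hw hn
      exact Subtype.ext (by
        rw [SubmonoidClass.coe_pow, Subgroup.coe_mul]
        exact pow_three hD.1 hv.1.1 hw.1.1 fun q => hn (Subtype.ext q.eq))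
    · refine Subgroup.map_injective C.subtype_injective ?_
      rw [MonoidHom.map_closure, ← MonoidHom.range_eq_map, Subgroup.range_subtype]
      exact (congrArg Subgroup.closure himg).trans hKeq
    · rw [← Set.ncard_image_of_injective W Subtype.val_injective, himg, (M24.params hD hp B).2 a ha d hd hnc]
    · intro z hz
      have e : Subtype.val '' {w | w ∈ W ∧ w ≠ z ∧ Commute z w} = Ds D (z : G) ∩ Ds D a ∩ Ds D d := by
        ext v
        constructor
        · rintro ⟨w, ⟨hw, hne, hc⟩, rfl⟩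
          exact ⟨⟨⟨hw.1.1, fun q => hne (Subtype.ext q), congrArg Subtype.val hc.eq⟩, hw.1⟩, hw.2⟩
        · rintro ⟨⟨h1, h2⟩, h3⟩
          exact ⟨⟨v, hle (Subgroup.subset_closure ⟨h2, h3⟩)⟩, ⟨⟨h2, h3⟩, fun q => h1.2.1 (congrArg Subtype.val q),
            Subtype.ext h1.2.2.eq⟩, rfl⟩
      rw [← Set.ncard_image_of_injective _ Subtype.val_injective, e]
      exact (M24.ncard_three hD B hz.1.1 (b := a) (c := d) ⟨ha, fun q => hz.1.2.1 q.symm, hz.1.2.2.symm⟩
        ⟨hd, fun q => hz.2.2.1 q.symm, hz.2.2.2.symm⟩).1 hnc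
  have hF : generalizedFittingSubgroup ↥C = π.ker := gfit_eq_of_simple π.ker hncm hcent
  refine ⟨⟨(MulEquiv.subgroupCongr hF).trans ek⟩, inferInstance,
    ⟨(QuotientGroup.quotientMulEquivOfEq hF).trans (QuotientGroup.quotientKerEquivOfSurjective π hπ)⟩⟩

/-- The width of the common partners of a non-commuting pair. -/
theorem width {a d : G} (ha : a ∈ D) (hd : d ∈ D) (hnc : ¬ Commute a d) :
    commutingWidth (Ds D a ∩ Ds D d) = 8 := by
  classical
  have hD := cls_of_group_prim hG hp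
  -- the picture at one common partner
  have near : ∀ z ∈ Ds D a ∩ Ds D d, ∃ (g : G) (a' d' : G), g * B.t * g⁻¹ = z ∧ a' ∈ Ds D B.t ∧ d' ∈ Ds D B.t ∧
      g * a' * g⁻¹ = a ∧ g * d' * g⁻¹ = d ∧ ¬ Commute (bar D B.t a') (bar D B.t d') := by
    intro z hz
    obtain ⟨g, hg, hin⟩ := M24.to_base hD B hz.1.1
    have ha' := hin (b := a) ⟨ha, hz.1.2.1.symm, hz.1.2.2.symm⟩
    have hd' := hin (b := d) ⟨hd, hz.2.2.1.symm, hz.2.2.2.symm⟩
    exact ⟨g, _, _, hg, ha', hd', cj_inv g a, cj_inv g d, fun q =>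
      hnc ((commute_cj_iff g⁻¹).mp ((M24.bar_commute hD B ha' hd').mp q))⟩
  have hseven := fun (a' d' : G) (h1 : a' ∈ Ds D B.t) (h2 : d' ∈ Ds D B.t)
      (h3 : ¬ Commute (bar D B.t a') (bar D B.t d')) =>
    M23.ThreeA.width (cls_group B.cls) B.prim B.ty B.inner (M24.bar_mem hD B h1) (M24.bar_mem hD B h2) h3
  refine IsGreatest.csSup_eq ⟨?_, ?_⟩
  · obtain ⟨z, hz⟩ : (Ds D a ∩ Ds D d).Nonempty :=
      Set.nonempty_of_ncard_ne_zero (by rw [(M24.params hD hp B).2 a ha d hd hnc]; norm_num)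
    obtain ⟨g, a', d', hg, ha', hd', ga, gd, hn⟩ := near z hz
    have hw := hseven a' d' ha' hd' hn
    obtain ⟨E, hE, -, hEc, hEn⟩ : (7 : ℕ) ∈ {n : ℕ | ∃ E : Set (Qt D B.t),
        E ⊆ Ds (Et D B.t) (bar D B.t a') ∩ Ds (Et D B.t) (bar D B.t d') ∧ E.Finite ∧
          (∀ x ∈ E, ∀ y ∈ E, Commute x y) ∧ E.ncard = n} := by
      rw [← hw]
      refine Nat.sSup_mem ⟨0, ∅, Set.empty_subset _, Set.finite_empty, by simp, by simp⟩ ⟨Nat.card (Qt D B.t), ?_⟩
      rintro n ⟨E, -, -, -, rfl⟩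
      rw [← Set.ncard_univ]
      exact Set.ncard_le_ncard (Set.subset_univ E)
    set S := {x | x ∈ Ds D B.t ∧ bar D B.t x ∈ E}
    have hS : bar D B.t '' S = E := by
      ext q
      refine ⟨by rintro ⟨x, hx, rfl⟩; exact hx.2, fun hq => ?_⟩
      obtain ⟨x, hx, rfl⟩ := (M24.bar_image hD B).ge (hE hq).1.1
      exact ⟨x, ⟨hx, hq⟩, rfl⟩
    have hSn : S.ncard = 7 := by
      rw [← hEn, ← hS, ((M24.bar_inj hD B).mono fun x hx => hx.1).ncard_image]
    set T := (fun y => g * y * g⁻¹) '' S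
    have hTsub : ∀ y ∈ T, y ∈ Ds D a ∩ Ds D d ∧ y ∈ Ds D z := by
      rintro _ ⟨x, hx, rfl⟩
      have hxe := hE hx.2
      have h1 : x ∈ Ds D a' := ⟨hx.1.1, fun q => hxe.1.2.1 (by rw [q]), (M24.bar_commute hD B ha' hx.1).mp hxe.1.2.2⟩
      have h2 : x ∈ Ds D d' := ⟨hx.1.1, fun q => hxe.2.2.1 (by rw [q]), (M24.bar_commute hD B hd' hx.1).mp hxe.2.2.2⟩
      refine ⟨⟨?_, ?_⟩, ?_⟩
      · rw [← ga, ← cj_Ds hD]; exact ⟨x, h1, rfl⟩
      · rw [← gd, ← cj_Ds hD]; exact ⟨x, h2, rfl⟩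
      · rw [← hg, ← cj_Ds hD]; exact ⟨x, hx.1, rfl⟩
    refine ⟨insert z T, Set.insert_subset hz fun y hy => (hTsub y hy).1, Set.toFinite _, ?_, ?_⟩
    · rintro x (rfl | hx) y (rfl | hy)
      · exact Commute.refl _
      · exact (hTsub y hy).2.2.2
      · exact (hTsub x hx).2.2.2.symm
      · obtain ⟨x', hx', rfl⟩ := hx
        obtain ⟨y', hy', rfl⟩ := hy
        exact (commute_cj_iff g).mpr ((M24.bar_commute hD B hx'.1 hy'.1).mp (hEc _ hx'.2 _ hy'.2))
    · rw [Set.ncard_insert_of_notMem (fun q => (hTsub z q).2.2.1 rfl), Set.ncard_image_of_injective _ (cj_injective g), hSn]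
  · rintro n ⟨C, hC, -, hc, rfl⟩
    rcases C.eq_empty_or_nonempty with rfl | ⟨z, hz⟩
    · simp
    obtain ⟨g, a', d', hg, ha', hd', ga, gd, hn⟩ := near z (hC hz)
    have hw := hseven a' d' ha' hd' hn
    set S := {x | g * x * g⁻¹ ∈ C \ {z}}
    have hS : ∀ x ∈ S, x ∈ Ds D B.t ∧ x ∈ Ds D a' ∧ x ∈ Ds D d' := by
      intro x hx
      have key : ∀ p : G, g * x * g⁻¹ ∈ Ds D (g * p * g⁻¹) → x ∈ Ds D p := fun p h => by
        rw [← cj_Ds hD] at h
        obtain ⟨x', hx', e⟩ := h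
        exact cj_injective g e ▸ hx'
      refine ⟨key _ ?_, key _ (ga.symm ▸ (hC hx.1).1), key _ (gd.symm ▸ (hC hx.1).2)⟩
      rw [hg]
      exact ⟨(hC hx.1).1.1, hx.2, hc z hz _ hx.1⟩
    have hle : S.ncard ≤ 7 := by
      rw [← hw]
      refine le_csSup ⟨Nat.card (Qt D B.t), ?_⟩ ⟨bar D B.t '' S, ?_, Set.toFinite _, ?_,
        ((M24.bar_inj hD B).mono fun x hx => (hS x hx).1).ncard_image⟩
      · rintro n ⟨E, -, -, -, rfl⟩
        rw [← Set.ncard_univ]
        exact Set.ncard_le_ncard (Set.subset_univ E)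
      · rintro _ ⟨x, hx, rfl⟩
        obtain ⟨h0, h1, h2⟩ := hS x hx
        exact ⟨(M24.bar_Ds hD B ha').le ⟨x, ⟨h0, h1⟩, rfl⟩, (M24.bar_Ds hD B hd').le ⟨x, ⟨h0, h2⟩, rfl⟩⟩
      · rintro _ ⟨x, hx, rfl⟩ _ ⟨y, hy, rfl⟩
        exact (M24.bar_commute hD B (hS x hx).1 (hS y hy).1).mpr ((commute_cj_iff g).mp (hc _ hx.1 _ hy.1))
    have hcard : S.ncard + 1 = C.ncard := by
      rw [show S = (fun x => g⁻¹ * x * g⁻¹⁻¹) '' (C \ {z}) from ?_, Set.ncard_image_of_injective _ (cj_injective g⁻¹),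
        Set.ncard_sdiff_singleton_add_one hz]
      ext x
      constructor
      · intro hx; exact ⟨_, hx, by group⟩
      · rintro ⟨y, hy, rfl⟩
        show g * (g⁻¹ * y * g⁻¹⁻¹) * g⁻¹ ∈ C \ {z}
        rw [cj_inv]; exact hy
    omega

end

end CfsgThreeTrans.M24.ThreeA
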