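/-
Type M(24): subgroups of order three centralised by six commuting transpositions, not products of a pair.
-/
import Cfsg.Agent.Lib.ThreeTrans.M23.WidthOne
import Cfsg.Agent.Lib.ThreeTrans.M24.ThreeA

set_option autoImplicit false
set_option maxRecDepth 100000
set_option linter.unusedSectionVars false

namespace CfsgThreeTrans.M24.WidthSix

open Cfsg CfsgLib CfsgThreeTrans CfsgThreeTrans.M22
open CfsgThreeTrans.M23 (Hs Qt qt Et bar bar_eq)

universe u

variable {G : Type u} [Group G] [Finite G] {D : Set G}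

/-- Six commuting members centralising an element. -/
def Six (D : Set G) (x : G) : Prop :=
  ∃ E : Set G, E ⊆ D ∧ E.ncard = 6 ∧ (∀ a ∈ E, ∀ b ∈ E, Commute a b) ∧ ∀ a ∈ E, Commute a x

/-- A product of two non-commuting members. -/
def Pr (D : Set G) (x : G) : Prop := ∃ t ∈ D, ∃ s ∈ D, ¬ Commute t s ∧ t * s = x

theorem width_ge {S : Set G} {E : Set G} (hE : E ⊆ S) (hc : ∀ a ∈ E, ∀ b ∈ E, Commute a b) :
    E.ncard ≤ Cfsg.commutingWidth S :=
  le_csSup ⟨Nat.card G, by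
    rintro n ⟨F, -, -, -, rfl⟩
    exact (Set.ncard_le_ncard (Set.subset_univ F)).trans_eq (Set.ncard_univ G)⟩ ⟨E, hE, Set.toFinite E, hc, rfl⟩

theorem mem_cent {x d : G} (h : Commute d x) : d ∈ Subgroup.centralizer ((Subgroup.zpowers x : Subgroup G) : Set G) :=
  Subgroup.mem_centralizer_iff.mpr fun y hy => by
    obtain ⟨n, rfl⟩ := Subgroup.mem_zpowers_iff.mp hy
    exact (h.zpow_right n).eq.symm

section
variable (hG : IsThreeTranspositionGroup D) (hp : IsPrimitiveUnderConj D) (h24 : IsOfTypeM24 G D)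
include hG hp h24

theorem bar_order (B : Base D) {x : G} (hx : x ∈ Hs D B.t) (h3 : orderOf x = 3) : orderOf (bar D B.t x) = 3 := by
  have hD := cls_of_group_prim hG hp
  refine orderOf_eq_prime ?_ fun q => ?_
  · rw [show x = ((⟨x, hx⟩ : ↥(Hs D B.t)) : G) from rfl, bar_eq, ← map_pow,
      show (⟨x, hx⟩ : ↥(Hs D B.t)) ^ 3 = 1 from Subtype.ext (by
        show x ^ 3 = 1
        rw [← h3, pow_orderOf_eq_one]), map_one]
  · rcases M24.ker_cases hD hp h24.1 B hx q with k | k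
    · rw [k, orderOf_one] at h3; omega
    · have : orderOf x ∣ 2 := orderOf_dvd_of_pow_eq_one (by rw [k, pow_two]; exact mul_self hD.1 B.ht)
      rw [h3] at this; omega

/-- Conjugacy lifts from the quotient of the centraliser of the base. -/
theorem lift_conj (B : Base D) {x y : G} (hx : x ∈ Hs D B.t) (hy : y ∈ Hs D B.t) (hx3 : orderOf x = 3)
    (hy3 : orderOf y = 3) (h : ∃ k : Qt D B.t, (Subgroup.zpowers (bar D B.t x)).map (MulAut.conj k).toMonoidHom =
      Subgroup.zpowers (bar D B.t y)) :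
    ∃ g : G, (Subgroup.zpowers x).map (MulAut.conj g).toMonoidHom = Subgroup.zpowers y := by
  have hD := cls_of_group_prim hG hp
  obtain ⟨k, hk⟩ := h
  obtain ⟨u, hu⟩ := QuotientGroup.mk'_surjective _ k
  set z : G := (u : G) * x * (u : G)⁻¹ with hzdef
  have hz : z ∈ Hs D B.t := mul_mem (mul_mem u.2 hx) (inv_mem u.2)
  have hz3 : orderOf z = 3 := by rw [← hx3]; exact MulEquiv.orderOf_eq (MulAut.conj (u : G)) x
  have hbz : bar D B.t z ∈ Subgroup.zpowers (bar D B.t y) := by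
    rw [← hk]
    refine ⟨bar D B.t x, Subgroup.mem_zpowers _, ?_⟩
    show k * bar D B.t x * k⁻¹ = _
    rw [show z = ((u * ⟨x, hx⟩ * u⁻¹ : ↥(Hs D B.t)) : G) from rfl, bar_eq, map_mul, map_mul, map_inv, ← hu,
      show bar D B.t x = bar D B.t ((⟨x, hx⟩ : ↥(Hs D B.t)) : G) from rfl, bar_eq]
  obtain ⟨n, hn⟩ := Subgroup.mem_zpowers_iff.mp hbz
  have hbn : bar D B.t z = bar D B.t (y ^ n) := by
    rw [← hn, show y ^ n = (((⟨y, hy⟩ : ↥(Hs D B.t)) ^ n : ↥(Hs D B.t)) : G) by simp, bar_eq, map_zpow, ← bar_eq]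
  have hzy : z ∈ Subgroup.zpowers y := by
    rcases M24.bar_eq_cases hD hp h24.1 B hz (zpow_mem hy n) hbn with q | q
    · exact Subgroup.mem_zpowers_iff.mpr ⟨n, q.symm⟩
    · exfalso
      have hc : Commute (y ^ n) B.t := (closure_Ds_commute hy).zpow_left n
      have hy3' : (y ^ n) ^ 3 = 1 := by
        rw [← zpow_natCast, ← zpow_mul, mul_comm, zpow_mul, zpow_natCast, ← hy3, pow_orderOf_eq_one, one_zpow]
      have h1 : z ^ 3 = B.t := by
        rw [q, hc.mul_pow, hy3', one_mul, pow_succ, pow_two, mul_self hD.1 B.ht, one_mul]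
      rw [← hz3, pow_orderOf_eq_one] at h1
      have := hD.1.1 B.t B.ht
      rw [← h1, orderOf_one] at this
      omega
  refine ⟨(u : G), ?_⟩
  rw [MonoidHom.map_zpowers]
  exact Subgroup.eq_of_le_of_card_ge (Subgroup.zpowers_le.mpr hzy)
    (by rw [Nat.card_zpowers, Nat.card_zpowers, hy3, show orderOf ((MulAut.conj (u : G)).toMonoidHom x) = 3 from hz3])

set_option maxHeartbeats 400000 in
/-- At the base, the image has width five in type M(23). -/
theorem width_five (B : Base D) {x : G} (hx : x ∈ Hs D B.t) (h3 : orderOf x = 3) {E : Set G} (hE : E ⊆ D)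
    (hn : E.ncard = 6) (hc : ∀ a ∈ E, ∀ b ∈ E, Commute a b) (hxE : ∀ a ∈ E, Commute a x) (ht : B.t ∈ E)
    (hP : ¬ Pr D x ∧ ¬ Pr D x⁻¹) :
    Cfsg.commutingWidth (Et D B.t ∩
      (Subgroup.centralizer ((Subgroup.zpowers (bar D B.t x) : Subgroup (Qt D B.t)) : Set (Qt D B.t)) : Set (Qt D B.t))) = 5 := by
  classical
  have hD := cls_of_group_prim hG hp
  have hGe := cls_group B.cls
  set w := Cfsg.commutingWidth (Et D B.t ∩
      (Subgroup.centralizer ((Subgroup.zpowers (bar D B.t x) : Subgroup (Qt D B.t)) : Set (Qt D B.t)) : Set (Qt D B.t)))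
  have hEsub : E \ {B.t} ⊆ Ds D B.t := fun a ha => ⟨hE ha.1, fun e => ha.2 e, hc _ ht _ ha.1⟩
  have h5 : 5 ≤ w := by
    have hcard : (bar D B.t '' (E \ {B.t})).ncard = 5 := by
      rw [((M24.bar_inj hD B).mono hEsub).ncard_image, Set.ncard_sdiff_singleton_of_mem ht, hn]
    rw [← hcard]
    refine width_ge ?_ ?_
    · rintro _ ⟨a, ha, rfl⟩
      refine ⟨M24.bar_mem hD B (hEsub ha), mem_cent ?_⟩
      have haH : a ∈ Hs D B.t := Subgroup.subset_closure (hEsub ha)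
      show bar D B.t a * bar D B.t x = bar D B.t x * bar D B.t a
      rw [← M24.bar_mul hD B haH hx, ← M24.bar_mul hD B hx haH, (hxE a ha.1).eq]
    · rintro _ ⟨a, ha, rfl⟩ _ ⟨b, hb, rfl⟩
      exact (M24.bar_commute hD B (hEsub ha) (hEsub hb)).mpr (hc a ha.1 b hb.1)
  obtain ⟨Y, hY3, hYw⟩ := M23.exists_widths hGe B.prim B.ty
  obtain ⟨P, hPex, hPc⟩ := M23.four_invariant hGe B.prim B.ty
  have hconjw : ∀ {A A' : Subgroup (Qt D B.t)}, (∃ g : Qt D B.t, A.map (MulAut.conj g).toMonoidHom = A') →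
      Cfsg.commutingWidth (Et D B.t ∩ (Subgroup.centralizer (A' : Set (Qt D B.t)) : Set (Qt D B.t))) =
        Cfsg.commutingWidth (Et D B.t ∩ (Subgroup.centralizer (A : Set (Qt D B.t)) : Set (Qt D B.t))) := by
    rintro A A' ⟨g, rfl⟩
    exact M23.width_conj hGe B.prim B.ty g A
  choose f hf using fun i => hPex (Y i) (hY3 i)
  have hinj : Function.Injective f := fun i j e => by
    have h := hconjw (hPc _ _ (f i) (hf i) (e ▸ hf j))
    rw [hYw, hYw] at h
    exact ((by decide : ∀ i j : Fin 4, ([7, 5, 4, 1] : List ℕ).getD j 0 = ([7, 5, 4, 1] : List ℕ).getD i 0 → i = j) i j h)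
  have hX : Nat.card (Subgroup.zpowers (bar D B.t x)) = 3 := by
    rw [Nat.card_zpowers]; exact bar_order hG hp h24 B hx h3
  obtain ⟨k, hk⟩ := hPex _ hX
  obtain ⟨i, rfl⟩ := (Finite.injective_iff_surjective.mp hinj) k
  have hw : w = ([7, 5, 4, 1] : List ℕ).getD i 0 := (hconjw (hPc (Y i) _ (f i) (hf i) hk)).trans (hYw i)
  have h7 : w ≠ 7 := by
    intro e7
    obtain ⟨a, ha⟩ : (Ds D B.t).Nonempty := Set.nonempty_of_ncard_ne_zero (by rw [M24.ncard_partners hD B]; norm_num)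
    obtain ⟨b, hb, hab⟩ : ∃ b ∈ Ds D B.t, ¬ Commute a b := by
      obtain ⟨q, hq, hne⟩ := exists_noncommute B.cls B.prim.2.1 (M24.bar_mem hD B ha)
      rw [← M24.bar_image hD B] at hq
      obtain ⟨b, hb, rfl⟩ := hq
      exact ⟨b, hb, fun h => hne ((M24.bar_commute hD B ha hb).mpr h)⟩
    have habH : a * b ∈ Hs D B.t := mul_mem (Subgroup.subset_closure ha) (Subgroup.subset_closure hb)
    have hab3 : orderOf (a * b) = 3 :=
      orderOf_eq_prime (pow_three hD.1 ha.1 hb.1 hab) (M22.ThreeA.prod_ne_one hD.1 ha.1 hab)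
    have hnb : ¬ Commute (bar D B.t a) (bar D B.t b) := fun h => hab ((M24.bar_commute hD B ha hb).mp h)
    have hw7 : Cfsg.commutingWidth (Et D B.t ∩ (Subgroup.centralizer
        ((Subgroup.zpowers (bar D B.t (a * b)) : Subgroup (Qt D B.t)) : Set (Qt D B.t)) : Set (Qt D B.t))) = 7 := by
      have e : Et D B.t ∩ (Subgroup.centralizer
          ((Subgroup.zpowers (bar D B.t (a * b)) : Subgroup (Qt D B.t)) : Set (Qt D B.t)) : Set (Qt D B.t)) =
          Ds (Et D B.t) (bar D B.t a) ∩ Ds (Et D B.t) (bar D B.t b) := by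
        rw [M24.bar_mul hD B (Subgroup.subset_closure ha) (Subgroup.subset_closure hb)]
        ext z
        constructor
        · rintro ⟨hz, hc'⟩
          exact (M23.ThreeA.cent_prod hGe B.prim B.ty B.inner (M24.bar_mem hD B ha) (M24.bar_mem hD B hb) hnb hz).mp
            (Subgroup.mem_centralizer_iff.mp hc' _ (Subgroup.mem_zpowers _)).symm
        · intro h
          exact ⟨h.1.1, mem_cent
            ((M23.ThreeA.cent_prod hGe B.prim B.ty B.inner (M24.bar_mem hD B ha) (M24.bar_mem hD B hb) hnb h.1.1).mpr h)⟩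
      rw [e]
      exact M23.ThreeA.width hGe B.prim B.ty B.inner (M24.bar_mem hD B ha) (M24.bar_mem hD B hb) hnb
    obtain ⟨g, hg⟩ := lift_conj hG hp h24 B habH hx hab3 h3 (M23.WidthOne.conj_of_width hGe B.prim B.ty
      (by rw [Nat.card_zpowers]; exact bar_order hG hp h24 B habH hab3) hX (hw7.trans e7.symm))
    have hPg : Pr D (g * (a * b) * g⁻¹) :=
      ⟨_, cls_conj hD g ha.1, _, cls_conj hD g hb.1, fun q => hab ((commute_cj_iff g).mp q), by group⟩
    rw [MonoidHom.map_zpowers] at hg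
    have hmem : g * (a * b) * g⁻¹ ∈ Subgroup.zpowers x := by
      rw [← hg, show (MulAut.conj g).toMonoidHom (a * b) = g * (a * b) * g⁻¹ from rfl]
      exact Subgroup.mem_zpowers _
    obtain ⟨n, hn'⟩ := Subgroup.mem_zpowers_iff.mp hmem
    rw [← zpow_mod_orderOf, h3] at hn'
    rcases (show n % ((3 : ℕ) : ℤ) = 0 ∨ n % ((3 : ℕ) : ℤ) = 1 ∨ n % ((3 : ℕ) : ℤ) = 2 by omega) with q | q | q <;>
      rw [q] at hn'
    · rw [zpow_zero] at hn'
      exact M22.ThreeA.prod_ne_one hD.1 ha.1 hab (conj_eq_one_iff.mp hn'.symm)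
    · rw [zpow_one] at hn'; exact hP.1 (hn' ▸ hPg)
    · refine hP.2 ?_
      have h2 : x⁻¹ = x ^ (2 : ℤ) := inv_eq_of_mul_eq_one_right (by
        rw [zpow_ofNat, ← pow_succ', show 2 + 1 = orderOf x by rw [h3], pow_orderOf_eq_one])
      rw [h2, hn']; exact hPg
  rcases (by decide : ∀ i : Fin 4, ([7, 5, 4, 1] : List ℕ).getD i 0 = 7 ∨ ([7, 5, 4, 1] : List ℕ).getD i 0 ≤ 5) i with q | q <;>
    omega

/-- Two such subgroups are conjugate. -/
theorem conj_of_six {x y : G} (hx3 : orderOf x = 3) (hy3 : orderOf y = 3) (hx : Six D x) (hy : Six D y)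
    (hPx : ¬ Pr D x ∧ ¬ Pr D x⁻¹) (hPy : ¬ Pr D y ∧ ¬ Pr D y⁻¹) :
    ∃ g : G, (Subgroup.zpowers x).map (MulAut.conj g).toMonoidHom = Subgroup.zpowers y := by
  classical
  have hD := cls_of_group_prim hG hp
  obtain ⟨B⟩ := M24.exists_base hD hp h24
  have norm1 : ∀ {x : G}, orderOf x = 3 → Six D x → ¬ Pr D x ∧ ¬ Pr D x⁻¹ → ∃ g : G, g * x * g⁻¹ ∈ Hs D B.t ∧
      Cfsg.commutingWidth (Et D B.t ∩ (Subgroup.centralizer ((Subgroup.zpowers (bar D B.t (g * x * g⁻¹)) :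
        Subgroup (Qt D B.t)) : Set (Qt D B.t)) : Set (Qt D B.t))) = 5 := by
    intro x hx3 hx hP
    obtain ⟨E, hE, hn, hc, hxE⟩ := hx
    obtain ⟨d, hd⟩ : E.Nonempty := Set.nonempty_of_ncard_ne_zero (by omega)
    obtain ⟨g, hg⟩ := cls_exists_conj hD (hE hd) B.ht
    have hPr : ∀ {z : G}, Pr D (g * z * g⁻¹) → Pr D z := by
      rintro z ⟨t, ht, s, hs, hts, e⟩
      refine ⟨g⁻¹ * t * g⁻¹⁻¹, cls_conj hD _ ht, g⁻¹ * s * g⁻¹⁻¹, cls_conj hD _ hs,
        fun q => hts ((commute_cj_iff g⁻¹).mp q), ?_⟩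
      calc g⁻¹ * t * g⁻¹⁻¹ * (g⁻¹ * s * g⁻¹⁻¹) = g⁻¹ * (t * s) * g := by group
        _ = z := by rw [e]; group
    have hmem : g * x * g⁻¹ ∈ Hs D B.t := by
      rw [← M24.centralizer_eq hD hp h24.1 B B.ht, Subgroup.mem_centralizer_singleton_iff, ← hg]
      exact ((commute_cj_iff g).mpr (hxE d hd).symm).eq
    refine ⟨g, hmem, width_five hG hp h24 B hmem (by rw [← MulAut.conj_apply, MulEquiv.orderOf_eq, hx3])
      (E := (fun z => g * z * g⁻¹) '' E) ?_ ?_ ?_ ?_ ⟨d, hd, hg⟩ ⟨fun h => hP.1 (hPr h), fun h => hP.2 (hPr ?_)⟩⟩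
    · rintro _ ⟨a, ha, rfl⟩; exact cls_conj hD g (hE ha)
    · rw [Set.ncard_image_of_injective _ (cj_injective g), hn]
    · rintro _ ⟨a, ha, rfl⟩ _ ⟨b, hb, rfl⟩; exact (commute_cj_iff g).mpr (hc a ha b hb)
    · rintro _ ⟨a, ha, rfl⟩; exact (commute_cj_iff g).mpr (hxE a ha)
    · rwa [show g * x⁻¹ * g⁻¹ = (g * x * g⁻¹)⁻¹ by group]
  obtain ⟨g, hgm, hgw⟩ := norm1 hx3 hx hPx
  obtain ⟨k, hkm, hkw⟩ := norm1 hy3 hy hPy
  have o1 : orderOf (g * x * g⁻¹) = 3 := by rw [← MulAut.conj_apply, MulEquiv.orderOf_eq, hx3]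
  have o2 : orderOf (k * y * k⁻¹) = 3 := by rw [← MulAut.conj_apply, MulEquiv.orderOf_eq, hy3]
  obtain ⟨u, hu⟩ := lift_conj hG hp h24 B hgm hkm o1 o2 (M23.WidthOne.conj_of_width (cls_group B.cls) B.prim B.ty
    (by rw [Nat.card_zpowers]; exact bar_order hG hp h24 B hgm o1)
    (by rw [Nat.card_zpowers]; exact bar_order hG hp h24 B hkm o2) (hgw.trans hkw.symm))
  refine ⟨k⁻¹ * u * g, ?_⟩
  rw [MonoidHom.map_zpowers] at hu ⊢
  have h := congrArg (Subgroup.map (MulAut.conj k⁻¹).toMonoidHom) hu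
  rw [MonoidHom.map_zpowers, MonoidHom.map_zpowers] at h
  simpa [mul_assoc] using h

end

end CfsgThreeTrans.M24.WidthSix
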