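/-
The centraliser of two commuting transpositions in type M(24) over the Fischer group of degree 3510.
-/
import Cfsg.Agent.Lib.ThreeTrans.M24.TripleCentraliser
import Cfsg.Agent.Lib.ThreeTrans.M23.Facts
import Cfsg.Agent.Lib.ThreeTrans.M22.Unique.Iso

set_option autoImplicit false
set_option linter.unusedSectionVars false

namespace CfsgThreeTrans.M24

open Cfsg CfsgLib CfsgThreeTrans.M22
open CfsgThreeTrans.M23 (Hs Qt qt Et bar bar_eq)
open scoped commutatorElement

universe u

variable {G : Type u} [Group G] [Finite G] {D : Set G}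

/-- The partner quotients at two transpositions are isomorphic. -/
theorem quot_at (hD : IsThreeTranspositionClass D) {d : G} (m : G) :
    Nonempty (Qt D (m * d * m⁻¹) ≃* Qt D d) := by
  have hmap : (Hs D d).map (MulAut.conj m).toMonoidHom = Hs D (m * d * m⁻¹) := by
    show (Subgroup.closure (Ds D d)).map _ = Subgroup.closure _
    rw [MonoidHom.map_closure, ← cj_Ds hD]
    rfl
  let e := ((MulAut.conj m).subgroupMap (Hs D d)).trans (MulEquiv.subgroupCongr hmap)
  exact ⟨(QuotientGroup.congr (Subgroup.center ↥(Hs D d)) (Subgroup.center ↥(Hs D (m * d * m⁻¹))) e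
    (by
      ext x
      constructor
      · rintro ⟨y, hy, rfl⟩
        refine Subgroup.mem_center_iff.mpr fun z => ?_
        obtain ⟨z, rfl⟩ := e.surjective z
        show e z * e y = e y * e z
        rw [← map_mul, ← map_mul, Subgroup.mem_center_iff.mp hy z]
      · intro hx
        refine ⟨e.symm x, Subgroup.mem_center_iff.mpr fun z => e.injective ?_, e.apply_symm_apply x⟩
        rw [map_mul, map_mul, e.apply_symm_apply, Subgroup.mem_center_iff.mp hx])).symm⟩

section
variable (hD : IsThreeTranspositionClass D) (hp : IsPrimitiveUnderConj D)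
  (hZ : Subgroup.center G = ⊥) (B : Base D)

/-- The simple group on which the centraliser of the pair acts. -/
abbrev F22 : Type := CfsgLib.CosetEnum.presFi22.Grp

include hD hp hZ B

/-- The projection for the base member and any partner. -/
theorem base_proj {b : G} (hb : b ∈ Ds D B.t) :
    ∃ χ : ↥(Subgroup.centralizer ({B.t, b} : Set G)) →* F22, Function.Surjective χ ∧
      (∀ k, χ k = 1 ↔ (k : G) ∈ ({1, B.t, b, B.t * b} : Set G)) ∧
      B.t * b ∈ ⁅Subgroup.centralizer ({B.t, b} : Set G), Subgroup.centralizer ({B.t, b} : Set G)⁆ := by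
  classical
  set K := Subgroup.centralizer ({B.t, b} : Set G)
  have mK : ∀ {k : G}, k ∈ K ↔ Commute k B.t ∧ Commute k b := by
    intro k
    rw [Subgroup.mem_centralizer_iff]
    refine ⟨fun h => ⟨(h B.t (Set.mem_insert _ _)).symm, (h b (Set.mem_insert_of_mem _ rfl)).symm⟩, ?_⟩
    rintro ⟨h1, h2⟩ y (rfl | rfl)
    exacts [h1.eq.symm, h2.eq.symm]
  have hH : ∀ {k : G}, k ∈ K → k ∈ Hs D B.t := fun hk =>
    M24.centralizer_eq hD hp hZ B B.ht ▸ Subgroup.mem_centralizer_singleton_iff.mpr (mK.mp hk).1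
  have hbH : b ∈ Hs D B.t := Subgroup.subset_closure hb
  have hQ : IsThreeTranspositionGroup (Et D B.t) := cls_group B.cls
  set s := bar D B.t b with hs
  have hsE : s ∈ Et D B.t := bar_mem hD B hb
  have hcen : Subgroup.centralizer ({s} : Set (Qt D B.t)) = Hs (Et D B.t) s :=
    M23.centralizer_eq B.cls B.prim B.ty.1 B.inner hQ B.ty hsE
  have hbarK : ∀ {k : G}, k ∈ K → bar D B.t k ∈ Hs (Et D B.t) s := fun {k} hk => by
    rw [← hcen, Subgroup.mem_centralizer_singleton_iff, hs, ← bar_mul hD B (hH hk) hbH,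
      ← bar_mul hD B hbH (hH hk), (mK.mp hk).2.eq]
  let ψ : K →* ↥(Hs (Et D B.t) s) :=
    { toFun := fun k => ⟨bar D B.t k, hbarK k.2⟩
      map_one' := Subtype.ext (by
        show bar D B.t (((1 : ↥(Hs D B.t)) : G)) = 1
        rw [bar_eq, map_one])
      map_mul' := fun p q => Subtype.ext (bar_mul hD B (hH p.2) (hH q.2)) }
  have hψ : Function.Surjective ψ := by
    rintro ⟨q, hq⟩
    obtain ⟨⟨k, hk⟩, rfl⟩ := QuotientGroup.mk'_surjective _ q
    have hqb : bar D B.t k ∈ Hs (Et D B.t) s := (bar_eq (⟨k, hk⟩ : ↥(Hs D B.t))).symm ▸ hq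
    have hc : Commute (bar D B.t k) (bar D B.t b) := closure_Ds_commute hqb
    have hkb : k * b * k⁻¹ = b := by
      have hki : bar D B.t k⁻¹ = (bar D B.t k)⁻¹ := by
        rw [show k⁻¹ = (((⟨k, hk⟩ : ↥(Hs D B.t))⁻¹ : ↥(Hs D B.t)) : G) from rfl, bar_eq, map_inv, ← bar_eq]
      refine bar_inj hD B (cj_mem_Ds hD hb (by rw [(closure_Ds_commute hk).eq, mul_inv_cancel_right])) hb ?_
      rw [bar_mul hD B (mul_mem hk hbH) (inv_mem hk), bar_mul hD B hk hbH, hki, hc.eq, mul_inv_cancel_right]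
    exact ⟨⟨k, mK.mpr ⟨closure_Ds_commute hk, mul_inv_eq_iff_eq_mul.mp hkb⟩⟩, Subtype.ext (bar_eq ⟨k, hk⟩)⟩
  obtain ⟨m, hm⟩ := cls_exists_conj B.cls B.inner.ht hsE
  obtain ⟨e₁⟩ := quot_at B.cls (d := B.inner.t) m
  rw [hm] at e₁
  obtain ⟨e₂, -⟩ := CfsgThreeTrans.M22.Unique.exists_iso (cls_group B.inner.cls) B.inner.prim B.inner.ty
  let φ : Qt (Et D B.t) s ≃* F22 := e₁.trans e₂.symm
  let χ : K →* F22 := φ.toMonoidHom.comp ((qt (Et D B.t) s).comp ψ)
  have hself : B.t ∈ Hs D B.t := M24.self_mem hD hp hZ B B.ht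
  have hbt : bar D B.t B.t = 1 := by
    rw [show B.t = ((⟨B.t, hself⟩ : ↥(Hs D B.t)) : G) from rfl, bar_eq]
    refine (QuotientGroup.eq_one_iff _).mpr (Subgroup.mem_center_iff.mpr fun w => Subtype.ext ?_)
    exact (closure_Ds_commute w.2).eq
  have hss : s * s = 1 := mul_self B.cls.1 hsE
  refine ⟨χ, φ.surjective.comp ((QuotientGroup.mk'_surjective _).comp hψ), fun k => ?_, ?_⟩
  · show φ (qt (Et D B.t) s (ψ k)) = 1 ↔ _
    rw [map_eq_one_iff φ φ.injective]
    constructor
    · intro h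
      have h2 : ψ k ∈ Subgroup.center _ := (QuotientGroup.eq_one_iff _).mp h
      rw [M23.center_closure B.cls B.prim B.ty.1 B.inner hQ B.ty hsE, Subgroup.mem_subgroupOf] at h2
      obtain ⟨n, hn⟩ := Subgroup.mem_zpowers_iff.mp h2
      have hn' : bar D B.t k = s ^ n := hn.symm
      rcases Int.even_or_odd' n with ⟨j, rfl | rfl⟩
      · rw [zpow_mul, zpow_two, hss, one_zpow] at hn'
        rcases ker_cases hD hp hZ B (hH k.2) hn' with e | e <;> rw [e] <;> simp
      · rw [zpow_add, zpow_mul, zpow_two, hss, one_zpow, one_mul, zpow_one, hs] at hn'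
        rcases bar_eq_cases hD hp hZ B (hH k.2) hbH hn' with e | e <;> rw [e]
        · simp
        · simp [hb.2.2.eq]
    · intro hk
      refine (QuotientGroup.eq_one_iff _).mpr ?_
      rw [M23.center_closure B.cls B.prim B.ty.1 B.inner hQ B.ty hsE, Subgroup.mem_subgroupOf]
      show bar D B.t k ∈ _
      rcases hk with e | e | e | e <;> rw [e]
      · rw [show (1 : G) = ((1 : ↥(Hs D B.t)) : G) from rfl, bar_eq, map_one]
        exact one_mem _
      · rw [hbt]
        exact one_mem _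
      · exact Subgroup.mem_zpowers _
      · rw [bar_mul hD B hself hbH, hbt, one_mul]
        exact Subgroup.mem_zpowers _
  · have hperf := (M23.quasisimple_at hQ B.prim B.ty B.inner hsE).1.commutator_eq_top
    have hsH : s ∈ Hs (Et D B.t) s := hcen ▸ Subgroup.mem_centralizer_singleton_iff.mpr rfl
    obtain ⟨w, hw, hwe⟩ : (⟨s, hsH⟩ : ↥(Hs (Et D B.t) s)) ∈ (commutator ↥K).map ψ := by
      rw [commutator_def, Subgroup.map_commutator, Subgroup.map_top_of_surjective _ hψ, ← commutator_def, hperf]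
      exact Subgroup.mem_top _
    have hw' : (w : G) ∈ ⁅K, K⁆ := by
      rw [← map_commutator_self]
      exact Subgroup.mem_map_of_mem _ hw
    have hwL : (w : G) ∈ commutator G := by
      rw [commutator_def]
      exact Subgroup.commutator_mono le_top le_top hw'
    rcases bar_eq_cases hD hp hZ B (hH w.2) hbH ((congrArg Subtype.val hwe : bar D B.t w = s).trans hs) with e | e
    · exact absurd (e ▸ hwL) (not_mem_L hD hp hZ B hb.1)
    · rw [hb.2.2.eq, ← e]
      exact hw'

/-- The projection for any commuting pair. -/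
theorem pair_proj {a b : G} (ha : a ∈ D) (hb : b ∈ Ds D a) :
    ∃ χ : ↥(Subgroup.centralizer ({a, b} : Set G)) →* F22, Function.Surjective χ ∧
      (∀ k, χ k = 1 ↔ (k : G) ∈ ({1, a, b, a * b} : Set G)) ∧
      a * b ∈ ⁅Subgroup.centralizer ({a, b} : Set G), Subgroup.centralizer ({a, b} : Set G)⁆ := by
  obtain ⟨g, rfl, hin⟩ := M24.to_base hD B ha
  obtain ⟨b', rfl⟩ : ∃ b', b = g * b' * g⁻¹ := ⟨_, (cj_inv g b).symm⟩
  obtain ⟨χ, hs, hk, hc⟩ := base_proj hD hp hZ B (b := b') (by
    have := hin hb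
    rwa [show g⁻¹ * (g * b' * g⁻¹) * g⁻¹⁻¹ = b' by group] at this)
  let C := Subgroup.centralizer ({B.t, b'} : Set G)
  have hCmap : C.map (MulAut.conj g).toMonoidHom = Subgroup.centralizer ({g * B.t * g⁻¹, g * b' * g⁻¹} : Set G) := by
    ext x
    constructor
    · rintro ⟨y, hy, rfl⟩
      refine Subgroup.mem_centralizer_iff.mpr ?_
      rintro z (rfl | rfl)
      · exact ((commute_cj_iff g).mpr (Subgroup.mem_centralizer_iff.mp hy B.t (by simp) : Commute B.t y)).eq
      · exact ((commute_cj_iff g).mpr (Subgroup.mem_centralizer_iff.mp hy b' (by simp) : Commute b' y)).eq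
    · intro hx
      refine ⟨g⁻¹ * x * g⁻¹⁻¹, Subgroup.mem_centralizer_iff.mpr ?_, cj_inv g x⟩
      rintro z (rfl | rfl) <;> refine ((commute_cj_iff g).mp ?_ : Commute _ _).eq <;> rw [cj_inv]
      · exact Subgroup.mem_centralizer_iff.mp hx _ (by simp)
      · exact Subgroup.mem_centralizer_iff.mp hx _ (by simp)
  let e := ((MulAut.conj g).subgroupMap C).trans (MulEquiv.subgroupCongr hCmap)
  have he : ∀ y : C, ((e y : _) : G) = g * (y : G) * g⁻¹ := fun y => rfl
  refine ⟨χ.comp e.symm.toMonoidHom, hs.comp e.symm.surjective, fun k => ?_, ?_⟩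
  · obtain ⟨y, rfl⟩ := e.surjective k
    show χ (e.symm (e y)) = 1 ↔ _
    rw [e.symm_apply_apply, hk, he]
    simp only [Set.mem_insert_iff, Set.mem_singleton_iff, conj_mul]
    have h1 : g * (y : G) * g⁻¹ = 1 ↔ (y : G) = 1 := by
      simpa using (cj_injective g).eq_iff (a := (y : G)) (b := 1)
    rw [h1, (cj_injective g).eq_iff, (cj_injective g).eq_iff, (cj_injective g).eq_iff]
  · rw [← hCmap, ← Subgroup.map_commutator, conj_mul]
    exact Subgroup.mem_map_of_mem _ hc

end

end CfsgThreeTrans.M24
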