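/-
The derived-group centraliser of a product of three commuting transpositions in type M(24).
-/
import Cfsg.Agent.Lib.ThreeTrans.M24.TripleCentraliser
import Cfsg.Agent.S0815

set_option autoImplicit false
set_option linter.unusedSectionVars false

namespace CfsgThreeTrans.M24

open Cfsg CfsgLib
open scoped commutatorElement

universe u

variable {G : Type u} [Group G] [Finite G] {D : Set G}

section
variable (hD : IsThreeTranspositionClass D) (hp : IsPrimitiveUnderConj D)
  (hZ : Subgroup.center G = ⊥) (B : Base D) (K : Chart D)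

/-- The big group. -/
abbrev CL : Subgroup G := commutator G ⊓ Subgroup.centralizer ({K.t * K.u * K.v} : Set G)

/-- The centraliser of the three. -/
abbrev KL : Subgroup G := commutator G ⊓ Subgroup.centralizer ({K.t, K.u, K.v} : Set G)

/-- The four-group. -/
abbrev EL : Subgroup G := Subgroup.closure ({K.t * K.u, K.t * K.v} : Set G)

/-- The three as a family. -/
def tri : Fin 3 → G := ![K.t, K.u, K.v]

include hD hp hZ B

theorem tri_facts : Function.Injective (tri K) ∧ (∀ i, tri K i ∈ D) ∧ ∀ i j, Commute (tri K i) (tri K j) := by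
  refine ⟨fun i j e => ?_, fun i => ?_, fun i j => ?_⟩
  · fin_cases i <;> fin_cases j <;> simp [tri] at e ⊢
    all_goals first | exact K.hu.2.1 e | exact K.hu.2.1 e.symm | exact K.hv.1.2.1 e | exact K.hv.1.2.1 e.symm |
      exact K.hv.2.2.1 e | exact K.hv.2.2.1 e.symm
  · fin_cases i
    exacts [K.ht, K.hu.1, K.hv.1.1]
  · fin_cases i <;> fin_cases j <;> simp [tri]
    all_goals first | exact K.hu.2.2 | exact K.hu.2.2.symm | exact K.hv.1.2.2 | exact K.hv.1.2.2.symm |
      exact K.hv.2.2.2 | exact K.hv.2.2.2.symm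

/-- Centralising the product permutes the three. -/
theorem perm_tri {g : G} (hg : g ∈ Subgroup.centralizer ({K.t * K.u * K.v} : Set G)) (i : Fin 3) :
    ∃ j, g * tri K i * g⁻¹ = tri K j := by
  obtain ⟨hinj, hmD, hcom⟩ := tri_facts hD hp hZ B K
  have hgz : g * (K.t * K.u * K.v) * g⁻¹ = K.t * K.u * K.v := M22.mem_cent.mp hg
  set y := g * tri K i * g⁻¹ with hy
  by_contra! hno
  have hyD : y ∈ D := cls_conj hD g (hmD i)
  have hself : ∀ a, Commute a (tri K i) → Commute (g * a * g⁻¹) y := fun a ha => (commute_cj_iff g).mpr ha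
  have hprod : Commute (K.t * K.u * K.v) (tri K i) :=
    (((hcom 0 i).mul_left (hcom 1 i)).mul_left (hcom 2 i))
  have hyz : Commute y (K.t * K.u * K.v) := by
    have := (hself _ hprod).symm
    rwa [hgz] at this
  have hc3 := (commute_mul3_iff hD.1 (hmD 0) (hmD 1) (hmD 2) hyD (fun e => absurd (hinj e) (by decide))
    (fun e => absurd (hinj e) (by decide)) (fun e => absurd (hinj e) (by decide)) (hcom 0 1) (hcom 0 2)
    (hcom 1 2)).mp hyz
  obtain ⟨p, q, hpq, hpi, hqi, he⟩ : ∃ p q : Fin 3, p ≠ q ∧ p ≠ i ∧ q ≠ i ∧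
      tri K i * (K.t * K.u * K.v) = tri K p * tri K q := by
    have htt := mul_self hD.1 K.ht
    have huu := mul_self hD.1 K.hu.1
    have hvv := mul_self hD.1 K.hv.1.1
    fin_cases i
    · exact ⟨1, 2, by decide, by decide, by decide, by
        show K.t * (K.t * K.u * K.v) = K.u * K.v
        rw [mul_assoc K.t K.u, ← mul_assoc K.t K.t, htt, one_mul]⟩
    · exact ⟨0, 2, by decide, by decide, by decide, by
        show K.u * (K.t * K.u * K.v) = K.t * K.v
        rw [K.hu.2.2.eq, ← mul_assoc, ← mul_assoc, huu, one_mul]⟩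
    · exact ⟨0, 1, by decide, by decide, by decide, by
        show K.v * (K.t * K.u * K.v) = K.t * K.u
        rw [← mul_assoc, (show Commute K.v (K.t * K.u) from K.hv.1.2.2.symm.mul_right K.hv.2.2.2.symm).eq,
          mul_assoc, hvv, mul_one]⟩
  refine M24.length_unique hD hp hZ B (x := g * (tri K p * tri K q) * g⁻¹)
    (l := [g * tri K p * g⁻¹, g * tri K q * g⁻¹]) (l' := [y, K.t, K.u, K.v]) (by simp) (by simp) (by simp)
    ?_ ?_ ?_ ?_ ?_ ?_ ?_ ?_
  · simp only [List.nodup_cons, List.mem_singleton, List.not_mem_nil, not_false_eq_true, List.nodup_nil, and_true]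
    exact fun e => hpq (hinj (cj_injective g e))
  · intro a ha
    simp only [List.mem_cons, List.not_mem_nil, or_false] at ha
    rcases ha with rfl | rfl
    exacts [cls_conj hD g (hmD p), cls_conj hD g (hmD q)]
  · intro a ha b hb
    simp only [List.mem_cons, List.not_mem_nil, or_false] at ha hb
    rcases ha with rfl | rfl <;> rcases hb with rfl | rfl
    exacts [Commute.refl _, (commute_cj_iff g).mpr (hcom p q), (commute_cj_iff g).mpr (hcom q p), Commute.refl _]
  · simp only [List.prod_cons, List.prod_nil, mul_one]; group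
  · simp only [List.nodup_cons, List.mem_cons, List.not_mem_nil, or_false, not_or, List.nodup_nil, and_true,
      not_false_eq_true]
    exact ⟨⟨hno 0, hno 1, hno 2⟩, ⟨K.hu.2.1.symm, K.hv.1.2.1.symm⟩, K.hv.2.2.1.symm⟩
  · intro a ha
    simp only [List.mem_cons, List.not_mem_nil, or_false] at ha
    rcases ha with rfl | rfl | rfl | rfl
    exacts [hyD, hmD 0, hmD 1, hmD 2]
  · intro a ha b hb
    simp only [List.mem_cons, List.not_mem_nil, or_false] at ha hb
    rcases ha with rfl | rfl | rfl | rfl <;> rcases hb with rfl | rfl | rfl | rfl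
    exacts [Commute.refl _, hc3.1, hc3.2.1, hc3.2.2, hc3.1.symm, Commute.refl _, hcom 0 1, hcom 0 2, hc3.2.1.symm,
      hcom 1 0, Commute.refl _, hcom 1 2, hc3.2.2.symm, hcom 2 0, hcom 2 1, Commute.refl _]
  · simp only [List.prod_cons, List.prod_nil, mul_one]
    rw [← he, hy, ← mul_assoc K.t K.u K.v]
    conv_lhs => arg 2; rw [← hgz]
    group

theorem KL_le_CL : KL K ≤ CL K := fun g hg => ⟨hg.1, Subgroup.mem_centralizer_singleton_iff.mpr
  (((show Commute g K.t from (Subgroup.mem_centralizer_iff.mp hg.2 _ (by simp)).symm).mul_right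
    (Subgroup.mem_centralizer_iff.mp hg.2 K.u (by simp)).symm).mul_right
      (Subgroup.mem_centralizer_iff.mp hg.2 K.v (by simp)).symm).eq⟩

theorem EL_le_CL : EL K ≤ CL K := (E0_le hD hp hZ B K).trans (KL_le_CL hD hp hZ B K)

/-- The action on the three. -/
theorem sym_action : ∃ ρ : ↥(CL K) →* Equiv.Perm (Fin 3), Function.Surjective ρ ∧ ρ.ker = (KL K).subgroupOf (CL K) := by
  classical
  obtain ⟨hinj, hmD, hcom⟩ := tri_facts hD hp hZ B K
  choose f hf using fun (g : CL K) (i : Fin 3) => perm_tri hD hp hZ B K g.2.2 i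
  have hfinj : ∀ g : CL K, Function.Injective (f g) := fun (g : CL K) i j e => hinj (cj_injective (g : G) ((hf g i).trans (e ▸ (hf g j).symm)))
  let P : CL K → Equiv.Perm (Fin 3) := fun g => Equiv.ofBijective (f g) (Finite.injective_iff_bijective.mp (hfinj g))
  have hP : ∀ (g : CL K) (i : Fin 3), (g : G) * tri K i * (g : G)⁻¹ = tri K (P g i) := hf
  let ρ : ↥(CL K) →* Equiv.Perm (Fin 3) := MonoidHom.mk' P fun a b => Equiv.ext fun i => hinj (by
    rw [← hP, Equiv.Perm.mul_apply, ← hP, ← hP, Subgroup.coe_mul, cj_cj])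
  refine ⟨ρ, fun σ => ?_, ?_⟩
  · have hin : ∀ i j, i ≠ j → tri K j ∈ Ds D (tri K i) := fun i j h =>
      ⟨hmD j, fun e => h (hinj e).symm, hcom i j⟩
    have ne : ∀ {i j : Fin 3}, i ≠ j → σ i ≠ σ j := fun h e => h (σ.injective e)
    obtain ⟨g, g0, g1, g2⟩ := triple_map hD hp B (hmD 0) (hin 0 1 (by decide)) (hin 0 2 (by decide))
      (fun e => absurd (hinj e) (by decide)) (hcom 1 2) (hmD (σ 0)) (hin _ _ (ne (by decide : (0 : Fin 3) ≠ 1)))
      (hin _ _ (ne (by decide : (0 : Fin 3) ≠ 2))) (fun e => ne (by decide : (1 : Fin 3) ≠ 2) (hinj e)) (hcom _ _)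
    have hgi : ∀ i, g * tri K i * g⁻¹ = tri K (σ i) := fun i => by
      fin_cases i
      exacts [g0, g1, g2]
    have hgz : ∀ h : G, (∀ i, h * tri K i * h⁻¹ = tri K (σ i)) → h ∈ Subgroup.centralizer ({K.t * K.u * K.v} : Set G) := by
      intro h hh
      refine M22.mem_cent.mpr ?_
      show h * (tri K 0 * tri K 1 * tri K 2) * h⁻¹ = tri K 0 * tri K 1 * tri K 2
      rw [← conj_mul, ← conj_mul, hh, hh, hh]
      have key : ∀ τ : Equiv.Perm (Fin 3), [τ 0, τ 1, τ 2].Perm [0, 1, 2] := by decide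
      have := M24.prod_perm (l := [tri K (σ 0), tri K (σ 1), tri K (σ 2)]) (l' := [tri K 0, tri K 1, tri K 2])
        (fun a ha b hb => by
          simp only [List.mem_cons, List.not_mem_nil, or_false] at ha hb
          rcases ha with rfl | rfl | rfl <;> rcases hb with rfl | rfl | rfl <;> exact hcom _ _)
        ((key σ).map (tri K))
      simpa [mul_assoc] using this
    obtain ⟨h, hh, hhL⟩ : ∃ h, (∀ i, h * tri K i * h⁻¹ = tri K (σ i)) ∧ h ∈ commutator G := by
      by_cases hg : g ∈ commutator G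
      · exact ⟨g, hgi, hg⟩
      · refine ⟨g * K.t, fun i => ?_, (Subgroup.mul_mem_iff_of_index_two (commutator_index (cls_group hD) hp hZ B)).mpr
          ⟨fun h => absurd h hg, fun h => absurd h (not_mem_L hD hp hZ B K.ht)⟩⟩
        rw [← hgi i]
        have : Commute (tri K 0) (tri K i) := hcom 0 i
        rw [← cj_cj, show K.t * tri K i * K.t⁻¹ = tri K i from mul_inv_eq_iff_eq_mul.mpr this.eq]
    refine ⟨⟨h, hhL, hgz h hh⟩, Equiv.ext fun i => hinj ?_⟩
    show tri K (P _ i) = _
    rw [← hP]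
    exact hh i
  · ext g
    constructor
    · intro h
      refine ⟨g.2.1, Subgroup.mem_centralizer_iff.mpr ?_⟩
      have key : ∀ i, tri K i * g = g * tri K i := fun i => by
        have := hP g i
        rw [show P g = 1 from h, Equiv.Perm.one_apply] at this
        exact (mul_inv_eq_iff_eq_mul.mp this).symm
      rintro y (rfl | rfl | rfl)
      exacts [key 0, key 1, key 2]
    · intro h
      refine Equiv.ext fun i => hinj ?_
      show tri K (P g i) = _
      rw [← hP, Equiv.Perm.one_apply]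
      refine mul_inv_eq_iff_eq_mul.mpr (Subgroup.mem_centralizer_iff.mp h.2 _ ?_).symm
      fin_cases i <;> simp [tri]

theorem EL_normal_CL {g z : G} (hg : g ∈ CL K) (hz : z ∈ EL K) : g * z * g⁻¹ ∈ EL K := by
  obtain ⟨ρ, -, hρ⟩ := sym_action hD hp hZ B K
  have hn : ∀ {w : G}, w ∈ KL K → g * w * g⁻¹ ∈ KL K := fun {w} hw => by
    have : ((⟨g, hg⟩ * ⟨w, KL_le_CL hD hp hZ B K hw⟩ * ⟨g, hg⟩⁻¹ : ↥(CL K))) ∈ ρ.ker :=
      (MonoidHom.normal_ker ρ).conj_mem _ (by rw [hρ]; exact hw) _
    rw [hρ] at this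
    exact this
  have hzK := E0_le hD hp hZ B K hz
  refine (center_L0 hD hp hZ B K).le ⟨⟨g * z * g⁻¹, hn hzK⟩, Subgroup.mem_center_iff.mpr fun w => Subtype.ext ?_, rfl⟩
  obtain ⟨w, hw⟩ := w
  have hw' : g⁻¹ * w * g⁻¹⁻¹ ∈ KL K := by
    have : ((⟨g, hg⟩⁻¹ * ⟨w, KL_le_CL hD hp hZ B K hw⟩ * ⟨g, hg⟩⁻¹⁻¹ : ↥(CL K))) ∈ ρ.ker :=
      (MonoidHom.normal_ker ρ).conj_mem _ (by rw [hρ]; exact hw) _
    rw [hρ] at this
    exact this
  have := (commute_cj_iff g).mpr (E0_central hD hp hZ B K hz hw'.2)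
  rw [cj_inv] at this
  exact this.eq

/-- Acting trivially modulo the four-group means lying in it. -/
theorem central_of_triv {g : G} (hg : g ∈ commutator G)
    (htriv : ∀ w : KL K, g * w * g⁻¹ * (w : G)⁻¹ ∈ EL K) : g ∈ EL K := by
  letI : CommGroup ↥(EL K) := { (inferInstance : Group ↥(EL K)) with
    mul_comm := fun a b => Subtype.ext (E0_central hD hp hZ B K b.2 (E0_le hD hp hZ B K a.2).2).eq }
  let h : ↥(KL K) →* ↥(EL K) := MonoidHom.mk' (fun w => ⟨_, htriv w⟩) fun a b => Subtype.ext (by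
    have hc1 := E0_central hD hp hZ B K (htriv b) a.2.2
    show g * ((a : G) * b) * g⁻¹ * ((a : G) * b)⁻¹ =
      (g * a * g⁻¹ * (a : G)⁻¹) * (g * b * g⁻¹ * (b : G)⁻¹)
    calc g * ((a : G) * b) * g⁻¹ * ((a : G) * b)⁻¹ =
        (g * a * g⁻¹) * ((g * b * g⁻¹ * (b : G)⁻¹) * (a : G)⁻¹) := by group
      _ = (g * a * g⁻¹) * ((a : G)⁻¹ * (g * b * g⁻¹ * (b : G)⁻¹)) := by
          rw [(hc1.inv_left).eq]
      _ = _ := by group)
  have htop : h.ker = ⊤ := top_le_iff.mp ((quasisimple_L0 hD hp hZ B K).1.commutator_eq_top ▸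
    Abelianization.commutator_subset_ker h)
  have hcent : ∀ w : KL K, Commute g w := fun w => by
    have h1 : h w = 1 := MonoidHom.mem_ker.mp (by rw [htop]; exact Subgroup.mem_top w)
    have := congrArg Subtype.val h1
    exact mul_inv_eq_iff_eq_mul.mp (mul_inv_eq_one.mp this)
  have hC3 : g ∈ KL K := ⟨hg, (cent_E0 hD hp hZ B K).le (Subgroup.mem_centralizer_iff.mpr
    fun y hy => (hcent ⟨y, E0_le hD hp hZ B K hy⟩).symm.eq)⟩
  exact (center_L0 hD hp hZ B K).le ⟨⟨g, hC3⟩, Subgroup.mem_center_iff.mpr fun w =>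
    Subtype.ext (hcent w).symm.eq, rfl⟩

/-- The action on the simple quotient. -/
theorem aut_action : ∃ α : ↥(CL K) →* MulAut (Cfsg.PSU 6 K.F 2),
    α.ker = (EL K).subgroupOf (CL K) ∧ Function.Surjective α := by
  classical
  obtain ⟨ρ, hρs, hρ⟩ := sym_action hD hp hZ B K
  haveI : ((KL K).subgroupOf (CL K)).Normal := hρ ▸ MonoidHom.normal_ker ρ
  have hn : ∀ (g : CL K) {w : G}, w ∈ KL K → (g : G) * w * (g : G)⁻¹ ∈ KL K := fun g {w} hw =>
    (inferInstance : ((KL K).subgroupOf (CL K)).Normal).conj_mem ⟨w, KL_le_CL hD hp hZ B K hw⟩ hw g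
  let c : CL K → ↥(KL K) →* ↥(KL K) := fun g =>
    MonoidHom.mk' (fun w => ⟨(g : G) * w * (g : G)⁻¹, hn g w.2⟩) fun a b => Subtype.ext conj_mul.symm
  have hs := phiL_surjective hD hp hZ B K
  have hc : ∀ g, (phiL K).ker ≤ ((phiL K).comp (c g)).ker := fun g w hw => by
    refine (ker_phiL hD hp hZ B K (hn g w.2)).mpr (EL_normal_CL hD hp hZ B K g.2 ?_)
    exact (ker_phiL hD hp hZ B K w.2).mp hw
  let β : CL K → (Cfsg.PSU 6 K.F 2 →* Cfsg.PSU 6 K.F 2) := fun g =>
    (phiL K).liftOfSurjective hs ⟨(phiL K).comp (c g), hc g⟩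
  have hβ : ∀ g w, β g (phiL K w) = phiL K (c g w) := fun g w => by
    exact MonoidHom.liftOfRightInverse_comp_apply _ _ _ _ w
  have hmul : ∀ a b y, β (a * b) y = β a (β b y) := fun a b y => by
    obtain ⟨w, rfl⟩ := hs y
    rw [hβ, hβ, hβ]
    exact congrArg (phiL K) (Subtype.ext (by
      show ((a * b : CL K) : G) * w * ((a * b : CL K) : G)⁻¹ = a * (b * w * (b : G)⁻¹) * (a : G)⁻¹
      rw [Subgroup.coe_mul, cj_cj]))
  have hone : ∀ y, β 1 y = y := fun y => by
    obtain ⟨w, rfl⟩ := hs y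
    rw [hβ]
    exact congrArg (phiL K) (Subtype.ext (by show ((1 : CL K) : G) * w * ((1 : CL K) : G)⁻¹ = w; simp))
  let α : ↥(CL K) →* MulAut (Cfsg.PSU 6 K.F 2) := MonoidHom.mk'
    (fun g => MonoidHom.toMulEquiv (β g) (β g⁻¹)
      (MonoidHom.ext fun y => by show β g⁻¹ (β g y) = y; rw [← hmul, inv_mul_cancel, hone])
      (MonoidHom.ext fun y => by show β g (β g⁻¹ y) = y; rw [← hmul, mul_inv_cancel, hone]))
    fun a b => MulEquiv.ext fun y => hmul a b y
  have hker : α.ker = (EL K).subgroupOf (CL K) := by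
    ext g
    constructor
    · intro hg
      have htriv : ∀ w : KL K, ((g : G) * w * (g : G)⁻¹) * (w : G)⁻¹ ∈ EL K := fun w => by
        have e : β g (phiL K w) = phiL K w := DFunLike.congr_fun (MonoidHom.mem_ker.mp hg) (phiL K w)
        rw [hβ] at e
        exact (ker_phiL hD hp hZ B K (mul_mem (hn g w.2) (inv_mem w.2))).mp (by
          show phiL K (c g w * w⁻¹) = 1
          rw [map_mul, map_inv, e, mul_inv_cancel])
      exact central_of_triv hD hp hZ B K g.2.1 htriv
    · intro hg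
      refine MonoidHom.mem_ker.mpr (MulEquiv.ext fun y => ?_)
      obtain ⟨w, rfl⟩ := hs y
      show β g (phiL K w) = phiL K w
      rw [hβ]
      exact congrArg (phiL K) (Subtype.ext (mul_inv_eq_iff_eq_mul.mpr
        (E0_central hD hp hZ B K hg w.2.2).symm.eq))
  refine ⟨α, hker, ?_⟩
  haveI : Fact (Nat.Prime 2) := ⟨Nat.prime_two⟩
  have hA := Cfsg.Agent.S0815.result 2 1 le_rfl (q := 2) (by norm_num) K.hF 6 (by norm_num) (by norm_num)
  have hKc : Nat.card ↥(KL K) = Nat.card (phiL K).ker * Nat.card (Cfsg.PSU 6 K.F 2) := by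
    rw [← (phiL K).ker.card_mul_index, Subgroup.index_ker, MonoidHom.range_eq_top.mpr hs, Subgroup.card_top]
  have hCc : Nat.card ↥(CL K) = Nat.card ↥(KL K) * 6 := by
    rw [← ρ.ker.card_mul_index, Subgroup.index_ker, MonoidHom.range_eq_top.mpr hρs, Subgroup.card_top, hρ,
      Nat.card_congr (Subgroup.subgroupOfEquivOfLe (KL_le_CL hD hp hZ B K)).toEquiv, Nat.card_perm, Nat.card_fin]
    rfl
  have hEc : Nat.card (phiL K).ker = Nat.card ↥((EL K).subgroupOf (CL K)) := by
    rw [Nat.card_congr (Subgroup.subgroupOfEquivOfLe (EL_le_CL hD hp hZ B K)).toEquiv,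
      ← center_eq_ker hD hp hZ B K, show EL K = _ from (center_L0 hD hp hZ B K).symm]
    exact Nat.card_congr ((Subgroup.center ↥(KL K)).equivMapOfInjective _ (Subgroup.subtype_injective _)).toEquiv
  have h1 := α.ker.card_mul_index
  rw [Subgroup.index_ker, hker, hCc, hKc, hEc] at h1
  have hr : Nat.card α.range = Nat.card (MulAut (Cfsg.PSU 6 K.F 2)) := by
    rw [hA, Nat.eq_of_mul_eq_mul_left (Nat.card_pos (α := ↥((EL K).subgroupOf (CL K))))
      (h1.trans (mul_assoc _ _ _))]
    norm_num [mul_comm]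
  exact MonoidHom.range_eq_top.mp (Subgroup.eq_top_of_card_eq _ hr)

/-- The generalised Fitting subgroup. -/
theorem gfit_CL : (generalizedFittingSubgroup ↥(CL K)).map (CL K).subtype = KL K := by
  classical
  obtain ⟨ρ, -, hρ⟩ := sym_action hD hp hZ B K
  set Y := (KL K).subgroupOf (CL K)
  haveI hYn : Y.Normal := hρ ▸ MonoidHom.normal_ker ρ
  have hKle := KL_le_CL hD hp hZ B K
  haveI : IsSimpleGroup (Cfsg.PSU 6 K.F 2) :=
    UnitarySimple.simple (F := K.F) (q := 2) K.hF (by norm_num) (by norm_num)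
  have hgf : generalizedFittingSubgroup ↥(CL K) = Y := by
    refine le_antisymm (CfsgLib.Comp.gfit_le_of_centralizer_le Y ?_ fun z hz => ?_) (le_sup_of_le_left (le_layer
      ⟨hYn.isSubnormal, isQuasisimple_of_equiv (Subgroup.subgroupOfEquivOfLe hKle).symm
        (quasisimple_L0 hD hp hZ B K)⟩))
    · set F := fittingSubgroup ↥(CL K)
      let e : ↥(KL K) →* ↥(CL K) := Subgroup.inclusion hKle
      set M := F.comap e
      haveI : M.Normal := Subgroup.Normal.comap inferInstance e
      haveI : Group.IsNilpotent F := isNilpotent_fittingSubgroup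
      haveI hMs : Group.IsSolvable M := Group.isSolvable_of_isSolvable_injective
        (f := (e.comp M.subtype).codRestrict F fun x => x.2)
        (fun a b h => Subtype.ext (Subgroup.inclusion_injective hKle (congrArg Subtype.val h)))
      have hMim : Group.IsSolvable (M.map (phiL K)) := Group.isSolvable_of_surjective
        (f := (phiL K).subgroupMap M) (MonoidHom.subgroupMap_surjective _ _)
      haveI : (M.map (phiL K)).Normal := Subgroup.Normal.map inferInstance _ (phiL_surjective hD hp hZ B K)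
      have hbot : M.map (phiL K) = ⊥ := by
        refine (IsSimpleGroup.eq_bot_or_eq_top_of_normal _ inferInstance).resolve_right fun htop => ?_
        rw [htop] at hMim
        haveI := hMim
        have : Group.IsSolvable (Cfsg.PSU 6 K.F 2) :=
          Group.isSolvable_of_surjective (f := (Subgroup.topEquiv (G := Cfsg.PSU 6 K.F 2)).toMonoidHom)
            (Subgroup.topEquiv (G := Cfsg.PSU 6 K.F 2)).surjective
        obtain ⟨x, y, hxy⟩ := psu_not_commutative (F := K.F) (by rw [K.hF]; norm_num)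
        exact hxy (IsSimpleGroup.comm_iff_isSolvable.mpr this x y)
      have hFY : ∀ z ∈ F, z ∈ Y → (z : G) ∈ EL K := fun z hz hzY =>
        (ker_phiL hD hp hZ B K hzY).mp (Subgroup.mem_bot.mp (hbot ▸
          Subgroup.mem_map_of_mem (phiL K) (show (⟨(z : G), hzY⟩ : ↥(KL K)) ∈ M from hz)))
      intro f hf
      refine E0_le hD hp hZ B K (central_of_triv hD hp hZ B K f.2.1 fun w => ?_)
      let w' : ↥(CL K) := ⟨w, hKle w.2⟩
      refine hFY (f * w' * f⁻¹ * w'⁻¹) ?_ ?_
      · rw [mul_assoc f, mul_assoc f]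
        exact mul_mem hf ((inferInstance : F.Normal).conj_mem _ (inv_mem hf) w')
      · exact mul_mem (hYn.conj_mem w' w.2 f) (inv_mem (show w' ∈ Y from w.2))
    · refine E0_le hD hp hZ B K (central_of_triv hD hp hZ B K z.2.1 fun w => ?_)
      have := congrArg Subtype.val (Subgroup.mem_centralizer_iff.mp hz ⟨w, hKle w.2⟩ w.2)
      show (z : G) * w * (z : G)⁻¹ * (w : G)⁻¹ ∈ EL K
      rw [show (z : G) * w = w * z from this.symm, mul_inv_cancel_right, mul_inv_cancel]
      exact one_mem _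
  rw [hgf, Subgroup.map_subgroupOf_eq_of_le hKle]

end

end CfsgThreeTrans.M24
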