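/-
The derived-group centraliser of a product of two commuting transpositions in type M(24).
-/
import Cfsg.Agent.Lib.ThreeTrans.M24.PairProj
import Cfsg.Agent.Lib.ThreeTrans.M24.TripleAut
import Cfsg.Agent.Lib.CosetEnum.Fi22Outer.Sylow

set_option autoImplicit false
set_option linter.unusedSectionVars false

namespace CfsgThreeTrans.M24

open Cfsg CfsgLib
open scoped commutatorElement
open CfsgLib.CosetEnum.Fi22Three (finiteK)

universe u

variable {G : Type u} [Group G] [Finite G] {D : Set G}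

section
variable (hD : IsThreeTranspositionClass D) (hp : IsPrimitiveUnderConj D)
  (hZ : Subgroup.center G = ⊥) (B : Base D) {a b : G} (ha : a ∈ D) (hb : b ∈ Ds D a)

/-- The big group. -/
abbrev CP (a b : G) : Subgroup G := commutator G ⊓ Subgroup.centralizer ({a * b} : Set G)

/-- The centraliser of the two. -/
abbrev KP (a b : G) : Subgroup G := commutator G ⊓ Subgroup.centralizer ({a, b} : Set G)

include hD hp hZ B ha hb

theorem mem_pair {k : G} : k ∈ Subgroup.centralizer ({a, b} : Set G) ↔ Commute k a ∧ Commute k b := by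
  rw [Subgroup.mem_centralizer_iff]
  refine ⟨fun h => ⟨(h a (Set.mem_insert _ _)).symm, (h b (Set.mem_insert_of_mem _ rfl)).symm⟩, ?_⟩
  rintro ⟨h1, h2⟩ y (rfl | rfl)
  exacts [h1.eq.symm, h2.eq.symm]

theorem prod_mem_KP : a * b ∈ KP a b := by
  refine ⟨mul_mem_L hD hp hZ B ha hb.1, (mem_pair hD hp hZ B ha hb).mpr
    ⟨(Commute.refl a).mul_left hb.2.2.symm, hb.2.2.mul_left (Commute.refl b)⟩⟩

theorem KP_le_CP : KP a b ≤ CP a b := fun g hg => ⟨hg.1, by
  obtain ⟨h1, h2⟩ := (mem_pair hD hp hZ B ha hb).mp hg.2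
  exact Subgroup.mem_centralizer_singleton_iff.mpr (h1.mul_right h2).eq⟩

/-- An element commuting with the product permutes the two. -/
theorem pair_cases {g : G} (hg : Commute g (a * b)) : g * a * g⁻¹ = a ∨ g * a * g⁻¹ = b := by
  have hcab := hb.2.2
  have hab : a ≠ b := hb.2.1.symm
  set a' := g * a * g⁻¹
  set b' := g * b * g⁻¹
  have e : a' * b' = a * b := by
    show g * a * g⁻¹ * (g * b * g⁻¹) = a * b
    rw [conj_mul, hg.eq, mul_inv_cancel_right]
  by_contra hno
  push Not at hno
  have hc' : Commute a' b' := (commute_cj_iff g).mpr hcab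
  have hab' : a' ≠ b' := fun k => hab (cj_injective g k)
  have ha' := cls_conj hD g ha
  have hb' := cls_conj hD g hb.1
  obtain ⟨ca, cb⟩ := (commute_mul_iff hD.1 ha hb.1 ha' hab hcab).mp (e ▸ ((Commute.refl a').mul_right hc'))
  obtain ⟨cba, cbb⟩ := (commute_mul_iff hD.1 ha hb.1 hb' hab hcab).mp
    (e ▸ (hc'.symm.mul_right (Commute.refl b')))
  have hb'a : b' ≠ a := fun k => hno.2 (by
    rw [k] at e
    have e2 : a' * a * a = a * b * a := by rw [e]
    rw [mul_assoc, mul_self hD.1 ha, mul_one] at e2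
    rw [e2, mul_assoc, hcab.symm.eq, ← mul_assoc, mul_self hD.1 ha, one_mul])
  have hb'b : b' ≠ b := fun k => hno.1 (by
    rw [k] at e
    exact mul_right_cancel e)
  refine M24.norel hD hp hZ B [a', b', a, b] (by simp) (by simp) ?_ ?_ ?_ ?_
  · simp [hab', hab, hno.1, hno.2, hb'a, hb'b]
  · intro y hy
    simp only [List.mem_cons, List.not_mem_nil, or_false] at hy
    rcases hy with rfl | rfl | rfl | rfl
    exacts [ha', hb', ha, hb.1]
  · intro y hy z hz
    simp only [List.mem_cons, List.not_mem_nil, or_false] at hy hz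
    rcases hy with rfl | rfl | rfl | rfl <;> rcases hz with rfl | rfl | rfl | rfl
    all_goals first | exact Commute.refl _ | assumption | exact Commute.symm (by assumption)
  · simp only [List.prod_cons, List.prod_nil, mul_one]
    rw [← mul_assoc, e, ← pow_two, hcab.mul_pow, pow_two, pow_two, mul_self hD.1 ha, mul_self hD.1 hb.1, one_mul]

/-- Fixing one of the two under the product gives the other. -/
theorem mem_KP_of_fix {g : G} (hg : g ∈ CP a b) (h : g * a * g⁻¹ = a) : g ∈ KP a b := by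
  have h1 : Commute g a := mul_inv_eq_iff_eq_mul.mp h
  refine ⟨hg.1, (mem_pair hD hp hZ B ha hb).mpr ⟨h1, ?_⟩⟩
  have h2 : Commute g (a * b) := Subgroup.mem_centralizer_singleton_iff.mp hg.2
  have := h1.inv_right.mul_right h2
  rwa [inv_mul_cancel_left] at this

theorem index_KP : ((KP a b).subgroupOf (CP a b)).index = 2 := by
  classical
  obtain ⟨c, hc⟩ : (Ds D a ∩ Ds D b).Nonempty := by
    rw [← Set.ncard_pos, M24.ncard_near hD B ha hb]
    norm_num
  have ha2 : a ∈ Ds D b := ⟨ha, hb.2.1.symm, hb.2.2.symm⟩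
  obtain ⟨g, g1, g2, -⟩ := triple_map hD hp B ha hb hc.1 hc.2.2.1.symm hc.2.2.2 hb.1 ha2 hc.2 hc.1.2.1.symm
    hc.1.2.2
  obtain ⟨s, s1, s2, sL⟩ : ∃ s, s * a * s⁻¹ = b ∧ s * b * s⁻¹ = a ∧ s ∈ commutator G := by
    by_cases hg : g ∈ commutator G
    · exact ⟨g, g1, g2, hg⟩
    · refine ⟨g * a, ?_, ?_, (Subgroup.mul_mem_iff_of_index_two (commutator_index (cls_group hD) hp hZ B)).mpr
        ⟨fun h => absurd h hg, fun h => absurd h (not_mem_L hD hp hZ B ha)⟩⟩
      · rw [← cj_cj, show a * a * a⁻¹ = a by group, g1]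
      · rw [← cj_cj, show a * b * a⁻¹ = b from mul_inv_eq_iff_eq_mul.mpr hb.2.2.eq, g2]
  have hsC : s ∈ CP a b := ⟨sL, Subgroup.mem_centralizer_singleton_iff.mpr (by
    refine mul_inv_eq_iff_eq_mul.mp ?_
    rw [← conj_mul, s1, s2, hb.2.2.eq])⟩
  refine Subgroup.index_eq_two_iff.mpr ⟨⟨s, hsC⟩, fun x => ?_⟩
  have hnot : ∀ {y : G}, y * a * y⁻¹ = b → y ∉ KP a b := fun {y} hy h =>
    hb.2.1 (hy.symm.trans (mul_inv_eq_iff_eq_mul.mpr ((mem_pair hD hp hZ B ha hb).mp h.2).1.eq))
  have hxs : (x : G) * s ∈ CP a b := mul_mem x.2 hsC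
  have hxc : Commute (x : G) (a * b) := Subgroup.mem_centralizer_singleton_iff.mp x.2.2
  have hxb : (x : G) * b * (x : G)⁻¹ = ((x : G) * a * (x : G)⁻¹)⁻¹ * (a * b) := by
    rw [eq_inv_mul_iff_mul_eq, conj_mul, hxc.eq, mul_inv_cancel_right]
  rcases pair_cases hD hp hZ B ha hb hxc with h | h
  · refine Or.inr ⟨mem_KP_of_fix hD hp hZ B ha hb x.2 h, fun h' => hnot ?_ h'⟩
    show (x : G) * s * a * ((x : G) * s)⁻¹ = b
    rw [← cj_cj, s1, hxb, h, inv_mul_cancel_left]
  · refine Or.inl ⟨mem_KP_of_fix hD hp hZ B ha hb hxs ?_, hnot h⟩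
    show (x : G) * s * a * ((x : G) * s)⁻¹ = a
    rw [← cj_cj, s1, hxb, h, hb.2.2.eq, inv_mul_cancel_left]

theorem prod_ne_one : a * b ≠ 1 := mul_ne_one hD.1 ha hb.1 hb.2.1.symm

theorem four_in_L {y : G} (hy : y ∈ ({1, a, b, a * b} : Set G)) (hL : y ∈ commutator G) : y = 1 ∨ y = a * b := by
  rcases hy with e | e | e | e
  · exact Or.inl e
  · exact absurd (e ▸ hL) (not_mem_L hD hp hZ B ha)
  · exact absurd (e ▸ hL) (not_mem_L hD hp hZ B hb.1)
  · exact Or.inr e

/-- The structure of the centraliser of the two inside the derived subgroup. -/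
theorem proj_KP : ∃ π : ↥(KP a b) →* F22, Function.Surjective π ∧ (∀ k, π k = 1 ↔ ((k : G) = 1 ∨ (k : G) = a * b)) ∧
    IsQuasisimple ↥(KP a b) ∧ Subgroup.center ↥(KP a b) = π.ker := by
  classical
  set C := Subgroup.centralizer ({a, b} : Set G) with hC
  obtain ⟨χ, hs, hk, hc⟩ := pair_proj hD hp hZ B ha hb
  rw [← hC] at hc
  have haC : a ∈ C := (mem_pair hD hp hZ B ha hb).mpr ⟨Commute.refl a, hb.2.2⟩
  have half2 : ∀ {g : G}, g ∈ C → g ∈ KP a b ∨ a * g ∈ KP a b := by
    intro g hg
    by_cases h : g ∈ commutator G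
    · exact Or.inl ⟨h, hg⟩
    · exact Or.inr ⟨(Subgroup.mul_mem_iff_of_index_two (commutator_index (cls_group hD) hp hZ B)).mpr
        ⟨fun h' => absurd h' (not_mem_L hD hp hZ B ha), fun h' => absurd h' h⟩, mul_mem haC hg⟩
  let π : ↥(KP a b) →* F22 := χ.comp (Subgroup.inclusion inf_le_right)
  have hπk : ∀ k, π k = 1 ↔ ((k : G) = 1 ∨ (k : G) = a * b) := fun k => by
    show χ _ = 1 ↔ _
    rw [hk]
    refine ⟨fun h => four_in_L hD hp hZ B ha hb h k.2.1, ?_⟩
    rintro (e | e) <;> simp [e]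
  have hπs : Function.Surjective π := fun y => by
    obtain ⟨⟨g, hg⟩, rfl⟩ := hs y
    rcases half2 hg with h | h
    · exact ⟨⟨g, h⟩, rfl⟩
    · refine ⟨⟨a * g, h⟩, ?_⟩
      show χ (⟨a, haC⟩ * ⟨g, hg⟩) = _
      rw [map_mul, (hk ⟨a, haC⟩).mpr (by simp), one_mul]
  have hS : IsSimpleGroup F22 := Cfsg.Agent.S1696.result.1
  have hna : ¬ ∀ x y : F22, x * y = y * x := fun h => by
    haveI := hS
    have hp' : (Nat.card F22).Prime := by
      haveI : Finite F22 := Nat.finite_of_card_ne_zero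
        (by rw [show Nat.card F22 = 64561751654400 from Cfsg.Agent.S1696.result.2]; norm_num)
      letI : CommGroup F22 := { (inferInstance : Group F22) with mul_comm := h }
      exact IsSimpleGroup.prime_card
    rw [show Nat.card F22 = 64561751654400 from Cfsg.Agent.S1696.result.2] at hp'
    have h2 := (hp'.eq_one_or_self_of_dvd 2 (by norm_num))
    norm_num at h2
  have hcom : commutator F22 = ⊤ := by
    refine ((inferInstance : (commutator F22).Normal).eq_bot_or_eq_top).resolve_left fun h => hna fun x y => ?_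
    have := Subgroup.commutator_mem_commutator (Subgroup.mem_top x) (Subgroup.mem_top y)
    rw [← commutator_def, h, Subgroup.mem_bot, commutatorElement_eq_one_iff_mul_comm] at this
    exact this
  have hcen : Subgroup.center ↥(KP a b) = π.ker := by
    refine le_antisymm (fun z hz => ?_) fun z hz => ?_
    · have h1 : π z ∈ Subgroup.center F22 := Subgroup.mem_center_iff.mpr fun y => by
        obtain ⟨w, rfl⟩ := hπs y
        rw [← map_mul, ← map_mul, Subgroup.mem_center_iff.mp hz w]
      rcases (inferInstance : (Subgroup.center F22).Normal).eq_bot_or_eq_top with e | e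
      · exact MonoidHom.mem_ker.mpr (Subgroup.mem_bot.mp (e ▸ h1))
      · exact absurd (fun x y => (Subgroup.mem_center_iff.mp (e ▸ Subgroup.mem_top y) x)) hna
    · refine Subgroup.mem_center_iff.mpr fun w => Subtype.ext ?_
      show (w : G) * z = z * w
      rcases (hπk z).mp hz with e | e <;> rw [e]
      · simp
      · obtain ⟨h1, h2⟩ := (mem_pair hD hp hZ B ha hb).mp w.2.2
        exact (h1.mul_right h2).eq
  have hCC : ⁅C, C⁆ ≤ ⁅KP a b, KP a b⁆ := by
    refine Subgroup.commutator_le.mpr fun x hx y hy => ?_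
    have hac : ∀ {g : G}, g ∈ C → Commute a g := fun hg => ((mem_pair hD hp hZ B ha hb).mp hg).1.symm
    have e1 : ∀ {p q : G}, p ∈ C → q ∈ C → ⁅a * p, q⁆ = ⁅p, q⁆ := fun {p q} hp' hq' => by
      rw [commutatorElement_def, commutatorElement_def, _root_.mul_inv_rev]
      calc a * p * q * (p⁻¹ * a⁻¹) * q⁻¹ = a * (p * q * p⁻¹) * (a⁻¹ * q⁻¹) := by group
        _ = (p * q * p⁻¹) * a * (a⁻¹ * q⁻¹) := by
          rw [(hac (mul_mem (mul_mem hp' hq') (inv_mem hp'))).eq]
        _ = _ := by group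
    have e2 : ∀ {p q : G}, p ∈ C → q ∈ C → ⁅p, a * q⁆ = ⁅p, q⁆ := fun {p q} hp' hq' => by
      rw [← commutatorElement_inv (a * q) p, e1 hq' hp', commutatorElement_inv]
    rcases half2 hx with hx' | hx' <;> rcases half2 hy with hy' | hy'
    · exact Subgroup.commutator_mem_commutator hx' hy'
    · rw [← e2 hx hy]; exact Subgroup.commutator_mem_commutator hx' hy'
    · rw [← e1 hx hy]; exact Subgroup.commutator_mem_commutator hx' hy'
    · rw [← e1 hx hy, ← e2 (mul_mem haC hx) hy]; exact Subgroup.commutator_mem_commutator hx' hy'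
  have hperf : ⁅KP a b, KP a b⁆ = KP a b := by
    refine le_antisymm (Subgroup.commutator_le.mpr fun x hx y hy => ?_) fun g hg => ?_
    · rw [commutatorElement_def]
      exact mul_mem (mul_mem (mul_mem hx hy) (inv_mem hx)) (inv_mem hy)
    have h1 : π ⟨g, hg⟩ ∈ (commutator ↥(KP a b)).map π := by
      rw [commutator_map_of_surjective _ hπs, hcom]
      exact Subgroup.mem_top _
    obtain ⟨y, hy, e⟩ := h1
    have hy' : (y : G) ∈ ⁅KP a b, KP a b⁆ := by
      have := Subgroup.mem_map_of_mem (KP a b).subtype hy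
      rwa [map_commutator_self] at this
    rcases (hπk (y⁻¹ * ⟨g, hg⟩)).mp (by rw [map_mul, map_inv, e, inv_mul_cancel]) with k | k
    · have k' : (y : G)⁻¹ * g = 1 := k
      rwa [← inv_mul_eq_one.mp k']
    · have k' : (y : G)⁻¹ * g = a * b := k
      rw [inv_mul_eq_iff_eq_mul.mp k']
      exact mul_mem hy' (hCC hc)
  refine ⟨π, hπs, hπk, ⟨⟨Subgroup.map_injective (Subgroup.subtype_injective _) ?_⟩, ?_⟩, hcen⟩
  · rw [map_commutator_self, ← MonoidHom.range_eq_map, Subgroup.range_subtype]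
    exact hperf
  · exact ((QuotientGroup.quotientMulEquivOfEq hcen).trans
      (QuotientGroup.quotientKerEquivOfSurjective π hπs)).isSimpleGroup

/-- Acting trivially modulo the product means being one or the product. -/
theorem pair_triv {g : G} (hg : g ∈ CP a b)
    (htriv : ∀ w : KP a b, g * w * g⁻¹ * (w : G)⁻¹ = 1 ∨ g * w * g⁻¹ * (w : G)⁻¹ = a * b) :
    g = 1 ∨ g = a * b := by
  classical
  obtain ⟨π, hπs, hπk, hq, hcen⟩ := proj_KP hD hp hZ B ha hb
  have hzc : ∀ v : KP a b, (v : G) = 1 ∨ (v : G) = a * b → v ∈ Subgroup.center ↥(KP a b) := fun v hv =>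
    hcen ▸ MonoidHom.mem_ker.mpr ((hπk v).mpr hv)
  letI : CommGroup ↥(Subgroup.center ↥(KP a b)) := { (inferInstance : Group ↥(Subgroup.center ↥(KP a b))) with
    mul_comm := fun x y => Subtype.ext (Subgroup.mem_center_iff.mp y.2 x) }
  have hKz : ∀ {v : G}, v = 1 ∨ v = a * b → v ∈ KP a b := fun {v} h => by
    rcases h with e | e <;> rw [e]
    · exact one_mem _
    · exact prod_mem_KP hD hp hZ B ha hb
  let h : ↥(KP a b) →* ↥(Subgroup.center ↥(KP a b)) :=
    MonoidHom.mk' (fun w => ⟨⟨_, hKz (htriv w)⟩, hzc ⟨_, hKz (htriv w)⟩ (htriv w)⟩) fun x y => by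
    refine Subtype.ext (Subtype.ext ?_)
    have hc1 : Commute (g * y * g⁻¹ * (y : G)⁻¹) (x : G) :=
      congrArg Subtype.val (Subgroup.mem_center_iff.mp (hzc ⟨_, hKz (htriv y)⟩ (htriv y)) x).symm
    show g * ((x : G) * y) * g⁻¹ * ((x : G) * y)⁻¹ =
      (g * x * g⁻¹ * (x : G)⁻¹) * (g * y * g⁻¹ * (y : G)⁻¹)
    calc g * ((x : G) * y) * g⁻¹ * ((x : G) * y)⁻¹ =
        (g * x * g⁻¹) * ((g * y * g⁻¹ * (y : G)⁻¹) * (x : G)⁻¹) := by group
      _ = (g * x * g⁻¹) * ((x : G)⁻¹ * (g * y * g⁻¹ * (y : G)⁻¹)) := by rw [(hc1.inv_right).eq]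
      _ = _ := by group
  have htop : h.ker = ⊤ := top_le_iff.mp (hq.1.commutator_eq_top ▸ Abelianization.commutator_subset_ker h)
  have hcent : ∀ w : KP a b, Commute g w := fun w => by
    have h1 : h w = 1 := MonoidHom.mem_ker.mp (by rw [htop]; exact Subgroup.mem_top w)
    have := congrArg (fun v : ↥(Subgroup.center ↥(KP a b)) => ((v : ↥(KP a b)) : G)) h1
    exact mul_inv_eq_iff_eq_mul.mp (mul_inv_eq_one.mp this)
  have hgc : Commute g (a * b) := Subgroup.mem_centralizer_singleton_iff.mp hg.2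
  rcases pair_cases hD hp hZ B ha hb hgc with e | e
  · have hgK := mem_KP_of_fix hD hp hZ B ha hb hg e
    refine (hπk ⟨g, hgK⟩).mp (MonoidHom.mem_ker.mp (hcen ▸ Subgroup.mem_center_iff.mpr fun w => ?_))
    exact Subtype.ext (hcent w).symm.eq
  · exfalso
    obtain ⟨y, hy⟩ : (Ds D a ∩ Ds D b).Nonempty := by
      rw [← Set.ncard_pos, M24.ncard_near hD B ha hb]
      norm_num
    have hya : y * a ∈ KP a b := ⟨mul_mem_L hD hp hZ B hy.1.1 ha, (mem_pair hD hp hZ B ha hb).mpr
      ⟨hy.1.2.2.symm.mul_left (Commute.refl a), hy.2.2.2.symm.mul_left hb.2.2⟩⟩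
    set y' := g * y * g⁻¹ with hy'
    have hy'D : y' ∈ D := cls_conj hD g hy.1.1
    have e1 : y' * b = y * a := by
      rw [hy', ← e, conj_mul]
      exact mul_inv_eq_iff_eq_mul.mpr (hcent ⟨_, hya⟩).eq
    have e2 : y' = y * a * b := by
      rw [← e1, mul_assoc, mul_self hD.1 hb.1, mul_one]
    have hc' : Commute y' a ∧ Commute y' b ∧ Commute y' y := by
      rw [e2]
      exact ⟨(hy.1.2.2.symm.mul_left (Commute.refl a)).mul_left hb.2.2.symm,
        (hy.2.2.2.symm.mul_left hb.2.2).mul_left (Commute.refl b),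
        ((Commute.refl y).mul_left hy.1.2.2).mul_left hy.2.2.2⟩
    refine M24.norel hD hp hZ B [y', y, a, b] (by simp) (by simp) ?_ ?_ ?_ ?_
    · have n1 : y' ≠ y := fun q => prod_ne_one hD hp hZ B ha hb
        (mul_left_cancel (a := y) (by rw [← mul_assoc, ← e2, q, mul_one]))
      have n2 : y' ≠ a := fun q => hy.2.2.1 (by
        have h' : y * a * b = a := e2.symm.trans q
        rw [mul_assoc, hb.2.2.eq, ← mul_assoc, mul_eq_right] at h'
        have := (eq_inv_of_mul_eq_one_left h')
        rwa [inv_self hD.1 hb.1] at this)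
      have n3 : y' ≠ b := fun q => hy.1.2.1 (by
        have h' : y * a * b = b := e2.symm.trans q
        rw [mul_eq_right] at h'
        have := (eq_inv_of_mul_eq_one_left h')
        rwa [inv_self hD.1 ha] at this)
      simp [n1, n2, n3, hy.1.2.1, hy.2.2.1, hb.2.1.symm]
    · intro w hw
      simp only [List.mem_cons, List.not_mem_nil, or_false] at hw
      rcases hw with rfl | rfl | rfl | rfl
      exacts [hy'D, hy.1.1, ha, hb.1]
    · intro w hw v hv
      simp only [List.mem_cons, List.not_mem_nil, or_false] at hw hv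
      obtain ⟨q1, q2, q3⟩ := hc'
      have q4 := hy.1.2.2
      have q5 := hy.2.2.2
      have q6 := hb.2.2
      rcases hw with rfl | rfl | rfl | rfl <;> rcases hv with rfl | rfl | rfl | rfl
      all_goals first | exact Commute.refl _ | assumption | exact Commute.symm (by assumption)
    · simp only [List.prod_cons, List.prod_nil, mul_one]
      rw [show y' * (y * (a * b)) = y' * (y * a * b) by group, ← e2, mul_self hD.1 hy'D]

theorem KP_normal : ((KP a b).subgroupOf (CP a b)).Normal :=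
  Subgroup.normal_of_index_eq_two (index_KP hD hp hZ B ha hb)

/-- The action on the simple quotient. -/
theorem pair_aut : ∃ α : ↥(CP a b) →* MulAut F22,
    α.ker = (Subgroup.zpowers (a * b)).subgroupOf (CP a b) ∧ Function.Surjective α := by
  classical
  obtain ⟨π, hs, hπk, hq, hcen⟩ := proj_KP hD hp hZ B ha hb
  haveI := KP_normal hD hp hZ B ha hb
  have hle := KP_le_CP hD hp hZ B ha hb
  have hn : ∀ (g : CP a b) {w : G}, w ∈ KP a b → (g : G) * w * (g : G)⁻¹ ∈ KP a b := fun g {w} hw =>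
    (inferInstance : ((KP a b).subgroupOf (CP a b)).Normal).conj_mem ⟨w, hle hw⟩ hw g
  let c : CP a b → ↥(KP a b) →* ↥(KP a b) := fun g =>
    MonoidHom.mk' (fun w => ⟨(g : G) * w * (g : G)⁻¹, hn g w.2⟩) fun x y => Subtype.ext conj_mul.symm
  have hzz : ∀ (g : CP a b), (g : G) * (a * b) * (g : G)⁻¹ = a * b := fun g =>
    mul_inv_eq_iff_eq_mul.mpr (Subgroup.mem_centralizer_singleton_iff.mp g.2.2)
  have hc : ∀ g, π.ker ≤ (π.comp (c g)).ker := fun g w hw => by
    refine (hπk (c g w)).mpr ?_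
    show (g : G) * w * (g : G)⁻¹ = 1 ∨ (g : G) * w * (g : G)⁻¹ = a * b
    rcases (hπk w).mp hw with e | e <;> rw [e]
    · simp
    · exact Or.inr (hzz g)
  let β : CP a b → (F22 →* F22) := fun g => π.liftOfSurjective hs ⟨π.comp (c g), hc g⟩
  have hβ : ∀ g w, β g (π w) = π (c g w) := fun g w => by
    exact MonoidHom.liftOfRightInverse_comp_apply _ _ _ _ w
  have hmul : ∀ x y v, β (x * y) v = β x (β y v) := fun x y v => by
    obtain ⟨w, rfl⟩ := hs v
    rw [hβ, hβ, hβ]
    exact congrArg π (Subtype.ext (by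
      show ((x * y : CP a b) : G) * w * ((x * y : CP a b) : G)⁻¹ = x * (y * w * (y : G)⁻¹) * (x : G)⁻¹
      rw [Subgroup.coe_mul, cj_cj]))
  have hone : ∀ v, β 1 v = v := fun v => by
    obtain ⟨w, rfl⟩ := hs v
    rw [hβ]
    exact congrArg π (Subtype.ext (by show ((1 : CP a b) : G) * w * ((1 : CP a b) : G)⁻¹ = w; simp))
  let α : ↥(CP a b) →* MulAut F22 := MonoidHom.mk'
    (fun g => MonoidHom.toMulEquiv (β g) (β g⁻¹)
      (MonoidHom.ext fun v => by show β g⁻¹ (β g v) = v; rw [← hmul, inv_mul_cancel, hone])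
      (MonoidHom.ext fun v => by show β g (β g⁻¹ v) = v; rw [← hmul, mul_inv_cancel, hone]))
    fun x y => MulEquiv.ext fun v => hmul x y v
  have hz2 : (a * b) * (a * b) = 1 := by
    rw [← pow_two, hb.2.2.mul_pow, pow_two, pow_two, mul_self hD.1 ha, mul_self hD.1 hb.1, one_mul]
  have hzp : ∀ v : G, v ∈ Subgroup.zpowers (a * b) ↔ v = 1 ∨ v = a * b := fun v => by
    refine ⟨fun h => ?_, fun h => by rcases h with e | e <;> rw [e] <;> simp⟩
    obtain ⟨n, rfl⟩ := Subgroup.mem_zpowers_iff.mp h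
    rcases Int.even_or_odd' n with ⟨j, rfl | rfl⟩
    · left; rw [zpow_mul, zpow_two, hz2, one_zpow]
    · right; rw [zpow_add, zpow_mul, zpow_two, hz2, one_zpow, one_mul, zpow_one]
  have hker : α.ker = (Subgroup.zpowers (a * b)).subgroupOf (CP a b) := by
    ext g
    rw [Subgroup.mem_subgroupOf, hzp]
    constructor
    · intro hg
      refine pair_triv hD hp hZ B ha hb g.2 fun w => ?_
      have e : β g (π w) = π w := DFunLike.congr_fun (MonoidHom.mem_ker.mp hg) (π w)
      rw [hβ] at e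
      exact (hπk (c g w * w⁻¹)).mp (by rw [map_mul, map_inv, e, mul_inv_cancel])
    · intro hg
      refine MonoidHom.mem_ker.mpr (MulEquiv.ext fun v => ?_)
      obtain ⟨w, rfl⟩ := hs v
      show β g (π w) = π w
      rw [hβ]
      refine congrArg π (Subtype.ext ?_)
      show (g : G) * w * (g : G)⁻¹ = w
      refine mul_inv_eq_iff_eq_mul.mpr ?_
      obtain ⟨h1, h2⟩ := (mem_pair hD hp hZ B ha hb).mp w.2.2
      rcases hg with e | e <;> rw [e]
      · simp
      · exact (h1.mul_right h2).symm.eq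
  refine ⟨α, hker, ?_⟩
  haveI := finiteK
  haveI : Finite (MulAut F22) := Finite.of_injective (fun φ => (φ : F22 → F22)) DFunLike.coe_injective
  have hA : Nat.card (MulAut F22) = 2 * 64561751654400 := CfsgLib.CosetEnum.Fi22Outer.card_mulAutK
  have hzc : Nat.card ↥((Subgroup.zpowers (a * b)).subgroupOf (CP a b)) = 2 := by
    rw [Nat.card_congr (Subgroup.subgroupOfEquivOfLe (Subgroup.zpowers_le.mpr
      (hle (prod_mem_KP hD hp hZ B ha hb)))).toEquiv, Nat.card_zpowers,
      orderOf_eq_prime (by rw [pow_two]; exact hz2) (prod_ne_one hD hp hZ B ha hb)]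
  have hpk : Nat.card π.ker = 2 := by
    rw [← hzc]
    have hsub : π.ker.map (KP a b).subtype = Subgroup.zpowers (a * b) := by
      ext v
      constructor
      · rintro ⟨w, hw, rfl⟩
        exact (hzp _).mpr ((hπk w).mp hw)
      · intro hv
        have hvK : v ∈ KP a b := by
          rcases (hzp v).mp hv with e | e <;> rw [e]
          · exact one_mem _
          · exact prod_mem_KP hD hp hZ B ha hb
        exact ⟨⟨v, hvK⟩, (hπk ⟨v, hvK⟩).mpr ((hzp v).mp hv), rfl⟩
    rw [Nat.card_congr (π.ker.equivMapOfInjective _ (Subgroup.subtype_injective _)).toEquiv, hsub,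
      Nat.card_congr (Subgroup.subgroupOfEquivOfLe (Subgroup.zpowers_le.mpr
        (hle (prod_mem_KP hD hp hZ B ha hb)))).toEquiv]
  have hKc : Nat.card ↥(KP a b) = 2 * 64561751654400 := by
    rw [← π.ker.card_mul_index, Subgroup.index_ker, MonoidHom.range_eq_top.mpr hs, Subgroup.card_top, hpk,
      show Nat.card F22 = 64561751654400 from Cfsg.Agent.S1696.result.2]
  have hCc : Nat.card ↥(CP a b) = Nat.card ↥(KP a b) * 2 := by
    rw [← ((KP a b).subgroupOf (CP a b)).card_mul_index, index_KP hD hp hZ B ha hb,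
      Nat.card_congr (Subgroup.subgroupOfEquivOfLe hle).toEquiv]
  have h1 := α.ker.card_mul_index
  rw [Subgroup.index_ker, hker, hzc, hCc, hKc] at h1
  exact MonoidHom.range_eq_top.mp (Subgroup.eq_top_of_card_eq _ (by rw [hA]; omega))

/-- The generalised Fitting subgroup. -/
theorem gfit_CP : (generalizedFittingSubgroup ↥(CP a b)).map (CP a b).subtype = KP a b := by
  classical
  obtain ⟨π, hs, hπk, hq, hcen⟩ := proj_KP hD hp hZ B ha hb
  haveI hS : IsSimpleGroup F22 := Cfsg.Agent.S1696.result.1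
  haveI := finiteK
  set Y := (KP a b).subgroupOf (CP a b)
  haveI hYn : Y.Normal := KP_normal hD hp hZ B ha hb
  have hle := KP_le_CP hD hp hZ B ha hb
  have hback : ∀ {v : G}, v = 1 ∨ v = a * b → v ∈ KP a b := fun {v} h => by
    rcases h with e | e <;> rw [e]
    · exact one_mem _
    · exact prod_mem_KP hD hp hZ B ha hb
  have hgf : generalizedFittingSubgroup ↥(CP a b) = Y := by
    refine le_antisymm (CfsgLib.Comp.gfit_le_of_centralizer_le Y ?_ fun z hz => ?_) (le_sup_of_le_left (le_layer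
      ⟨hYn.isSubnormal, isQuasisimple_of_equiv (Subgroup.subgroupOfEquivOfLe hle).symm hq⟩))
    · set F := fittingSubgroup ↥(CP a b)
      let e : ↥(KP a b) →* ↥(CP a b) := Subgroup.inclusion hle
      set M := F.comap e
      haveI : M.Normal := Subgroup.Normal.comap inferInstance e
      haveI : Group.IsNilpotent F := isNilpotent_fittingSubgroup
      haveI hMs : Group.IsSolvable M := Group.isSolvable_of_isSolvable_injective
        (f := (e.comp M.subtype).codRestrict F fun x => x.2)
        (fun x y h => Subtype.ext (Subgroup.inclusion_injective hle (congrArg Subtype.val h)))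
      have hMim : Group.IsSolvable (M.map π) := Group.isSolvable_of_surjective
        (f := π.subgroupMap M) (MonoidHom.subgroupMap_surjective _ _)
      haveI : (M.map π).Normal := Subgroup.Normal.map inferInstance _ hs
      have hbot : M.map π = ⊥ := by
        refine (IsSimpleGroup.eq_bot_or_eq_top_of_normal _ inferInstance).resolve_right fun htop => ?_
        rw [htop] at hMim
        haveI := hMim
        have hsol : Group.IsSolvable F22 :=
          Group.isSolvable_of_surjective (f := (Subgroup.topEquiv (G := F22)).toMonoidHom)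
            (Subgroup.topEquiv (G := F22)).surjective
        have hcm := IsSimpleGroup.comm_iff_isSolvable.mpr hsol
        letI : CommGroup F22 := { (inferInstance : Group F22) with mul_comm := hcm }
        have hp' := IsSimpleGroup.prime_card (α := F22)
        rw [show Nat.card F22 = 64561751654400 from Cfsg.Agent.S1696.result.2] at hp'
        have h2 := (hp'.eq_one_or_self_of_dvd 2 (by norm_num))
        norm_num at h2
      intro f hf
      refine hback (pair_triv hD hp hZ B ha hb f.2 fun w => ?_)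
      let w' : ↥(CP a b) := ⟨w, hle w.2⟩
      have hm : f * w' * f⁻¹ * w'⁻¹ ∈ F := by
        rw [mul_assoc f, mul_assoc f]
        exact mul_mem hf ((inferInstance : F.Normal).conj_mem _ (inv_mem hf) w')
      have hY' : f * w' * f⁻¹ * w'⁻¹ ∈ Y := mul_mem (hYn.conj_mem w' w.2 f) (inv_mem (show w' ∈ Y from w.2))
      exact (hπk ⟨_, hY'⟩).mp (Subgroup.mem_bot.mp (hbot ▸
        Subgroup.mem_map_of_mem π (show (⟨_, hY'⟩ : ↥(KP a b)) ∈ M from hm)))
    · refine hback (pair_triv hD hp hZ B ha hb z.2 fun w => Or.inl ?_)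
      have := congrArg Subtype.val (Subgroup.mem_centralizer_iff.mp hz ⟨w, hle w.2⟩ w.2)
      show (z : G) * w * (z : G)⁻¹ * (w : G)⁻¹ = 1
      rw [show (z : G) * w = w * z from this.symm, mul_inv_cancel_right, mul_inv_cancel]
  rw [hgf, Subgroup.map_subgroupOf_eq_of_le hle]

end

end CfsgThreeTrans.M24
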